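import Cfsg.Agent.BC84.Dihedral.PairColumns
import Cfsg.Agent.BC85.Contribution

/-!
# The classes of the subsections below a maximal pair

The number of members of a block is the sum of the ranks over representatives of the fusion classes
of the defect group.
-/

set_option autoImplicit false
set_option linter.unusedSectionVars false

namespace Cfsg.Agent.BC84.Tame

open BlocksCore BlocksDefect BC85 BC85.Star BC84.Dihedral
open scoped Classical ComplexConjugate

universe u

variable {G : Type u} [Group G] [Fintype G] {p : ℕ} [Fact p.Prime] {M : Ideal AlgInt}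
  [hP : M.IsPrime] (hM : IsPModular p M) {B : Set (IrrCharacter G)} {P : Subgroup G}
  {e : Set (IrrCharacter (Subgroup.centralizer (P : Set G)))}
  (hmax : IsMaximalBrauerPair p M B P e)

include hM hmax

/-- Fusion of the pairs below the maximal one. -/
def Fused (v w : P) : Prop :=
  ∃ g : G, g * w * g⁻¹ = v ∧ conjPair g (atBelow hM hmax w) = atBelow hM hmax v

theorem classOf_eq (v w : P) : classOf hM hmax v w = if Fused hM hmax v w then 1 else 0 :=
  if_congr Iff.rfl rfl rfl

theorem fused_refl (v : P) : Fused hM hmax v v := ⟨1, by simp, by rw [conjPair_one]⟩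

theorem Fused.symm {v w : P} (h : Fused hM hmax v w) : Fused hM hmax w v := by
  obtain ⟨g, hg, hg'⟩ := h
  exact ⟨g⁻¹, by rw [← hg]; group, by rw [← hg', conjPair_conjPair, inv_mul_cancel, conjPair_one]⟩

theorem Fused.trans {v w x : P} (h : Fused hM hmax v w) (h' : Fused hM hmax w x) :
    Fused hM hmax v x := by
  obtain ⟨g, hg, hg'⟩ := h
  obtain ⟨t, ht, ht'⟩ := h'
  exact ⟨g * t, by rw [← hg, ← ht]; group, by rw [← conjPair_conjPair, ht', hg']⟩

theorem fused_conj (v t : P) : Fused hM hmax (t * v * t⁻¹) v :=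
  ⟨(t : G), by push_cast; rfl, conj_atBelow hM hmax v t⟩

theorem Fused.orderOf_eq {v w : P} (h : Fused hM hmax v w) : orderOf (v : G) = orderOf (w : G) := by
  obtain ⟨g, hg, -⟩ := h
  rw [← hg, orderOf_conjugate]

theorem Fused.eq_one {w : P} (h : Fused hM hmax 1 w) : w = 1 := by
  obtain ⟨g, hg, -⟩ := h
  exact Subtype.ext (by simpa using hg)

theorem etaOf_sum {ι : Type*} (s : Finset ι) (θ : ι → P → ℂ) (a : BrauerPairIdx G) (v : G) :
    etaOf p M P e (fun x => ∑ i ∈ s, θ i x) a v = ∑ i ∈ s, etaOf p M P e (θ i) a v := by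
  simp only [etaOf]
  split_ifs
  · rfl
  · simp

theorem etaOf_classOf_iff (v : P) {u : G} {a : BrauerPairIdx G}
    (ha : a ∈ pairsAt M (Subgroup.zpowers u)) :
    etaOf p M P e (classOf hM hmax v) a u =
      if ∃ t : G, t * v * t⁻¹ = u ∧ conjPair t (atBelow hM hmax v) = a then 1 else 0 := by
  obtain ⟨ha1, -⟩ := mem_pairsAt.mp ha
  by_cases hB : IsBrauerPairOf p M B a.1 a.2
  · obtain ⟨x, hx, hxu⟩ := exists_conj_mem hM hmax ha1 hB
    have hxa : conjPair x a = atBelow hM hmax ⟨x * u * x⁻¹, hxu⟩ :=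
      below_ext hM hmax hx (atBelow_le hM hmax _) (by
        rw [conjPair_fst, ha1, map_conj_zpowers]; rfl)
    rw [etaOf_eq (isPairStable_classOf hM hmax v) ha1 hx hxu, classOf_eq]
    refine if_congr ⟨?_, ?_⟩ rfl rfl
    · rintro ⟨g, hg, hg'⟩
      refine ⟨(g * x)⁻¹, ?_, ?_⟩
      · rw [← hg]; group
      · rw [← hg', ← hxa, conjPair_conjPair, conjPair_conjPair]
        rw [show (g * x)⁻¹ * g * x = 1 by group, conjPair_one]
    · rintro ⟨t, ht, ht'⟩
      refine ⟨(x * t)⁻¹, ?_, ?_⟩
      · show (x * t)⁻¹ * (x * u * x⁻¹) * (x * t)⁻¹⁻¹ = v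
        rw [← ht]; group
      · rw [← hxa, ← ht', conjPair_conjPair, conjPair_conjPair,
          show (x * t)⁻¹ * x * t = 1 by group, conjPair_one]
  · rw [etaOf_eq_zero hM hmax hB, if_neg]
    rintro ⟨t, -, ht'⟩
    exact hB (ht' ▸ pairOf_conj hM (atBelow_pairOf hM hmax v) t)

/-- A subsection has as many conjugates as its centralizer has cosets. -/
theorem classCount_mul (v : P) :
    classCount hM hmax v * (Nat.card (Subgroup.centralizer ({(v : G)} : Set G)) : ℂ) =
      (Nat.card G : ℂ) := by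
  have hfib : ∀ u : G, ∀ a ∈ pairsAt M (Subgroup.zpowers u),
      etaOf p M P e (classOf hM hmax v) a u *
        (Nat.card (Subgroup.centralizer ({(v : G)} : Set G)) : ℂ) =
      ∑ t : G, if t * v * t⁻¹ = u ∧ conjPair t (atBelow hM hmax v) = a then (1 : ℂ) else 0 := by
    intro u a ha
    rw [etaOf_classOf_iff hM hmax v ha]
    split_ifs with hex
    · obtain ⟨t₀, ht, ht'⟩ := hex
      rw [one_mul, Finset.sum_boole, Nat.card_eq_fintype_card]
      congr 1
      refine Finset.card_bij (fun c _ => t₀ * (c : G)) (fun c _ => ?_) (fun c _ d _ h => ?_)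
        fun t ht₀ => ?_
      · have hc := Subgroup.mem_centralizer_singleton_iff.mp c.2
        refine Finset.mem_filter.mpr ⟨Finset.mem_univ _, ?_, ?_⟩
        · calc t₀ * c * v * (t₀ * c)⁻¹ = t₀ * ((c : G) * v * (c : G)⁻¹) * t₀⁻¹ := by group
            _ = u := by rw [mul_inv_eq_iff_eq_mul.mpr hc, ht]
        · rw [← conjPair_conjPair, conjPair_fixed_of_centralizer rfl c.2, ht']
      · exact Subtype.ext (mul_left_cancel h)
      · obtain ⟨-, h1, -⟩ := Finset.mem_filter.mp ht₀
        refine ⟨⟨t₀⁻¹ * t, Subgroup.mem_centralizer_singleton_iff.mpr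
          (mul_inv_eq_iff_eq_mul.mp ?_)⟩, Finset.mem_univ _, mul_inv_cancel_left t₀ t⟩
        calc t₀⁻¹ * t * v * (t₀⁻¹ * t)⁻¹ = t₀⁻¹ * (t * v * t⁻¹) * t₀ := by group
          _ = v := by rw [h1, ← ht]; group
    · rw [zero_mul]
      refine (Finset.sum_eq_zero fun t _ => ?_).symm
      rw [if_neg fun h => hex ⟨t, h⟩]
  rw [classCount, Finset.sum_mul, Finset.sum_congr rfl fun u _ => by
    rw [Finset.sum_mul, Finset.sum_congr rfl fun a ha => hfib u a ha, Finset.sum_comm],
    Finset.sum_comm, Finset.sum_congr rfl fun t _ => ?_, Finset.sum_const, nsmul_one,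
    Nat.card_eq_fintype_card, ← Finset.card_univ]
  have hord : ∃ n : ℕ, orderOf (t * v * t⁻¹) = p ^ n :=
    ⟨_, (orderOf_conjugate _ t).trans (orderOf_pow_of_mem hmax.1.1.1 v.2).choose_spec⟩
  rw [Finset.sum_eq_single (t * v * t⁻¹) (fun u _ hu => Finset.sum_eq_zero fun a _ => by
      rw [if_neg fun h => hu h.1.symm]) fun hn => absurd
      (show t * (v : G) * t⁻¹ ∈ Finset.univ.filter (fun u : G => ∃ n : ℕ, orderOf u = p ^ n) from
        Finset.mem_filter.mpr ⟨Finset.mem_univ _, hord⟩) hn,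
    Finset.sum_eq_single (conjPair t (atBelow hM hmax v)) (fun a _ ha => by
      rw [if_neg fun h => ha h.2.symm]) fun hn => absurd ?_ hn, if_pos ⟨rfl, rfl⟩]
  refine mem_pairsAt.mpr ⟨by rw [conjPair_fst]; exact map_conj_zpowers _ _, ?_⟩
  exact (isBrauerPair_conj hM (a := atBelow hM hmax v) (x := t)
    (subpairLE_isBrauerPair (Q := (atBelow hM hmax v).1) (f := (atBelow hM hmax v).2)
      (atBelow_le hM hmax v) hmax.1.1)).2

/-- The trace of the products with a subsection. -/
theorem trace_classOf (v : P) :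
    ∑ χ ∈ CharCore.SubContrib.mems B,
        classInner (starMul p M P e (classOf hM hmax v) (χ : G → ℂ)) (χ : G → ℂ) =
      (blockRank p (atBelow hM hmax v).2 : ℂ) := by
  rw [Finset.sum_congr rfl fun χ _ => by
      rw [starMul, classInner_starFun_eq hM,
        sum_classOf hM hmax v (fun a u => contribAt p a u (χ : G → ℂ) (χ : G → ℂ))
          fun t => contribAt_conjPair (irr_class χ) (irr_class χ) _ t _],
    ← Finset.mul_sum, ← Finset.mul_sum,
    trace_contribAt hM hmax.1.2.1 (orderOf_pow_of_mem hmax.1.1.1 v.2) (atBelow_mem hM hmax v)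
      (atBelow_pairOf hM hmax v), ← mul_assoc, ← mul_assoc, mul_assoc _ (classCount hM hmax v),
    classCount_mul, inv_mul_cancel₀ (Nat.cast_ne_zero.mpr Nat.card_pos.ne'), one_mul]

/-- The projection to the subsection of one. -/
theorem proj_atBelow_one {χ : IrrCharacter G} (hχ : χ ∈ B) {s : G} (hs : ¬ p ∣ orderOf s) :
    proj (atBelow hM hmax 1) (1 : G) (χ : G → ℂ) s = (χ : G → ℂ) s := by
  have h1 := sum_proj (M := M) hM (1 : G) (χ : G → ℂ) s
  rw [one_mul] at h1
  refine Eq.trans ?_ h1
  refine Eq.symm (Finset.sum_eq_single (atBelow hM hmax 1) (fun a ha hne => ?_)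
    (fun hn => absurd (atBelow_mem hM hmax 1) hn))
  by_cases hB : IsBrauerPairOf p M B a.1 a.2
  · exfalso
    obtain ⟨x, hx, hxu⟩ := exists_conj_mem hM hmax (mem_pairsAt.mp ha).1 hB
    have hxa : conjPair x a = atBelow hM hmax 1 :=
      below_ext hM hmax hx (atBelow_le hM hmax _) (by
        rw [conjPair_fst, (mem_pairsAt.mp ha).1, map_conj_zpowers]
        show Subgroup.zpowers (x * 1 * x⁻¹) = Subgroup.zpowers (1 : G)
        rw [mul_one, mul_inv_cancel])
    refine hne (Eq.trans ?_ hxa)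
    exact (conjPair_fixed_of_centralizer (mem_pairsAt.mp ha).1
      (Subgroup.mem_centralizer_singleton_iff.mpr (by simp))).symm
  · exact proj_eq_zero_of_not_pairOf hM hmax.1.2.1 hχ (v := (1 : G)) ⟨0, by simp⟩ ha hB
      (s := ⟨s, Subgroup.mem_centralizer_singleton_iff.mpr (by simp)⟩)
      (by rwa [← Subgroup.orderOf_coe])

theorem blockRank_atBelow_one : blockRank p (atBelow hM hmax 1).2 = blockRank p B := by
  have h1 := trace_contribAt hM hmax.1.2.1 (v := (1 : G)) ⟨0, by simp⟩
    (atBelow_mem hM hmax 1) (atBelow_pairOf hM hmax 1)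
  rw [show Nat.card (Subgroup.centralizer ({(1 : G)} : Set G)) = Nat.card G by
    rw [show Subgroup.centralizer ({(1 : G)} : Set G) = ⊤ from
      eq_top_iff.mpr fun c _ => Subgroup.mem_centralizer_singleton_iff.mpr (by simp),
      Subgroup.card_top]] at h1
  haveI := Fintype.ofFinite B
  have h2 := blockRank_eq_sum hM hmax.1.2.1 (p := p)
  refine Nat.cast_injective (R := ℂ) (mul_left_cancel₀
    (Nat.cast_ne_zero.mpr Nat.card_pos.ne' : (Nat.card G : ℂ) ≠ 0) ?_)
  rw [← h1, h2, Finset.mul_sum, ← Finset.sum_subtype (CharCore.SubContrib.mems B)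
    (fun _ => CharCore.SubContrib.mem_mems) (fun χ : IrrCharacter G => (Nat.card G : ℂ) * prj p χ χ)]
  refine Finset.sum_congr rfl fun χ hχ => ?_
  rw [contribAt_eq_sum hM (v := (1 : G)) ⟨0, by simp⟩ (atBelow_mem hM hmax 1) (irr_class χ) (irr_class χ), prj_def,
    classInner, ← mul_assoc, mul_inv_cancel₀ (Nat.cast_ne_zero.mpr Nat.card_pos.ne'), one_mul,
    sect, Finset.sum_filter]
  refine Finset.sum_congr rfl fun s _ => ?_
  by_cases hs : p ∣ orderOf s
  · rw [if_neg fun h => h.2 hs, BC85.pRegularPart_neg hs, zero_mul]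
  · rw [if_pos ⟨Subgroup.mem_centralizer_singleton_iff.mpr (by simp), hs⟩,
      BC85.pRegularPart_pos hs, proj_atBelow_one hM hmax (CharCore.SubContrib.mem_mems.mp hχ) hs]

/-- Brauer's count over representatives of the fusion classes. -/
theorem card_eq_sum_reps (R : Finset P) (hcover : ∀ x, ∃ v ∈ R, Fused hM hmax v x)
    (hsep : ∀ v ∈ R, ∀ w ∈ R, Fused hM hmax v w → v = w) :
    Nat.card B = ∑ v ∈ R, blockRank p (atBelow hM hmax v).2 := by
  have hone : (fun _ : P => (1 : ℂ)) = fun x => ∑ v ∈ R, classOf hM hmax v x := by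
    funext x
    obtain ⟨v, hv, hvx⟩ := hcover x
    rw [Finset.sum_eq_single v]
    · rw [classOf_eq, if_pos hvx]
    · intro w hw hne
      rw [classOf_eq, if_neg fun hwx => hne (hsep w hw v hv (hwx.trans hM hmax hvx.symm))]
    · exact fun hn => absurd hv hn
  refine Nat.cast_injective (R := ℂ) ?_
  rw [Nat.cast_sum, ← Finset.sum_congr rfl fun v _ => trace_classOf hM hmax v, Finset.sum_comm,
    show Nat.card B = (CharCore.SubContrib.mems B).card by
      haveI := Fintype.ofFinite B
      rw [Nat.card_eq_fintype_card, ← Finset.card_univ, Finset.card_eq_sum_ones,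
        ← Finset.sum_subtype (CharCore.SubContrib.mems B)
          (fun _ => CharCore.SubContrib.mem_mems) (fun _ : IrrCharacter G => 1),
        ← Finset.card_eq_sum_ones],
    Finset.card_eq_sum_ones, Nat.cast_sum]
  refine Finset.sum_congr rfl fun χ hχ => ?_
  rw [Nat.cast_one, ← CharCore.classInner_irr_self χ]
  conv_lhs =>
    arg 1
    rw [← starMul_one hM hmax (CharCore.SubContrib.mem_mems.mp hχ)]
  simp only [starMul, classInner_starFun_eq hM, hone]
  rw [← Finset.mul_sum]
  congr 1
  rw [Finset.sum_comm (s := R)]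
  refine Finset.sum_congr rfl fun u _ => ?_
  rw [Finset.sum_comm]
  refine Finset.sum_congr rfl fun a _ => ?_
  rw [etaOf_sum hM hmax, Finset.sum_mul]

end Cfsg.Agent.BC84.Tame
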