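import Mathlib.Data.ZMod.Basic
import Mathlib.Data.Real.Basic
import Mathlib.LinearAlgebra.Dimension.Constructions
import Mathlib.LinearAlgebra.FiniteDimensional.Basic
import Mathlib.Tactic

/-!
# The integral relations of a block with semidihedral or quaternion defect group

`a x j` is the `j`-th coefficient at the member `x` of the column at the rotations, `t`, `u`, `v`
are orthogonal coordinates of the projection to the section of the central involution and `l` is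
the rank of that section.
-/

set_option autoImplicit false
set_option linter.unusedSectionVars false

namespace Cfsg.Agent.BC84.Tame

open scoped Classical

/-- The scalar product of two coefficient columns. -/
def br {N : ℕ} (κ i j : ZMod N) : ℤ := (if i = j then 1 else 0) + (if κ * i = j then 1 else 0)

/-- The integral relations. -/
structure Data (ι : Type*) [Fintype ι] (h : ℕ) where
  κ : ZMod (2 * h)
  a : ι → ZMod (2 * h) → ℤ
  ht : ι → ℕ
  deg : ι → ℤ
  t : ι → ℤ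
  u : ι → ℤ
  v : ι → ℤ
  l : ℕ
  wt : ℤ
  pow : ∃ e : ℕ, 1 ≤ e ∧ h = 2 ^ e
  kappa_sq : κ * κ = 1
  kappa_fix : ∀ c, κ * c = c → c = 0 ∨ c = (h : ℕ)
  kappa_half : κ * (h : ℕ) = (h : ℕ)
  kappa_par : ∀ c, (κ * c).val % 2 = c.val % 2
  gram : ∀ i j k m, i.val % 2 = j.val % 2 → k.val % 2 = m.val % 2 →
    ∑ x, (a x i - a x j) * (a x k - a x m) = br κ i k - br κ i m - br κ j k + br κ j m
  g_ne : ∀ x, ht x = 0 → a x 0 - a x (h : ℕ) ≠ 0
  orth_t : ∀ i j, i.val % 2 = j.val % 2 → ∑ x, (a x i - a x j) * t x = 0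
  orth_u : ∀ i j, i.val % 2 = j.val % 2 → ∑ x, (a x i - a x j) * u x = 0
  orth_v : ∀ i j, i.val % 2 = j.val % 2 → ∑ x, (a x i - a x j) * v x = 0
  orth_deg : ∀ i j, i.val % 2 = j.val % 2 → ∑ x, (a x i - a x j) * deg x = 0
  deg_pos : ∀ x, 0 < deg x
  t_deg : ∑ x, t x * deg x = 0
  u_deg : ∑ x, u x * deg x = 0
  v_deg : ∑ x, v x * deg x = 0
  t_u : ∑ x, t x * u x = 0
  t_v : ∑ x, t x * v x = 0
  u_v : ∑ x, u x * v x = 0
  norm_t : ∑ x, t x ^ 2 = 4 * (h : ℤ)
  odd_t : ∀ x, ¬ (2 : ℤ) ∣ t x ↔ ht x = 0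
  zero : ∃ x, ht x = 0
  val : ∀ x y, ht y = 0 → ∃ m : ℤ, ¬ (2 : ℤ) ∣ m ∧
    t x * t y + wt * (u x * u y + v x * v y) = 2 ^ ht x * m
  shape : (l = 1 ∧ (∀ x, u x = 0) ∧ ∀ x, v x = 0) ∨
    (l = 2 ∧ 4 ≤ h ∧ 2 * wt = (h : ℤ) ∧ ∑ x, u x ^ 2 = 8 ∧ (∀ x, v x = 0) ∧
      ∀ x, (2 : ℤ) ∣ t x - u x) ∨
    (l = 3 ∧ wt = (h : ℤ) ∧ ∑ x, u x ^ 2 = 4 ∧ ∑ x, v x ^ 2 = 4 ∧
      ∀ x, (2 : ℤ) ∣ t x - u x - v x)

theorem sq_one_of_le {z : ℤ} (h1 : z ≠ 0) (h2 : z ^ 2 ≤ 3) : z = 1 ∨ z = -1 := by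
  rcases (by omega : z ≤ -2 ∨ z = -1 ∨ z = 1 ∨ 2 ≤ z) with h' | h' | h' | h'
  · nlinarith
  · exact Or.inr h'
  · exact Or.inl h'
  · nlinarith

theorem four_le_sq {z : ℤ} (h1 : z ≠ 0) (h2 : (2 : ℤ) ∣ z) : 4 ≤ z ^ 2 := by
  obtain ⟨q, rfl⟩ := h2
  have : 1 ≤ q ^ 2 := sq_pos_of_ne_zero (by simpa using h1)
  nlinarith

theorem one_le_sq_of_odd {z : ℤ} (h : ¬ (2 : ℤ) ∣ z) : 1 ≤ z ^ 2 :=
  sq_pos_of_ne_zero fun (h0 : z = 0) => h (by rw [h0]; exact dvd_zero 2)

/-- An integral vector of norm four is one double entry or has entries of absolute value at most one. -/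
theorem norm_four {ι : Type*} [Fintype ι] {w : ι → ℤ} (hw : ∑ x, w x ^ 2 = 4) :
    (∃ x, w x ^ 2 = 4 ∧ ∀ y, y ≠ x → w y = 0) ∨
      ((∀ x, w x = 0 ∨ w x = 1 ∨ w x = -1) ∧ (Finset.univ.filter fun x => w x ≠ 0).card = 4) := by
  classical
  by_cases hbig : ∃ x, 2 ≤ w x ∨ w x ≤ -2
  · obtain ⟨x, hx⟩ := hbig
    have h4 : 4 ≤ w x ^ 2 := by rcases hx with h | h <;> nlinarith
    have hsum := hw
    rw [← Finset.add_sum_erase _ _ (Finset.mem_univ x)] at hsum
    have hnn : ∀ y ∈ Finset.univ.erase x, 0 ≤ w y ^ 2 := fun y _ => sq_nonneg _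
    have h0 : ∑ y ∈ Finset.univ.erase x, w y ^ 2 = 0 :=
      le_antisymm (by linarith) (Finset.sum_nonneg hnn)
    exact Or.inl ⟨x, by linarith, fun y hy => pow_eq_zero_iff two_ne_zero |>.mp
      ((Finset.sum_eq_zero_iff_of_nonneg hnn).mp h0 y (Finset.mem_erase.mpr ⟨hy, Finset.mem_univ _⟩))⟩
  · push Not at hbig
    have hone : ∀ x, w x = 0 ∨ w x = 1 ∨ w x = -1 := fun x => by have := hbig x; omega
    refine Or.inr ⟨hone, ?_⟩
    have h1 : ∑ x, w x ^ 2 = ∑ x, if w x ≠ 0 then (1 : ℤ) else 0 :=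
      Finset.sum_congr rfl fun x _ => by rcases hone x with h | h | h <;> simp [h]
    rw [h1, Finset.sum_boole] at hw
    exact_mod_cast hw

/-- A vector whose norm is used up at one entry vanishes elsewhere. -/
theorem single_of_norm {ι : Type*} [Fintype ι] {w : ι → ℤ} {x : ι} (h : ∑ y, w y ^ 2 ≤ w x ^ 2)
    {y : ι} (hy : y ≠ x) : w y = 0 := by
  classical
  rw [← Finset.add_sum_erase _ _ (Finset.mem_univ x)] at h
  have hnn : ∀ y ∈ Finset.univ.erase x, 0 ≤ w y ^ 2 := fun y _ => sq_nonneg _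
  exact pow_eq_zero_iff two_ne_zero |>.mp ((Finset.sum_eq_zero_iff_of_nonneg hnn).mp
    (le_antisymm (by linarith) (Finset.sum_nonneg hnn)) y (Finset.mem_erase.mpr ⟨hy, Finset.mem_univ _⟩))

/-- A vector of norm two has exactly two entries. -/
theorem norm_two {ι : Type*} [Fintype ι] {w : ι → ℤ} (hw : ∑ x, w x ^ 2 = 2) :
    ∃ p q, p ≠ q ∧ (w p = 1 ∨ w p = -1) ∧ (w q = 1 ∨ w q = -1) ∧
      ∀ x, x ≠ p → x ≠ q → w x = 0 := by
  classical
  have hone : ∀ x, w x = 0 ∨ w x = 1 ∨ w x = -1 := fun x => by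
    by_cases h0 : w x = 0
    · exact Or.inl h0
    · refine Or.inr (sq_one_of_le h0 ?_)
      have := Finset.single_le_sum (f := fun y => w y ^ 2) (fun y _ => sq_nonneg _) (Finset.mem_univ x)
      simp only [hw] at this
      linarith
  have h1 : ∑ x, w x ^ 2 = ∑ x, if w x ≠ 0 then (1 : ℤ) else 0 :=
    Finset.sum_congr rfl fun x _ => by rcases hone x with h | h | h <;> simp [h]
  rw [h1, Finset.sum_boole] at hw
  obtain ⟨p, q, hpq, he⟩ := Finset.card_eq_two.mp
    (show (Finset.univ.filter fun x => w x ≠ 0).card = 2 by exact_mod_cast hw)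
  have hp : w p ≠ 0 := (Finset.mem_filter.mp (show p ∈ Finset.univ.filter (fun x => w x ≠ 0) by rw [he]; simp)).2
  have hq : w q ≠ 0 := (Finset.mem_filter.mp (show q ∈ Finset.univ.filter (fun x => w x ≠ 0) by rw [he]; simp)).2
  refine ⟨p, q, hpq, (hone p).resolve_left hp, (hone q).resolve_left hq, fun x hxp hxq => ?_⟩
  by_contra hx
  have : x ∈ ({p, q} : Finset ι) := he ▸ Finset.mem_filter.mpr ⟨Finset.mem_univ _, hx⟩
  simp [hxp, hxq] at this

namespace Data

variable {ι : Type*} [Fintype ι] {h : ℕ} (S : Data ι h)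

/-- The difference of two coefficient columns. -/
def d (i j : ZMod (2 * h)) (x : ι) : ℤ := S.a x i - S.a x j

/-- The difference of the two fixed columns. -/
def g (x : ι) : ℤ := S.a x 0 - S.a x (h : ℕ)

/-- The members of height zero. -/
def H0 : Finset ι := Finset.univ.filter fun x => S.ht x = 0

include S

theorem mem_H0 {x : ι} : x ∈ S.H0 ↔ S.ht x = 0 := by simp [H0]

theorem two_dvd : 2 ∣ h := by
  obtain ⟨e, he, rfl⟩ := S.pow
  exact dvd_pow_self 2 (by omega)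

theorem pos : 2 ≤ h := by
  obtain ⟨e, he, rfl⟩ := S.pow
  calc 2 = 2 ^ 1 := rfl
    _ ≤ _ := Nat.pow_le_pow_right two_pos he

theorem neZero : NeZero (2 * h) := ⟨by have := S.pos; omega⟩

theorem val_nat {i : ℕ} (hi : i < 2 * h) : ((i : ZMod (2 * h))).val = i := by
  rw [ZMod.val_natCast, Nat.mod_eq_of_lt hi]

theorem half_ne_zero : ((h : ℕ) : ZMod (2 * h)) ≠ 0 := fun h0 => by
  have h1 := congrArg ZMod.val h0
  have := S.pos
  rw [S.val_nat (by omega), ZMod.val_zero] at h1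
  omega

theorem half_par : ((h : ℕ) : ZMod (2 * h)).val % 2 = (0 : ZMod (2 * h)).val % 2 := by
  have := S.pos
  rw [S.val_nat (by omega), ZMod.val_zero]
  have := S.two_dvd
  omega

theorem kappa_zero_iff {c : ZMod (2 * h)} : S.κ * c = 0 ↔ c = 0 := by
  refine ⟨fun hc => ?_, fun hc => by rw [hc, mul_zero]⟩
  have := congrArg (S.κ * ·) hc
  simpa [← mul_assoc, S.kappa_sq] using this

theorem kappa_half_iff {c : ZMod (2 * h)} :
    S.κ * c = ((h : ℕ) : ZMod (2 * h)) ↔ c = ((h : ℕ) : ZMod (2 * h)) := by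
  refine ⟨fun hc => ?_, fun hc => by rw [hc, S.kappa_half]⟩
  have := congrArg (S.κ * ·) hc
  simpa [← mul_assoc, S.kappa_sq, S.kappa_half] using this

theorem sum_d_mul {i j k m : ZMod (2 * h)} (hij : i.val % 2 = j.val % 2)
    (hkm : k.val % 2 = m.val % 2) :
    ∑ x, S.d i j x * S.d k m x = br S.κ i k - br S.κ i m - br S.κ j k + br S.κ j m :=
  S.gram i j k m hij hkm

theorem sum_g_sq : ∑ x, S.g x * S.g x = 4 := by
  have h1 := S.half_ne_zero
  rw [show (fun x => S.g x * S.g x) = fun x => S.d 0 (h : ℕ) x * S.d 0 (h : ℕ) x from rfl,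
    S.sum_d_mul S.half_par.symm S.half_par.symm]
  simp only [br, mul_zero, S.kappa_half, h1, h1.symm, if_true, if_false]
  norm_num

theorem sum_g_d {i j : ZMod (2 * h)} (hij : i.val % 2 = j.val % 2) (hi : i ≠ 0)
    (hi' : i ≠ ((h : ℕ) : ZMod (2 * h))) (hj : j ≠ 0) (hj' : j ≠ ((h : ℕ) : ZMod (2 * h))) :
    ∑ x, S.g x * S.d i j x = 0 := by
  rw [show (fun x => S.g x * S.d i j x) = fun x => S.d 0 (h : ℕ) x * S.d i j x from rfl,
    S.sum_d_mul S.half_par.symm hij]
  simp only [br, mul_zero, S.kappa_half, hi.symm, hi'.symm, hj.symm, hj'.symm, if_false]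
  norm_num

theorem four : S.H0.card = 4 ∧ (∀ x ∈ S.H0, S.g x = 1 ∨ S.g x = -1) ∧ ∀ x ∉ S.H0, S.g x = 0 := by
  classical
  have hsum := S.sum_g_sq
  rw [← Finset.sum_add_sum_compl S.H0] at hsum
  have hone : ∀ x ∈ S.H0, (1 : ℤ) ≤ S.g x * S.g x := fun x hx =>
    mul_self_pos.mpr (S.g_ne x (S.mem_H0.mp hx))
  have hle : (S.H0.card : ℤ) ≤ ∑ x ∈ S.H0, S.g x * S.g x := by
    have := Finset.sum_le_sum hone
    simpa using this
  have hnn : (0 : ℤ) ≤ ∑ x ∈ S.H0ᶜ, S.g x * S.g x := Finset.sum_nonneg fun x _ => mul_self_nonneg _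
  have hpos : 0 < S.H0.card := Finset.card_pos.mpr <| by
    obtain ⟨x, hx⟩ := S.zero
    exact ⟨x, S.mem_H0.mpr hx⟩
  have hmod : ((S.H0.card : ℤ) : ZMod 4) = 0 := by
    have h1 := congrArg (fun z : ℤ => (z : ZMod 4)) S.norm_t
    rw [← Finset.sum_add_sum_compl S.H0] at h1
    push_cast at h1 ⊢
    have e1 : ∀ x ∈ S.H0, ((S.t x : ZMod 4)) ^ 2 = 1 := fun x hx => by
      obtain ⟨m, hm⟩ := Int.not_even_iff_odd.mp
        (fun he => (S.odd_t x).mpr (S.mem_H0.mp hx) he.two_dvd)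
      rw [hm]; push_cast
      exact (by decide : ∀ m : ZMod 4, (2 * m + 1) ^ 2 = 1) _
    have e2 : ∑ x ∈ S.H0ᶜ, ((S.t x : ZMod 4)) ^ 2 = 0 := Finset.sum_eq_zero fun x hx => by
      obtain ⟨m, hm⟩ : ∃ m, S.t x = 2 * m :=
        not_not.mp (mt (S.odd_t x).mp fun h0 => Finset.mem_compl.mp hx (S.mem_H0.mpr h0))
      rw [hm]; push_cast
      exact (by decide : ∀ m : ZMod 4, (2 * m) ^ 2 = 0) _
    rw [Finset.sum_congr rfl e1, e2, add_zero, Finset.sum_const, nsmul_one] at h1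
    rw [h1, show (4 : ZMod 4) = 0 from rfl, zero_mul]
  rw [ZMod.intCast_zmod_eq_zero_iff_dvd] at hmod
  push_cast at hmod
  have hc : S.H0.card = 4 := by omega
  have hin : ∑ x ∈ S.H0, (S.g x * S.g x - 1) = 0 := by
    rw [Finset.sum_sub_distrib, Finset.sum_const, hc]; simp; omega
  refine ⟨hc, fun x hx => ?_, fun x hx => ?_⟩
  · have := (Finset.sum_eq_zero_iff_of_nonneg fun y hy => by linarith [hone y hy]).mp hin x hx
    exact mul_self_eq_one_iff.mp (by linarith)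
  · have h0 : ∑ x ∈ S.H0ᶜ, S.g x * S.g x = 0 := by omega
    exact mul_self_eq_zero.mp
      ((Finset.sum_eq_zero_iff_of_nonneg fun x _ => mul_self_nonneg _).mp h0 x (Finset.mem_compl.mpr hx))

theorem g_ne_zero_iff (x : ι) : S.g x ≠ 0 ↔ x ∈ S.H0 :=
  ⟨fun hg => by_contra fun hx => hg (S.four.2.2 x hx), fun hx => S.g_ne x (S.mem_H0.mp hx)⟩

theorem t_even {x : ι} (hx : x ∉ S.H0) : (2 : ℤ) ∣ S.t x :=
  not_not.mp (mt (S.odd_t x).mp fun h0 => hx (S.mem_H0.mpr h0))

/-- The members off `H0` without part in the second coordinates. -/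
noncomputable def pureSet : Finset ι :=
  Finset.univ.filter fun x => x ∉ S.H0 ∧ S.u x = 0 ∧ S.v x = 0

/-- The members off `H0` with part in the second coordinates. -/
noncomputable def extra : Finset ι :=
  Finset.univ.filter fun x => x ∉ S.H0 ∧ ¬ (S.u x = 0 ∧ S.v x = 0)

theorem mem_pure {x : ι} : x ∈ S.pureSet ↔ x ∉ S.H0 ∧ S.u x = 0 ∧ S.v x = 0 := by simp [pureSet]

theorem mem_extra {x : ι} : x ∈ S.extra ↔ x ∉ S.H0 ∧ ¬ (S.u x = 0 ∧ S.v x = 0) := by simp [extra]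

theorem card_split : Fintype.card ι = 4 + S.extra.card + S.pureSet.card := by
  classical
  have h1 : S.H0ᶜ = S.extra ∪ S.pureSet := by
    ext x; simp only [Finset.mem_compl, Finset.mem_union, mem_pure, mem_extra]; tauto
  have h2 : Disjoint S.extra S.pureSet := Finset.disjoint_left.mpr fun x hx hx' =>
    (S.mem_extra.mp hx).2 (S.mem_pure.mp hx').2
  rw [← Finset.card_add_card_compl S.H0, S.four.1, h1, Finset.card_union_of_disjoint h2, add_assoc]

theorem pure_t {x : ι} (hx : x ∈ S.pureSet) : 4 ≤ S.t x ^ 2 := by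
  obtain ⟨hx0, hu, hv⟩ := S.mem_pure.mp hx
  refine four_le_sq (fun h0 => ?_) (S.t_even hx0)
  obtain ⟨y, hy⟩ := S.zero
  obtain ⟨m, hm, he⟩ := S.val x y hy
  rw [h0, hu, hv] at he
  simp only [zero_mul, add_zero, mul_zero] at he
  rcases mul_eq_zero.mp he.symm with h1 | h1
  · exact absurd h1 (pow_ne_zero _ two_ne_zero)
  · exact hm (h1 ▸ dvd_zero 2)

/-- The number of members with part in the second coordinates. -/
theorem card_extra : S.extra.card + 1 = S.l ∧
    (S.l = 2 → (∀ x ∈ S.H0, ¬ (2 : ℤ) ∣ S.u x ∧ S.u x ^ 2 = 1) ∧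
      ∀ x ∈ S.extra, S.u x ^ 2 = 4) ∧
    (S.l = 3 → (∀ x, S.u x = 0 ∨ S.u x = 1 ∨ S.u x = -1) ∧
      (∀ x, S.v x = 0 ∨ S.v x = 1 ∨ S.v x = -1) ∧
      (∀ x ∈ S.H0, (S.u x = 0) ↔ (S.v x ≠ 0)) ∧
      ∀ x ∈ S.extra, S.u x ≠ 0 ∧ S.v x ≠ 0) := by
  classical
  rcases S.shape with ⟨hl, hu, hv⟩ | ⟨hl, -, -, hu, hv, hpar⟩ | ⟨hl, hw, hu, hv, hpar⟩
  · refine ⟨?_, fun h2 => by omega, fun h3 => by omega⟩
    rw [show S.extra = ∅ from Finset.filter_eq_empty_iff.mpr fun x _ h' => h'.2 ⟨hu x, hv x⟩, hl]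
    rfl
  · have hodd : ∀ x ∈ S.H0, ¬ (2 : ℤ) ∣ S.u x := fun x hx hd =>
      (S.odd_t x).mpr (S.mem_H0.mp hx) (by have := hpar x; omega)
    have heven : ∀ x ∉ S.H0, (2 : ℤ) ∣ S.u x := fun x hx => by
      have := hpar x; have := S.t_even hx; omega
    have hsplit := hu
    rw [← Finset.sum_add_sum_compl S.H0] at hsplit
    have hH : (4 : ℤ) ≤ ∑ x ∈ S.H0, S.u x ^ 2 := by
      have := Finset.sum_le_sum fun x hx => one_le_sq_of_odd (hodd x hx)
      rw [Finset.sum_const, S.four.1] at this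
      simpa using this
    have hoff : ∑ x ∈ S.H0ᶜ, S.u x ^ 2 = ∑ x ∈ S.extra, S.u x ^ 2 := by
      refine (Finset.sum_subset (fun x hx => Finset.mem_compl.mpr (S.mem_extra.mp hx).1)
        fun x hx hx' => ?_).symm
      rw [show S.u x = 0 from by_contra fun h0 => hx' (S.mem_extra.mpr ⟨Finset.mem_compl.mp hx, fun h' => h0 h'.1⟩)]
      norm_num
    have hx4 : ∀ x ∈ S.extra, 4 ≤ S.u x ^ 2 := fun x hx => by
      obtain ⟨hx0, hne⟩ := S.mem_extra.mp hx
      exact four_le_sq (fun h0 => hne ⟨h0, hv x⟩) (heven x hx0)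
    have hmod : (((∑ x ∈ S.H0, S.u x ^ 2) : ℤ) : ZMod 8) = 4 := by
      push_cast
      rw [Finset.sum_congr rfl (g := fun _ => (1 : ZMod 8)) fun x hx => by
        obtain ⟨m, hm⟩ := Int.not_even_iff_odd.mp fun he => hodd x hx he.two_dvd
        rw [hm]; push_cast
        exact (by decide : ∀ m : ZMod 8, (2 * m + 1) ^ 2 = 1) _, Finset.sum_const, S.four.1]
      decide
    have hext : S.extra.card ≤ 1 := by
      have := Finset.sum_le_sum hx4
      rw [Finset.sum_const, ← hoff] at this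
      simp only [nsmul_eq_mul] at this
      have : ((S.extra.card : ℤ)) * 4 ≤ 4 := by linarith
      omega
    have hH4 : ∑ x ∈ S.H0, S.u x ^ 2 = 4 := by
      have hnn : (0 : ℤ) ≤ ∑ x ∈ S.H0ᶜ, S.u x ^ 2 := Finset.sum_nonneg fun x _ => sq_nonneg _
      rcases (by omega : S.extra.card = 0 ∨ S.extra.card = 1) with h0 | h1
      · rw [hoff, Finset.card_eq_zero.mp h0, Finset.sum_empty, add_zero] at hsplit
        rw [hsplit] at hmod
        exact absurd (show ((8 : ℤ) : ZMod 8) = 4 from hmod) (by decide)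
      · obtain ⟨x, hx⟩ := Finset.card_eq_one.mp h1
        have := hx4 x (by simp [hx])
        rw [hoff, hx, Finset.sum_singleton] at hsplit
        omega
    have hX : ∑ x ∈ S.extra, S.u x ^ 2 = 4 := by omega
    have h1 : S.extra.card = 1 := by
      rcases (by omega : S.extra.card = 0 ∨ S.extra.card = 1) with h0 | h1
      · rw [Finset.card_eq_zero.mp h0, Finset.sum_empty] at hX; omega
      · exact h1
    refine ⟨by omega, fun _ => ⟨fun x hx => ⟨hodd x hx, ?_⟩, fun x hx => ?_⟩, fun h3 => by omega⟩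
    · have h0 : ∑ x ∈ S.H0, (S.u x ^ 2 - 1) = 0 := by
        rw [Finset.sum_sub_distrib, hH4, Finset.sum_const, S.four.1]; norm_num
      have := (Finset.sum_eq_zero_iff_of_nonneg fun y hy => by
        linarith [one_le_sq_of_odd (hodd y hy)]).mp h0 x hx
      linarith
    · obtain ⟨y, hy⟩ := Finset.card_eq_one.mp h1
      rw [hy, Finset.sum_singleton] at hX
      rw [hy, Finset.mem_singleton] at hx
      rw [hx, hX]
  · have hpar0 : ∀ x ∈ S.H0, ¬ (2 : ℤ) ∣ S.u x + S.v x := fun x hx hd =>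
      (S.odd_t x).mpr (S.mem_H0.mp hx) (by have := hpar x; omega)
    have hparX : ∀ x ∉ S.H0, (2 : ℤ) ∣ S.u x + S.v x := fun x hx => by
      have := hpar x; have := S.t_even hx; omega
    -- neither vector is a double entry
    have nodouble : ∀ (p q : ι → ℤ), ∑ x, q x ^ 2 = 4 → ∑ x, S.t x * p x = 0 →
        (∀ x ∈ S.H0, ¬ (2 : ℤ) ∣ p x + q x) →
        (∀ x y, p x * p y + q x * q y = S.u x * S.u y + S.v x * S.v y) →
        ∀ x, p x ^ 2 = 4 → (∀ y, y ≠ x → p y = 0) → False := by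
      intro p q hq htp hpq hval x hx hz
      rw [Finset.sum_eq_single x (fun y _ hy => by rw [hz y hy, mul_zero]) (by simp)] at htp
      have hp0 : p x ≠ 0 := fun h0 => by rw [h0] at hx; norm_num at hx
      have htx : S.t x = 0 := (mul_eq_zero.mp htp).resolve_right hp0
      have hxH : x ∉ S.H0 := fun hm => (S.odd_t x).mpr (S.mem_H0.mp hm) (htx ▸ dvd_zero 2)
      have hqH : ∀ y ∈ S.H0, ¬ (2 : ℤ) ∣ q y := fun y hy hd => hpq y hy (by
        rw [hz y fun he => hxH (he ▸ hy), zero_add]; exact hd)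
      have hqx : q x = 0 := by
        rcases norm_four hq with ⟨y, hy, hy'⟩ | ⟨-, hcard⟩
        · obtain ⟨a, ha, b, hb, hab⟩ := Finset.one_lt_card.mp (by rw [S.four.1]; norm_num : 1 < S.H0.card)
          rcases eq_or_ne a y with rfl | hne
          · exact absurd (by rw [hy' b hab.symm]; exact dvd_zero 2) (hqH b hb)
          · exact absurd (by rw [hy' a hne]; exact dvd_zero 2) (hqH a ha)
        · by_contra hqx
          have hsub : insert x S.H0 ⊆ Finset.univ.filter fun y => q y ≠ 0 := by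
            intro y hy
            refine Finset.mem_filter.mpr ⟨Finset.mem_univ _, ?_⟩
            rcases Finset.mem_insert.mp hy with rfl | hy
            · exact hqx
            · exact fun h0 => hqH y hy (h0 ▸ dvd_zero 2)
          have := Finset.card_le_card hsub
          rw [Finset.card_insert_of_notMem hxH, S.four.1, hcard] at this
          omega
      obtain ⟨y, hy⟩ := S.zero
      obtain ⟨m, hm, he⟩ := S.val x y hy
      rw [← hval, htx, hz y fun he' => hxH (he' ▸ S.mem_H0.mpr hy), hqx] at he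
      simp only [zero_mul, mul_zero, add_zero] at he
      rcases mul_eq_zero.mp he.symm with h1 | h1
      · exact pow_ne_zero _ two_ne_zero h1
      · exact hm (h1 ▸ dvd_zero 2)
    obtain ⟨hu1, hucard⟩ := (norm_four hu).resolve_left fun ⟨x, hx, hz⟩ =>
      nodouble S.u S.v hv S.t_u hpar0 (fun _ _ => rfl) x hx hz
    obtain ⟨hv1, hvcard⟩ := (norm_four hv).resolve_left fun ⟨x, hx, hz⟩ =>
      nodouble S.v S.u hu S.t_v (fun y hy => by rw [add_comm]; exact hpar0 y hy)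
        (fun _ _ => add_comm _ _) x hx hz
    have hone : ∀ x ∈ S.H0, (S.u x = 0) ↔ (S.v x ≠ 0) := fun x hx => by
      have := hpar0 x hx
      rcases hu1 x with h | h | h <;> rcases hv1 x with h' | h' | h' <;> simp [h, h'] at this ⊢
    have hboth : ∀ x ∈ S.extra, S.u x ≠ 0 ∧ S.v x ≠ 0 := fun x hx => by
      obtain ⟨hx0, hne⟩ := S.mem_extra.mp hx
      have := hparX x hx0
      rcases hu1 x with h | h | h <;> rcases hv1 x with h' | h' | h' <;> simp [h, h'] at this hne ⊢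
    refine ⟨?_, fun h2 => by omega, fun _ => ⟨hu1, hv1, hone, hboth⟩⟩
    have e1 : (Finset.univ.filter fun x => S.u x ≠ 0) = (S.H0.filter fun x => S.u x ≠ 0) ∪ S.extra := by
      ext x
      simp only [Finset.mem_filter, Finset.mem_univ, true_and, Finset.mem_union, mem_extra]
      refine ⟨fun hx => ?_, ?_⟩
      · by_cases hm : x ∈ S.H0
        · exact Or.inl ⟨hm, hx⟩
        · exact Or.inr ⟨hm, fun h' => hx h'.1⟩
      · rintro (⟨-, hx⟩ | hx)
        · exact hx
        · exact (hboth x (S.mem_extra.mpr hx)).1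
    have e2 : (Finset.univ.filter fun x => S.v x ≠ 0) = (S.H0.filter fun x => ¬ S.u x ≠ 0) ∪ S.extra := by
      ext x
      simp only [Finset.mem_filter, Finset.mem_univ, true_and, Finset.mem_union, mem_extra, not_not]
      refine ⟨fun hx => ?_, ?_⟩
      · by_cases hm : x ∈ S.H0
        · exact Or.inl ⟨hm, (hone x hm).mpr hx⟩
        · exact Or.inr ⟨hm, fun h' => hx h'.2⟩
      · rintro (⟨hm, hx⟩ | hx)
        · exact (hone x hm).mp hx
        · exact (hboth x (S.mem_extra.mpr hx)).2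
    have hd : ∀ P : ι → Prop, [DecidablePred P] → Disjoint (S.H0.filter P) S.extra := fun P _ =>
      Finset.disjoint_left.mpr fun x hx hx' => (S.mem_extra.mp hx').1 (Finset.mem_filter.mp hx).1
    rw [e1, Finset.card_union_of_disjoint (hd _)] at hucard
    rw [e2, Finset.card_union_of_disjoint (hd _)] at hvcard
    have := Finset.card_filter_add_card_filter_not (s := S.H0) fun x => S.u x ≠ 0
    rw [S.four.1] at this
    omega

end Data

end Cfsg.Agent.BC84.Tame
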