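import Cfsg.Agent.BC84.Tame.ZData

/-!
# The classes of a semidihedral or quaternion defect group
-/

set_option autoImplicit false
set_option linter.unusedSectionVars false
set_option linter.style.haveILetI false

namespace Cfsg.Agent.BC84.Tame

open BlocksCore BlocksDefect BC85 BC85.Star BC84.Dihedral
open scoped Classical ComplexConjugate

universe u

variable {G : Type u} [Group G] [Fintype G]

section General

variable {p : ℕ} [Fact p.Prime] {M : Ideal AlgInt} [hP : M.IsPrime] (hM : IsPModular p M)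
  {B : Set (IrrCharacter G)} {P : Subgroup G}
  {e : Set (IrrCharacter (Subgroup.centralizer (P : Set G)))}
  (hmax : IsMaximalBrauerPair p M B P e)
include hM hmax

theorem one_le_blockRank : 1 ≤ blockRank p B := by
  obtain ⟨χ, hχ, -⟩ := exists_height_zero hM hmax.1.2.1
  rw [blockRank, Nat.one_le_iff_ne_zero]
  intro h0
  have hbot := Submodule.finrank_eq_zero.mp h0
  have hmem : pRegularPart p (χ : G → ℂ) ∈
      Submodule.span ℂ ((fun χ : IrrCharacter G => pRegularPart p (χ : G → ℂ)) '' B) :=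
    Submodule.subset_span ⟨χ, hχ, rfl⟩
  rw [hbot, Submodule.mem_bot] at hmem
  have h1 := congrFun hmem 1
  rw [BC85.pRegularPart_pos (by rw [orderOf_one]; exact (Fact.out : p.Prime).not_dvd_one),
    Pi.zero_apply] at h1
  exact irr_one_ne_zero χ h1

/-- A separated set bounds the number of members from below. -/
theorem sum_le_of_sep (R : Finset P) (hsep : ∀ v ∈ R, ∀ w ∈ R, Fused hM hmax v w → v = w) :
    ∑ v ∈ R, blockRank p (atBelow hM hmax v).2 ≤ Nat.card B := by
  haveI := Fintype.ofFinite P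
  set R1 : Finset P := R ∪ Finset.univ.filter (fun x => ∀ v ∈ R, ¬ Fused hM hmax v x) with hR1
  have hcov : ∀ x, ∃ v ∈ R1, Fused hM hmax v x := fun x => by
    by_cases hx : ∃ v ∈ R, Fused hM hmax v x
    · obtain ⟨v, hv, hf⟩ := hx
      exact ⟨v, Finset.mem_union_left _ hv, hf⟩
    · push Not at hx
      exact ⟨x, Finset.mem_union_right _ (Finset.mem_filter.mpr ⟨Finset.mem_univ _, hx⟩), fused_refl hM hmax x⟩
  obtain ⟨R', hsub, hc, hs⟩ := exists_reps_subset hM hmax R1 hcov
  have hRR : R ⊆ R' := fun v hv => by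
    obtain ⟨w, hw, hwv⟩ := hc v
    rcases Finset.mem_union.mp (hsub hw) with hwR | hwF
    · exact hsep w hwR v hv hwv ▸ hw
    · exact absurd (Fused.symm hM hmax hwv) ((Finset.mem_filter.mp hwF).2 v hv)
  rw [card_eq_sum_reps hM hmax R' hc hs]
  exact Finset.sum_le_sum_of_subset hRR

end General

variable [Fact (Nat.Prime 2)] {M : Ideal AlgInt} [hP : M.IsPrime]
  (hM : IsPModular 2 M) {B : Set (IrrCharacter G)} {D : Subgroup G}
  {e : Set (IrrCharacter (Subgroup.centralizer (D : Set G)))}
  (hmax : IsMaximalBrauerPair 2 M B D e) {r : G} {h : ℕ} {κ : ZMod (2 * h)} (S : TameData D r h κ)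

include hM hmax S

/-- An element outside the cyclic subgroup that is fused to none inside has rank one. -/
theorem refl_rank (w : D) (hw : (w : G) ∉ Subgroup.zpowers r)
    (hne : ∀ c, ¬ Fused hM hmax (S.rot c) w) : blockRank 2 (atBelow hM hmax w).2 = 1 := by
  have h4 : ∀ v : D, (v : G) ∉ Subgroup.zpowers r →
      Nat.card (D ⊓ Subgroup.centralizer ({(v : G)} : Set G) : Subgroup G) = 4 := by
    intro v hv
    have hv1 : (v : G) ≠ 1 := fun q => hv (by rw [q]; exact one_mem _)
    have hzr : r ^ h ∈ Subgroup.zpowers r := Subgroup.pow_mem _ (Subgroup.mem_zpowers r) _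
    have hvz : (v : G) ≠ r ^ h := fun q => hv (by rw [q]; exact hzr)
    have hzv1 : r ^ h * (v : G) ≠ 1 := fun q => hv (by
      rw [eq_inv_of_mul_eq_one_right q]; exact inv_mem hzr)
    have hzc := S.commute_half v.2
    have hset : ((D ⊓ Subgroup.centralizer ({(v : G)} : Set G) : Subgroup G) : Set G) =
        (({1, r ^ h, (v : G), r ^ h * v} : Finset G) : Set G) := by
      ext x
      simp only [Subgroup.coe_inf, Set.mem_inter_iff, SetLike.mem_coe, Subgroup.mem_centralizer_singleton_iff,
        Finset.coe_insert, Finset.coe_singleton, Set.mem_insert_iff, Set.mem_singleton_iff]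
      constructor
      · rintro ⟨hx, hc⟩
        have hrot : ∀ u ∈ Subgroup.zpowers r, u * (v : G) = v * u → u = 1 ∨ u = r ^ h := by
          intro u hu hcu
          obtain ⟨c, rfl⟩ := S.exists_rot hu
          have h1 := S.conj_rot_refl v.2 hv c
          rw [mul_inv_eq_iff_eq_mul.mpr hcu.symm] at h1
          rcases S.kappa_fix (S.rot_injective (Subtype.ext h1.symm)) with q | q
          · left; rw [q, S.rot_zero]; rfl
          · right; rw [q, S.rot_half]
        by_cases hxr : x ∈ Subgroup.zpowers r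
        · rcases hrot x hxr hc with q | q <;> simp [q]
        · have hxv := S.refl_mul_refl hx v.2 hxr hv
          rcases hrot _ hxv (by rw [mul_assoc, ← mul_assoc (v : G) x, ← hc, mul_assoc]) with q | q <;>
            rcases (S.flip v v.2 hv).2 with k | k
          · right; right; left
            rw [eq_inv_of_mul_eq_one_left q]; exact inv_eq_of_mul_eq_one_right k
          · right; right; right
            rw [eq_inv_of_mul_eq_one_left q]
            refine inv_eq_of_mul_eq_one_right ?_
            rw [← mul_assoc, hzc.eq, mul_assoc, k, S.pow_mul_self]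
          · right; right; right
            rw [← q, mul_assoc, k, mul_one]
          · right; right; left
            rw [← k] at q
            exact mul_right_cancel q
      · rintro (rfl | rfl | rfl | rfl)
        · exact ⟨one_mem D, by simp⟩
        · exact ⟨D.pow_mem S.mem _, hzc.eq.symm⟩
        · exact ⟨v.2, rfl⟩
        · exact ⟨D.mul_mem (D.pow_mem S.mem _) v.2, by rw [mul_assoc, ← mul_assoc (v : G), hzc.eq, mul_assoc]⟩
    rw [← SetLike.coe_sort_coe, hset, Nat.card_coe_set_eq, Set.ncard_coe_finset,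
      Finset.card_insert_of_notMem (by simp [Ne.symm S.pow_half_ne_one, Ne.symm hv1, Ne.symm hzv1]),
      Finset.card_insert_of_notMem (by simp [Ne.symm hvz, hv1]),
      Finset.card_insert_of_notMem (by simp [S.pow_half_ne_one]), Finset.card_singleton]
  have hfc : (blockFusion hM hmax.1.1).IsFullyCentralized (Subgroup.zpowers (w : G)) :=
    fullyCentralized_of_fused hM hmax w fun v hv => by
      by_cases hvr : (v : G) ∈ Subgroup.zpowers r
      · obtain ⟨c, hc⟩ := S.exists_rot hvr
        exact absurd ((show S.rot c = v from Subtype.ext hc) ▸ hv) (hne c)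
      · rw [h4 v hvr, h4 w hw]
  haveI : Fact ((2 : ℕ) = 2) := ⟨rfl⟩
  exact (rank_one_of_fullyCentralized hM hmax w (fun q => hw (by rw [q]; exact one_mem _)) hfc (h4 w hw).le).2

/-- The rank at a rotation of order more than two. -/
theorem rot_rank {c : ZMod (2 * h)} (hc : c ≠ 0) (hch : c ≠ ((h : ℕ) : ZMod (2 * h))) :
    blockRank 2 (atBelow hM hmax (S.rot c)).2 = 1 := by
  haveI := S.neZero
  obtain ⟨Θ, A, R⟩ := exists_rotCols hM hmax S
  exact R.nilp c hc hch

omit hM hmax in
/-- Representatives of the rotations of order more than two up to the action. -/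
theorem exists_rot_reps : ∃ J : Finset (ZMod (2 * h)), J.card = h - 1 ∧
    (∀ c ∈ J, c ≠ 0 ∧ c ≠ ((h : ℕ) : ZMod (2 * h))) ∧
    (∀ c, c ≠ 0 → c ≠ ((h : ℕ) : ZMod (2 * h)) → c ∈ J ∨ κ * c ∈ J) ∧
    (∀ c ∈ J, κ * c ∉ J) := by
  haveI := S.neZero
  set P : Finset (ZMod (2 * h)) := Finset.univ.filter
    (fun c => c ≠ 0 ∧ c ≠ ((h : ℕ) : ZMod (2 * h))) with hP
  set J := P.filter fun c => c.val < (κ * c).val with hJ
  have hstab : ∀ c, c ≠ 0 → c ≠ ((h : ℕ) : ZMod (2 * h)) →
      κ * c ≠ 0 ∧ κ * c ≠ ((h : ℕ) : ZMod (2 * h)) ∧ (κ * c).val ≠ c.val := fun c h0 hh =>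
    ⟨fun q => h0 (by rw [← S.kappa_kappa c, q, mul_zero]),
      fun q => hh (by rw [← S.kappa_kappa c, q, S.kappa_half]),
      fun q => (S.kappa_fix (ZMod.val_injective _ q)).elim h0 hh⟩
  refine ⟨J, ?_, fun c hc => (Finset.mem_filter.mp (Finset.mem_filter.mp hc).1).2, fun c h0 hh => ?_,
    fun c hc hc' => ?_⟩
  · have hPc : P.card = 2 * h - 2 := by
      rw [show P = Finset.univ \ {(0 : ZMod (2 * h)), ((h : ℕ) : ZMod (2 * h))} by ext c; simp [hP],
        Finset.card_sdiff_of_subset (Finset.subset_univ _), Finset.card_univ, ZMod.card,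
        Finset.card_pair (Ne.symm S.half_ne_zero)]
    have himg : (P.filter fun c => ¬ c.val < (κ * c).val) = J.image (κ * ·) := by
      ext c
      simp only [Finset.mem_image, Finset.mem_filter, hJ, hP, Finset.mem_univ, true_and]
      constructor
      · rintro ⟨⟨h0, hh⟩, hlt⟩
        obtain ⟨k1, k2, k3⟩ := hstab c h0 hh
        exact ⟨κ * c, ⟨⟨k1, k2⟩, by rw [S.kappa_kappa]; omega⟩, S.kappa_kappa c⟩
      · rintro ⟨d, ⟨⟨h0, hh⟩, hlt⟩, rfl⟩
        obtain ⟨k1, k2, k3⟩ := hstab d h0 hh
        exact ⟨⟨k1, k2⟩, by rw [S.kappa_kappa]; omega⟩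
    have hsplit := Finset.card_filter_add_card_filter_not (s := P) (fun c => c.val < (κ * c).val)
    rw [himg, ← hJ, Finset.card_image_of_injective _ (fun a b q => by
      rw [← S.kappa_kappa a, ← S.kappa_kappa b]; exact congrArg (κ * ·) q), hPc] at hsplit
    omega
  · obtain ⟨k1, k2, k3⟩ := hstab c h0 hh
    rcases lt_or_gt_of_ne k3 with q | q
    · exact Or.inr (by simp [hJ, hP, k1, k2, S.kappa_kappa, q])
    · exact Or.inl (by simp [hJ, hP, h0, hh, q])
  · have h1 := (Finset.mem_filter.mp hc).2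
    have h2 := (Finset.mem_filter.mp hc').2
    rw [S.kappa_kappa] at h2
    omega

/-- The count of the members through two elements outside the rotations. -/
theorem card_eq_classes (y : D) (hy : (y : G) ∉ Subgroup.zpowers r) :
    ∃ U : Finset D, U ⊆ {y, S.rot 1 * y} ∧
      (∀ v ∈ U, ∀ c, ¬ Fused hM hmax (S.rot c) v) ∧
      (∀ v ∈ U, ∀ w ∈ U, Fused hM hmax v w → v = w) ∧
      (∀ v, (v = y ∨ v = S.rot 1 * y) → (∃ c, Fused hM hmax (S.rot c) v) ∨ ∃ w ∈ U, Fused hM hmax w v) ∧
      Nat.card B = blockRank 2 B +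
        blockRank 2 (atBelow hM hmax (S.rot ((h : ℕ) : ZMod (2 * h)))).2 + (h - 1) + U.card := by
  haveI := S.neZero
  haveI := Fintype.ofFinite D
  obtain ⟨J, hJc, hJne, hJcov, hJsep⟩ := exists_rot_reps S
  set y₂ := S.rot 1 * y with hy2
  have hy2r : (y₂ : G) ∉ Subgroup.zpowers r := fun hm => hy (by
    have h2 := Subgroup.mul_mem _ (inv_mem (S.rot_mem 1)) hm
    rwa [hy2, Subgroup.coe_mul, inv_mul_cancel_left] at h2)
  set U0 : Finset D := ({y, y₂} : Finset D).filter fun v => ∀ c, ¬ Fused hM hmax (S.rot c) v with hU0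
  obtain ⟨U, hUsub, hUc, hUs⟩ : ∃ U ⊆ U0, (∀ v ∈ U0, ∃ w ∈ U, Fused hM hmax w v) ∧
      ∀ v ∈ U, ∀ w ∈ U, Fused hM hmax v w → v = w := by
    by_cases hf : Fused hM hmax y y₂ ∧ y ∈ U0
    · refine ⟨{y}, Finset.singleton_subset_iff.mpr hf.2, fun v hv => ⟨y, Finset.mem_singleton_self y, ?_⟩,
        fun v hv w hw _ => (Finset.mem_singleton.mp hv).trans (Finset.mem_singleton.mp hw).symm⟩
      have := (Finset.mem_filter.mp hv).1
      simp only [Finset.mem_insert, Finset.mem_singleton] at this
      rcases this with rfl | rfl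
      · exact fused_refl hM hmax _
      · exact hf.1
    · refine ⟨U0, subset_refl _, fun v hv => ⟨v, hv, fused_refl hM hmax v⟩, fun v hv w hw hvw => ?_⟩
      have hv' := (Finset.mem_filter.mp hv).1
      have hw' := (Finset.mem_filter.mp hw).1
      simp only [Finset.mem_insert, Finset.mem_singleton] at hv' hw'
      rcases hv' with rfl | rfl <;> rcases hw' with rfl | rfl
      · rfl
      · exact absurd ⟨hvw, hv⟩ hf
      · exact absurd ⟨Fused.symm hM hmax hvw, hw⟩ hf
      · rfl
  have hUne : ∀ v ∈ U, ∀ c, ¬ Fused hM hmax (S.rot c) v := fun v hv =>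
    (Finset.mem_filter.mp (hUsub hv)).2
  have hUy : ∀ v ∈ U, v = y ∨ v = y₂ := fun v hv => by
    simpa using (Finset.mem_filter.mp (hUsub hv)).1
  have hcov12 : ∀ v, (v = y ∨ v = y₂) → (∃ c, Fused hM hmax (S.rot c) v) ∨ ∃ w ∈ U, Fused hM hmax w v := by
    intro v hv
    by_cases hc : ∃ c, Fused hM hmax (S.rot c) v
    · exact Or.inl hc
    · push Not at hc
      exact Or.inr (hUc v (Finset.mem_filter.mpr ⟨by simpa using hv, hc⟩))
  refine ⟨U, fun v hv => (Finset.mem_filter.mp (hUsub hv)).1, hUne, hUs, hcov12, ?_⟩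
  set z := S.rot ((h : ℕ) : ZMod (2 * h)) with hz
  set I : Finset (ZMod (2 * h)) := insert 0 (insert ((h : ℕ) : ZMod (2 * h)) J) with hI
  have hI0 : (0 : ZMod (2 * h)) ∉ insert ((h : ℕ) : ZMod (2 * h)) J := by
    simp only [Finset.mem_insert, not_or]
    exact ⟨fun q => S.half_ne_zero q.symm, fun q => (hJne 0 q).1 rfl⟩
  have hIh : ((h : ℕ) : ZMod (2 * h)) ∉ J := fun q => (hJne _ q).2 rfl
  have hrotcov : ∀ c, ∃ d ∈ I, Fused hM hmax (S.rot d) (S.rot c) := by
    intro c
    by_cases h0 : c = 0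
    · exact ⟨c, by simp [hI, h0], fused_refl hM hmax _⟩
    by_cases hh : c = ((h : ℕ) : ZMod (2 * h))
    · exact ⟨c, by simp [hI, hh], fused_refl hM hmax _⟩
    rcases hJcov c h0 hh with q | q
    · exact ⟨c, by simp [hI, q], fused_refl hM hmax _⟩
    · refine ⟨κ * c, by simp [hI, q], ?_⟩
      have h1 := fused_conj hM hmax (S.rot c) y
      rwa [show y * S.rot c * y⁻¹ = S.rot (κ * c) from Subtype.ext (by
        push_cast; exact S.conj_rot_refl y.2 hy c)] at h1
  have hIsep : ∀ c ∈ I, ∀ d ∈ I, Fused hM hmax (S.rot c) (S.rot d) → c = d := by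
    intro c hc d hd hf
    by_cases hc0 : c = 0
    · subst hc0
      rw [S.rot_zero] at hf
      refine (S.rot_injective ?_).symm
      rw [hf.eq_one hM hmax, S.rot_zero]
    by_cases hd0 : d = 0
    · subst hd0
      rw [S.rot_zero] at hf
      refine S.rot_injective ?_
      rw [(Fused.symm hM hmax hf).eq_one hM hmax, S.rot_zero]
    have hinv : ∀ b : ZMod (2 * h), orderOf (S.rot b : G) = 2 → b = ((h : ℕ) : ZMod (2 * h)) := fun b hb => by
      refine S.rot_injective (Subtype.ext ((S.eq_of_sq (S.rot_mem b) ?_ ?_).trans S.rot_half.symm))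
      · rw [← pow_two, ← hb, pow_orderOf_eq_one]
      · intro q; rw [q, orderOf_one] at hb; omega
    have hzo : orderOf (S.rot ((h : ℕ) : ZMod (2 * h)) : G) = 2 := by
      rw [S.rot_half]; exact orderOf_eq_prime (by rw [pow_two]; exact S.pow_mul_self) S.pow_half_ne_one
    by_cases hch : c = ((h : ℕ) : ZMod (2 * h))
    · subst hch
      exact (hinv d (by rw [← hf.orderOf_eq hM hmax, hzo])).symm
    by_cases hdh : d = ((h : ℕ) : ZMod (2 * h))
    · subst hdh
      exact hinv c (by rw [hf.orderOf_eq hM hmax, hzo])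
    by_contra hne
    refine not_fused_rot hM hmax S hc0 (Ne.symm hne) (fun q => ?_) hf
    have hcJ : c ∈ J := by
      simp only [hI, Finset.mem_insert] at hc
      tauto
    refine hJsep c hcJ ?_
    simp only [hI, Finset.mem_insert] at hd
    rw [← q]; tauto
  have hdisj : Disjoint (I.image S.rot) U := Finset.disjoint_left.mpr fun v hv hvU => by
    obtain ⟨c, -, rfl⟩ := Finset.mem_image.mp hv
    exact hUne _ hvU c (fused_refl hM hmax _)
  rw [card_eq_sum_reps hM hmax (I.image S.rot ∪ U) (fun x => ?_) (fun v hv w hw hvw => ?_),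
    Finset.sum_union hdisj, Finset.sum_image fun a _ b _ q => S.rot_injective q,
    hI, Finset.sum_insert hI0, Finset.sum_insert hIh, S.rot_zero, blockRank_atBelow_one hM hmax,
    Finset.sum_congr rfl fun c hc => rot_rank hM hmax S (hJne c hc).1 (hJne c hc).2,
    Finset.sum_congr rfl (s₁ := U) fun v hv => refl_rank hM hmax S v
      (by rcases hUy v hv with rfl | rfl <;> assumption) (hUne v hv),
    Finset.sum_const, Finset.sum_const, hJc, smul_eq_mul, smul_eq_mul, mul_one, mul_one]
  · rw [hz]; omega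
  · -- every element is fused to a representative
    suffices (∃ c, Fused hM hmax (S.rot c) x) ∨ ∃ w ∈ U, Fused hM hmax w x by
      rcases this with ⟨c, hc⟩ | ⟨w, hw, hwx⟩
      · obtain ⟨d, hd, hdc⟩ := hrotcov c
        exact ⟨S.rot d, Finset.mem_union_left _ (Finset.mem_image_of_mem _ hd), hdc.trans hM hmax hc⟩
      · exact ⟨w, Finset.mem_union_right _ hw, hwx⟩
    by_cases hxr : (x : G) ∈ Subgroup.zpowers r
    · obtain ⟨c, hc⟩ := S.exists_rot hxr
      exact Or.inl ⟨c, (show S.rot c = x from Subtype.ext hc) ▸ fused_refl hM hmax (S.rot c)⟩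
    · obtain ⟨c, hc⟩ := S.exists_rot_mul x.2 y.2 hxr hy
      obtain ⟨v, hv, t, ht⟩ : ∃ v, (v = y ∨ v = y₂) ∧ ∃ t : D, t * v * t⁻¹ = x := by
        rcases Nat.mod_two_eq_zero_or_one c.val with q | q
        · obtain ⟨t, ht, he⟩ := S.exists_conj y.2 hy q
          exact ⟨y, Or.inl rfl, ⟨t, ht⟩, Subtype.ext (by push_cast; rw [he, hc])⟩
        · obtain ⟨t, ht, he⟩ := S.exists_conj (c := c - 1) y₂.2 hy2r (by
            have h1 : (c - 1).val = c.val - 1 := by
              rw [ZMod.val_sub (by rw [ZMod.val_one'' (by have := S.two_le; omega)]; omega),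
                ZMod.val_one'' (by have := S.two_le; omega)]
            omega)
          refine ⟨y₂, Or.inr rfl, ⟨t, ht⟩, Subtype.ext ?_⟩
          push_cast
          rw [he, hy2, Subgroup.coe_mul, ← mul_assoc, ← Subgroup.coe_mul, ← S.rot_add, sub_add_cancel, hc]
      have hfx : Fused hM hmax v x := Fused.symm hM hmax (ht ▸ fused_conj hM hmax v t)
      rcases hcov12 v hv with ⟨d, hd⟩ | ⟨w, hw, hwv⟩
      · exact Or.inl ⟨d, hd.trans hM hmax hfx⟩
      · exact Or.inr ⟨w, hw, hwv.trans hM hmax hfx⟩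
  · rcases Finset.mem_union.mp hv with q | q <;> rcases Finset.mem_union.mp hw with q' | q'
    · obtain ⟨c, hc, rfl⟩ := Finset.mem_image.mp q
      obtain ⟨d, hd, rfl⟩ := Finset.mem_image.mp q'
      rw [hIsep c hc d hd hvw]
    · obtain ⟨c, -, rfl⟩ := Finset.mem_image.mp q
      exact absurd hvw (hUne w q' c)
    · obtain ⟨c, -, rfl⟩ := Finset.mem_image.mp q'
      exact absurd (Fused.symm hM hmax hvw) (hUne v q c)
    · exact hUs v q w q' hvw

end Cfsg.Agent.BC84.Tame
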