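import Cfsg.Agent.BlkChar.BrauerFeitBound
import Cfsg.Agent.S4434
import Cfsg.Agent.BC85.Pairs.Maximal
import Cfsg.Agent.BC84.BrauerCount

/-!
# The block of the quotient by a central involution
-/

set_option autoImplicit false
set_option linter.unusedSectionVars false

namespace Cfsg.Agent.BC84.Tame

open BlocksCore BlocksDefect BC85
open scoped Classical ComplexConjugate

universe u

variable {K : Type u} [Group K] [Fintype K] {p : ℕ} [Fact p.Prime] {M : Ideal AlgInt}
  {Q : Subgroup K} [Q.Normal]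

theorem regular_mk {g : K} (hg : ¬ p ∣ orderOf g) : ¬ p ∣ orderOf (g : K ⧸ Q) := fun h =>
  hg (h.trans (orderOf_map_dvd (QuotientGroup.mk' Q) g))

/-- The regular elements are those of the quotient. -/
theorem sum_regular_quot (hQ : IsPGroup p Q) (hQc : Q ≤ Subgroup.center K) (f : K ⧸ Q → ℂ) :
    ∑ g ∈ Finset.univ.filter (fun g : K => ¬ p ∣ orderOf g), f (g : K ⧸ Q) =
      ∑ q ∈ Finset.univ.filter (fun q : K ⧸ Q => ¬ p ∣ orderOf q), f q := by
  have hidx : ∃ k : ℕ, (Subgroup.centralizer (Q : Set K)).index = p ^ k :=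
    ⟨0, by rw [BlkChar.BrauerFeit.centralizer_eq_top hQc, Subgroup.index_top, pow_zero]⟩
  refine Finset.sum_bij (fun g _ => (g : K ⧸ Q)) (fun g hg => ?_) (fun g hg g' hg' h => ?_)
    (fun q hq => ?_) fun g _ => rfl
  · exact Finset.mem_filter.mpr ⟨Finset.mem_univ _, regular_mk (Finset.mem_filter.mp hg).2⟩
  · exact eq_of_regular_of_coset hQ (Finset.mem_filter.mp hg).2 (Finset.mem_filter.mp hg').2
      (regular_mem_centralizer hidx (Finset.mem_filter.mp hg).2) h
  · obtain ⟨g0, rfl⟩ := QuotientGroup.mk'_surjective Q q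
    obtain ⟨g, hg, hgq⟩ := exists_regular_in_coset (N := Q) (Finset.mem_filter.mp hq).2
    exact ⟨g, Finset.mem_filter.mpr ⟨Finset.mem_univ _, hg⟩, hgq⟩

variable (hM : IsPModular p M) {b : Set (IrrCharacter K)} (hb : IsPBlock M b) {D : Subgroup K}
  (hD : IsDefectGroup p M b D) (hQ : Nat.card Q = p) (hQc : Q ≤ Subgroup.center K)
include hM hb hD hQ hQc

/-- The dominated block with its defect group. -/
theorem exists_bar : ∃ bb : Set (IrrCharacter (K ⧸ Q)), IsPBlock M bb ∧
    (∀ ψ, ψ ∈ bb ↔ BlocksDefect.inflate Q ψ ∈ b) ∧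
    IsDefectGroup p M bb (D.map (QuotientGroup.mk' Q)) ∧
    blockRank p b = blockRank p bb ∧
    ∀ ψ : IrrCharacter (K ⧸ Q), ψ ∈ bb →
      blockHeight p b (BlocksDefect.inflate Q ψ : K → ℂ) = blockHeight p bb (ψ : K ⧸ Q → ℂ) := by
  have := isPrime hM
  have hp : p.Prime := Fact.out
  have hQp : IsPGroup p Q := IsPGroup.of_card (n := 1) (by rw [pow_one, hQ])
  obtain ⟨bb, hbb, hmem⟩ := BlkChar.BrauerFeit.exists_quotient_block hM hQp hQc hb
  obtain ⟨bb', hbb', hsub, hdef⟩ := Cfsg.Agent.S4434.result p M hM Q hQp b hb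
  obtain rfl : bb' = bb := by
    obtain ⟨χ, hχ⟩ := isPBlock_nonempty hbb'
    exact isPBlock_eq_of_mem hbb' hbb hχ ((hmem χ).mpr (hsub χ hχ _ rfl))
  have hDbar : IsDefectGroup p M bb' (D.map (QuotientGroup.mk' Q)) := (hdef _).mpr ⟨D, hD, rfl⟩
  haveI : Fintype (K ⧸ Q) := Fintype.ofFinite _
  haveI := Fintype.ofFinite bb'
  refine ⟨bb', hbb, hmem, hDbar, ?_, fun ψ hψ => ?_⟩
  · choose c hc using BlkChar.BrauerFeit.exists_int_comb hM hQp hQc hb hbb hmem
    let L : (K ⧸ Q → ℂ) →ₗ[ℂ] (K → ℂ) :=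
      { toFun := fun f g => if p ∣ orderOf g then 0 else f (g : K ⧸ Q)
        map_add' := fun f f' => by funext g; simp only [Pi.add_apply]; split_ifs <;> simp
        map_smul' := fun a f => by
          funext g; simp only [Pi.smul_apply, RingHom.id_apply]; split_ifs <;> simp }
    have hL : ∀ ψ : IrrCharacter (K ⧸ Q), L (pRegularPart p (ψ : K ⧸ Q → ℂ)) =
        pRegularPart p (BlocksDefect.inflate Q ψ : K → ℂ) := fun ψ => by
      funext g
      show (if p ∣ orderOf g then (0 : ℂ) else _) = _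
      by_cases hg : p ∣ orderOf g
      · rw [if_pos hg, BC85.pRegularPart_neg hg]
      · rw [if_neg hg, BC85.pRegularPart_pos hg, BC85.pRegularPart_pos (regular_mk hg)]
        rfl
    have hspan : BC84.regSpan p b = (BC84.regSpan p bb').map L := by
      refine le_antisymm (Submodule.span_le.mpr ?_) (Submodule.map_le_iff_le_comap.mpr
        (Submodule.span_le.mpr ?_))
      · rintro _ ⟨η, hη, rfl⟩
        refine ⟨∑ ψ : bb', (c ⟨η, hη⟩ ψ : ℂ) •
          pRegularPart p ((ψ : IrrCharacter (K ⧸ Q)) : K ⧸ Q → ℂ),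
          Submodule.sum_mem _ fun ψ _ => Submodule.smul_mem _ _ (Submodule.subset_span ⟨ψ, ψ.2, rfl⟩), ?_⟩
        rw [map_sum]
        funext g
        simp only [map_smul, hL, Finset.sum_apply, Pi.smul_apply, smul_eq_mul]
        by_cases hg : p ∣ orderOf g
        · simp [BC85.pRegularPart_neg hg]
        · simp only [BC85.pRegularPart_pos hg]
          rw [hc ⟨η, hη⟩ g hg]
          rfl
      · rintro _ ⟨ψ, hψ, rfl⟩
        show L (pRegularPart p (ψ : K ⧸ Q → ℂ)) ∈ BC84.regSpan p b
        rw [hL]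
        exact Submodule.subset_span ⟨_, (hmem ψ).mp hψ, rfl⟩
    rw [BC84.blockRank_eq_finrank, BC84.blockRank_eq_finrank, hspan]
    refine LinearEquiv.finrank_eq (LinearEquiv.ofBijective (L.submoduleMap _) ⟨?_, ?_⟩).symm
    · rintro ⟨f, hf⟩ ⟨f', hf'⟩ he
      refine Subtype.ext (funext fun q => ?_)
      by_cases hq : p ∣ orderOf q
      · show f q = f' q
        rw [(BC84.isClassFunction_of_mem_regSpan hf).2 q hq,
          (BC84.isClassFunction_of_mem_regSpan hf').2 q hq]
      · obtain ⟨g0, rfl⟩ := QuotientGroup.mk'_surjective Q q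
        obtain ⟨g, hg, hgq⟩ := exists_regular_in_coset (N := Q) hq
        have h1 : (if p ∣ orderOf g then (0 : ℂ) else f (g : K ⧸ Q)) =
            if p ∣ orderOf g then (0 : ℂ) else f' (g : K ⧸ Q) :=
          congrFun (congrArg Subtype.val he) g
        rw [if_neg hg, if_neg hg, hgq] at h1
        exact h1
    · exact LinearMap.submoduleMap_surjective L _
  · have hd1 := defectGroup_natCard hM hbb hDbar
    have hd2 := defectGroup_natCard hM hb hD
    have hQD : Q ≤ D := le_defectGroup Q hM hQp hb hD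
    have hcard : Nat.card D = Nat.card (D.map (QuotientGroup.mk' Q)) * p := by
      rw [← hQ, ← Nat.card_congr (Subgroup.subgroupOfEquivOfLe hQD).toEquiv,
        ← Subgroup.index_mul_card (Q.subgroupOf D)]
      congr 1
      have h1 : Q.subgroupOf D = ((QuotientGroup.mk' Q).comp D.subtype).ker := by
        ext x; simp [Subgroup.mem_subgroupOf]
      rw [h1, Subgroup.index_ker, MonoidHom.range_comp, Subgroup.range_subtype]
    rw [hd1, hd2, ← pow_succ] at hcard
    have hdd := Nat.pow_right_injective hp.two_le hcard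
    have ha : (Nat.card K).factorization p = (Nat.card (K ⧸ Q)).factorization p + 1 := by
      rw [Subgroup.card_eq_card_quotient_mul_card_subgroup Q, hQ,
        Nat.factorization_mul Nat.card_pos.ne' hp.ne_zero, Finsupp.add_apply, hp.factorization_self]
    have hdeg : charDegree (BlocksDefect.inflate Q ψ : K → ℂ) = charDegree (ψ : K ⧸ Q → ℂ) := by
      rw [charDegree, charDegree, BlkChar.BrauerFeit.inflate_apply, QuotientGroup.mk_one]
    obtain ⟨η, hη⟩ := isPBlock_nonempty hb
    have l1 := (BC85.sInf_le_degree (p := p) hη).trans (BC85.degree_factorization_le η)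
    have l2 := (BC85.sInf_le_degree (p := p) hψ).trans (BC85.degree_factorization_le ψ)
    unfold blockDefect at hdd
    rw [blockHeight, blockHeight, hdeg]
    omega

end Cfsg.Agent.BC84.Tame
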