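import Cfsg.Agent.BC84.Tame.Count

/-!
# The members of height one

The differences of the coefficient columns of one parity live on the members without part in the
second coordinates; this gives the numbers of members of each height.
-/

set_option autoImplicit false
set_option linter.unusedSectionVars false

namespace Cfsg.Agent.BC84.Tame

open scoped Classical

/-- Vectors with this table of scalar products on a set bound its size. -/
theorem card_ge_of_gram {ι κ : Type*} [Fintype ι] [Fintype κ] (s : Finset ι) (w : κ → ι → ℤ)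
    (z : ι → ℤ) (c e : ℤ) (hce : (c = 0 ∧ 0 < e) ∨ (c = 1 ∧ e = 1))
    (hw : ∀ m k, ∑ x ∈ s, w m x * w k x = (if m = k then 1 else 0) + 1)
    (hwz : ∀ m, ∑ x ∈ s, w m x * z x = c) (hz : ∑ x ∈ s, z x * z x = e) :
    Fintype.card κ + 1 ≤ s.card := by
  let F : Option κ → (s → ℝ) := fun o x => o.elim (z x : ℝ) fun k => (w k x : ℝ)
  have hli : LinearIndependent ℝ F := by
    refine Fintype.linearIndependent_iff.mpr fun a ha => ?_
    have hrel : ∀ x ∈ s, a none * (z x : ℝ) + ∑ k, a (some k) * (w k x : ℝ) = 0 := by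
      intro x hx
      have := congrFun ha ⟨x, hx⟩
      simpa [F, Fintype.sum_option] using this
    have key : ∀ (p : ι → ℤ), a none * ((∑ x ∈ s, p x * z x : ℤ) : ℝ) +
        ∑ k, a (some k) * ((∑ x ∈ s, p x * w k x : ℤ) : ℝ) = 0 := by
      intro p
      have h0 : ∑ x ∈ s, (p x : ℝ) * (a none * (z x : ℝ) + ∑ k, a (some k) * (w k x : ℝ)) = 0 :=
        Finset.sum_eq_zero fun x hx => by rw [hrel x hx, mul_zero]
      simp only [mul_add, Finset.mul_sum, Finset.sum_add_distrib] at h0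
      rw [Finset.sum_comm] at h0
      push_cast
      simp only [Finset.mul_sum]
      convert h0 using 2
      all_goals first
        | exact Finset.sum_congr rfl fun x _ => by ring
        | exact Finset.sum_congr rfl fun k _ => Finset.sum_congr rfl fun x _ => by ring
    have hm : ∀ m, a none * (c : ℝ) + (a (some m) + ∑ k, a (some k)) = 0 := by
      intro m
      have h1 := key (w m)
      simp only [hw, hwz] at h1
      push_cast at h1
      rw [Finset.sum_congr rfl (g := fun k => (if m = k then a (some k) else 0) + a (some k))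
        fun k _ => by split_ifs <;> ring, Finset.sum_add_distrib] at h1
      simpa using h1
    have hzz : a none * (e : ℝ) + ∑ k, a (some k) * (c : ℝ) = 0 := by
      have h1 := key z
      rw [hz, Finset.sum_congr rfl fun k _ => by
        rw [show ∑ x ∈ s, z x * w k x = c from by
          rw [← hwz k]; exact Finset.sum_congr rfl fun x _ => mul_comm _ _]] at h1
      exact h1
    have hall : ∀ k, a (some k) = 0 := by
      intro k
      rcases hce with ⟨rfl, he⟩ | ⟨rfl, rfl⟩
      · simp only [Int.cast_zero, mul_zero, zero_add, Finset.sum_const_zero, add_zero] at hm hzz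
        have hs : ∑ m, (a (some m) + ∑ j, a (some j)) = 0 := Finset.sum_eq_zero fun m _ => hm m
        rw [Finset.sum_add_distrib, Finset.sum_const, Finset.card_univ, nsmul_eq_mul] at hs
        have h0 : ∑ j, a (some j) = 0 := by
          have h2 : ((Fintype.card κ : ℝ) + 1) * ∑ j, a (some j) = 0 := by linarith
          exact (mul_eq_zero.mp h2).resolve_left (by positivity)
        have := hm k
        linarith
      · simp only [Int.cast_one, mul_one] at hm hzz
        have := hm k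
        linarith
    have hnone : a none = 0 := by
      rcases hce with ⟨rfl, he⟩ | ⟨rfl, rfl⟩
      · simp only [Int.cast_zero, mul_zero, Finset.sum_const_zero, add_zero] at hzz
        exact (mul_eq_zero.mp hzz).resolve_right (by exact_mod_cast he.ne')
      · simp only [Int.cast_one, mul_one, hall, Finset.sum_const_zero, add_zero] at hzz
        exact hzz
    rintro (_ | k)
    · exact hnone
    · exact hall k
  have := hli.fintype_card_le_finrank
  rwa [Fintype.card_option, Module.finrank_fintype_fun_eq_card, Fintype.card_coe] at this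

namespace Data

variable {ι : Type*} [Fintype ι] {h : ℕ} (S : Data ι h)

include S

/-- The parity of a natural index. -/
theorem nat_par {i : ℕ} (hi : i < 2 * h) : ((i : ZMod (2 * h))).val % 2 = i % 2 := by
  rw [S.val_nat hi]

theorem fix_iff {c : ZMod (2 * h)} (hc : c ≠ 0) (hc' : c ≠ ((h : ℕ) : ZMod (2 * h))) :
    S.κ * c ≠ c := fun he => (S.kappa_fix c he).elim hc hc'

theorem nat_ne_zero {i : ℕ} (hi : i < 2 * h) (h0 : i ≠ 0) : (i : ZMod (2 * h)) ≠ 0 := fun he => by
  have h1 := congrArg ZMod.val he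
  rw [S.val_nat hi, ZMod.val_zero] at h1
  exact h0 h1

theorem nat_ne_half {i : ℕ} (hi : i < 2 * h) (h0 : i ≠ h) :
    (i : ZMod (2 * h)) ≠ ((h : ℕ) : ZMod (2 * h)) := fun he => by
  have h1 := congrArg ZMod.val he
  rw [S.val_nat hi, S.val_nat (by have := S.pos; omega)] at h1
  exact h0 h1

/-- The representatives of the moving indices of a parity. -/
noncomputable def reps [NeZero (2 * h)] (e : ℕ) : Finset (ZMod (2 * h)) :=
  Finset.univ.filter fun i => i.val % 2 = e ∧ i.val < (S.κ * i).val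

theorem mem_reps [NeZero (2 * h)] {e : ℕ} {i : ZMod (2 * h)} :
    i ∈ S.reps e ↔ i.val % 2 = e ∧ i.val < (S.κ * i).val := by simp [reps]

theorem card_reps [NeZero (2 * h)] {e : ℕ} (he : e < 2) :
    2 * (S.reps e).card + (if e = 0 then 2 else 0) = h := by
  have hh := S.pos
  set Pe := Finset.univ.filter fun i : ZMod (2 * h) => i.val % 2 = e
  have hcard : Pe.card = h := by
    refine Eq.trans ?_ (Finset.card_range h)
    refine Finset.card_bij (fun i _ => i.val / 2) (fun i _ => ?_) (fun i hi j hj hij => ?_)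
      fun n hn => ?_
    · have := ZMod.val_lt i
      exact Finset.mem_range.mpr (by omega)
    · simp only [Pe, Finset.mem_filter, Finset.mem_univ, true_and] at hi hj
      exact ZMod.val_injective _ (by omega)
    · have hn' := Finset.mem_range.mp hn
      refine ⟨((2 * n + e : ℕ) : ZMod (2 * h)), Finset.mem_filter.mpr ⟨Finset.mem_univ _, ?_⟩, ?_⟩
      · rw [S.nat_par (by omega)]; omega
      · rw [S.val_nat (by omega)]; omega
  set lt := Pe.filter fun i => i.val < (S.κ * i).val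
  set gt := Pe.filter fun i => (S.κ * i).val < i.val
  set eq := Pe.filter fun i => S.κ * i = i
  have hlt : lt = S.reps e := by
    ext i; simp [lt, Pe, mem_reps]
  have hgt : gt.card = lt.card := by
    refine Finset.card_bij (fun i _ => S.κ * i) (fun i hi => ?_) (fun i _ j _ hij => ?_) fun i hi => ?_
    · simp only [gt, lt, Pe, Finset.mem_filter, Finset.mem_univ, true_and] at hi ⊢
      rw [S.kappa_par, ← mul_assoc, S.kappa_sq, one_mul]
      exact hi
    · have := congrArg (S.κ * ·) hij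
      simpa [← mul_assoc, S.kappa_sq] using this
    · simp only [gt, lt, Pe, Finset.mem_filter, Finset.mem_univ, true_and] at hi ⊢
      exact ⟨S.κ * i, by rw [S.kappa_par, ← mul_assoc, S.kappa_sq, one_mul]; exact hi,
        by rw [← mul_assoc, S.kappa_sq, one_mul]⟩
  have heq : eq.card = if e = 0 then 2 else 0 := by
    have hsub : eq = ({0, ((h : ℕ) : ZMod (2 * h))} : Finset _).filter fun _ => e = 0 := by
      ext i
      simp only [eq, Pe, Finset.mem_filter, Finset.mem_univ, true_and, Finset.mem_insert,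
        Finset.mem_singleton]
      constructor
      · rintro ⟨hp, hi⟩
        refine ⟨S.kappa_fix i hi, ?_⟩
        rcases S.kappa_fix i hi with rfl | rfl
        · rw [ZMod.val_zero] at hp; omega
        · rw [S.half_par, ZMod.val_zero] at hp; omega
      · rintro ⟨hi, rfl⟩
        rcases hi with rfl | rfl
        · exact ⟨by rw [ZMod.val_zero], by rw [mul_zero]⟩
        · exact ⟨by rw [S.half_par, ZMod.val_zero], S.kappa_half⟩
    rw [hsub]
    split_ifs with h0
    · rw [Finset.filter_true_of_mem fun _ _ => h0, Finset.card_pair S.half_ne_zero.symm]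
    · rw [Finset.filter_false_of_mem fun _ _ => h0, Finset.card_empty]
  have hunion : Pe = lt ∪ gt ∪ eq := by
    ext i
    simp only [lt, gt, eq, Finset.mem_union, Finset.mem_filter]
    refine ⟨fun hi => ?_, ?_⟩
    · rcases lt_trichotomy i.val (S.κ * i).val with h' | h' | h'
      · exact Or.inl (Or.inl ⟨hi, h'⟩)
      · exact Or.inr ⟨hi, (ZMod.val_injective _ h').symm⟩
      · exact Or.inl (Or.inr ⟨hi, h'⟩)
    · rintro ((h' | h') | h') <;> exact h'.1
  rw [hunion, Finset.card_union_of_disjoint, Finset.card_union_of_disjoint, hgt, heq, hlt] at hcard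
  · omega
  · exact Finset.disjoint_left.mpr fun i h1 h2 => by
      have := (Finset.mem_filter.mp h1).2; have := (Finset.mem_filter.mp h2).2; omega
  · refine Finset.disjoint_left.mpr fun i h1 h2 => ?_
    have hi := (Finset.mem_filter.mp h2).2
    rcases Finset.mem_union.mp h1 with h' | h' <;>
      (have := (Finset.mem_filter.mp h').2; rw [hi] at this; omega)

theorem reps_facts [NeZero (2 * h)] {e : ℕ} {i : ZMod (2 * h)} (hi : i ∈ S.reps e) :
    i ≠ 0 ∧ i ≠ ((h : ℕ) : ZMod (2 * h)) ∧ S.κ * i ≠ i := by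
  obtain ⟨-, hlt⟩ := S.mem_reps.mp hi
  have hne : S.κ * i ≠ i := fun he => by rw [he] at hlt; omega
  exact ⟨fun h0 => hne (by rw [h0, mul_zero]), fun h0 => hne (by rw [h0, S.kappa_half]), hne⟩

theorem br_reps [NeZero (2 * h)] {e : ℕ} {i j : ZMod (2 * h)} (hi : i ∈ S.reps e)
    (hj : j ∈ S.reps e) : br S.κ i j = if i = j then 1 else 0 := by
  obtain ⟨-, hli⟩ := S.mem_reps.mp hi
  obtain ⟨-, hlj⟩ := S.mem_reps.mp hj
  have h1 : S.κ * i ≠ j := fun he => by
    rw [← he, ← mul_assoc, S.kappa_sq, one_mul] at hlj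
    omega
  simp [br, h1]

/-- The scalar products inside one family. -/
theorem sum_fam [NeZero (2 * h)] {e : ℕ} {b i j : ZMod (2 * h)} (hb : b ∈ S.reps e)
    (hi : i ∈ (S.reps e).erase b) (hj : j ∈ (S.reps e).erase b) :
    ∑ x, S.d i b x * S.d j b x = (if i = j then 1 else 0) + 1 := by
  obtain ⟨hib, hi⟩ := Finset.mem_erase.mp hi
  obtain ⟨hjb, hj⟩ := Finset.mem_erase.mp hj
  have hp := (S.mem_reps.mp hb).1
  rw [S.sum_d_mul ((S.mem_reps.mp hi).1.trans hp.symm) ((S.mem_reps.mp hj).1.trans hp.symm),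
    S.br_reps hi hj, S.br_reps hi hb, S.br_reps hb hj, S.br_reps hb hb,
    if_neg hib, if_neg hjb.symm, if_pos rfl]
  ring

theorem norm_fam [NeZero (2 * h)] {e : ℕ} {b i : ZMod (2 * h)} (hb : b ∈ S.reps e)
    (hi : i ∈ (S.reps e).erase b) : ∑ x, S.d i b x ^ 2 = 2 := by
  simp only [pow_two, S.sum_fam hb hi hi, if_true]
  norm_num

theorem g_fam [NeZero (2 * h)] {e : ℕ} {b i : ZMod (2 * h)} (hb : b ∈ S.reps e)
    (hi : i ∈ (S.reps e).erase b) : ∑ x, S.g x * S.d i b x = 0 := by
  have hi' := (Finset.mem_erase.mp hi).2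
  obtain ⟨b1, b2, -⟩ := S.reps_facts hb
  obtain ⟨i1, i2, -⟩ := S.reps_facts hi'
  exact S.sum_g_d ((S.mem_reps.mp hi').1.trans (S.mem_reps.mp hb).1.symm) i1 i2 b1 b2

/-- The shape of the differences of the fixed columns to the column two. -/
structure Split (E : ι) (ε : ℤ) : Prop where
  notMem : E ∉ S.H0
  sign : ε = 1 ∨ ε = -1
  atE : S.d 0 ((2 : ℕ) : ZMod (2 * h)) E = ε ∧
    S.d ((h : ℕ) : ZMod (2 * h)) ((2 : ℕ) : ZMod (2 * h)) E = ε
  off : ∀ x ∉ S.H0, x ≠ E → S.d 0 ((2 : ℕ) : ZMod (2 * h)) x = 0 ∧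
    S.d ((h : ℕ) : ZMod (2 * h)) ((2 : ℕ) : ZMod (2 * h)) x = 0
  on : ∀ x ∈ S.H0, (S.d 0 ((2 : ℕ) : ZMod (2 * h)) x = S.g x ∧
      S.d ((h : ℕ) : ZMod (2 * h)) ((2 : ℕ) : ZMod (2 * h)) x = 0) ∨
    (S.d 0 ((2 : ℕ) : ZMod (2 * h)) x = 0 ∧
      S.d ((h : ℕ) : ZMod (2 * h)) ((2 : ℕ) : ZMod (2 * h)) x = -S.g x)
  card : (S.H0.filter fun x => S.d 0 ((2 : ℕ) : ZMod (2 * h)) x ≠ 0).card = 2

/-- A vector of norm three with scalar product two against `g`. -/
theorem norm_three {w : ι → ℤ} {σ : ℤ} (hσ : σ = 1 ∨ σ = -1) (hw : ∑ x, w x * w x = 3)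
    (hg : ∑ x, S.g x * w x = 2 * σ) :
    ∃ E, E ∉ S.H0 ∧ (w E = 1 ∨ w E = -1) ∧ (∀ x ∉ S.H0, x ≠ E → w x = 0) ∧
      (S.H0.filter fun x => w x ≠ 0).card = 2 ∧ ∀ x ∈ S.H0, w x = 0 ∨ w x = σ * S.g x := by
  obtain ⟨-, hg1, hg0⟩ := S.four
  have hone : ∀ x, w x = 0 ∨ w x = 1 ∨ w x = -1 := fun x => by
    by_cases h0 : w x = 0
    · exact Or.inl h0
    · refine Or.inr (sq_one_of_le h0 ?_)
      have := Finset.single_le_sum (f := fun y => w y * w y) (fun y _ => mul_self_nonneg _)
        (Finset.mem_univ x)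
      simp only [hw] at this
      nlinarith
  have hsq : ∀ x, w x * w x = if w x ≠ 0 then (1 : ℤ) else 0 := fun x => by
    rcases hone x with h | h | h <;> simp [h]
  rw [← Finset.sum_add_sum_compl S.H0, Finset.sum_eq_zero (s := S.H0ᶜ)
    (fun x hx => by rw [hg0 x (Finset.mem_compl.mp hx), zero_mul]), add_zero] at hg
  rw [← Finset.sum_add_sum_compl S.H0] at hw
  set A := S.H0.filter fun x => w x ≠ 0 with hA
  have hA2 : ∑ x ∈ S.H0, w x * w x = (A.card : ℤ) := by
    simp only [hsq, Finset.sum_boole, hA]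
  have hg' : ∑ x ∈ A, σ * (S.g x * w x) = 2 := by
    rw [Finset.sum_filter_of_ne fun x _ hx => right_ne_zero_of_mul (right_ne_zero_of_mul hx),
      ← Finset.mul_sum, hg]
    rcases hσ with rfl | rfl <;> norm_num
  have hval : ∀ x ∈ A, σ * (S.g x * w x) = 1 ∨ σ * (S.g x * w x) = -1 := fun x hx => by
    obtain ⟨hx0, hx1⟩ := Finset.mem_filter.mp hx
    rcases hσ with rfl | rfl <;> rcases hg1 x hx0 with h | h <;>
      rcases (hone x).resolve_left hx1 with h' | h' <;> simp [h, h']
  have hle : (2 : ℤ) ≤ A.card := by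
    rw [← hg']
    calc ∑ x ∈ A, σ * (S.g x * w x) ≤ ∑ x ∈ A, (1 : ℤ) :=
          Finset.sum_le_sum fun x hx => by rcases hval x hx with h | h <;> rw [h]; norm_num
      _ = _ := by simp
  have hpar : ((A.card : ℤ) : ZMod 2) = 0 := by
    have h1 := congrArg (fun z : ℤ => (z : ZMod 2)) hg'
    rw [Int.cast_sum, Finset.sum_congr rfl (g := fun _ => (1 : ZMod 2)) fun x hx => by
      rcases hval x hx with h | h <;> rw [h] <;> decide] at h1
    simp only [Finset.sum_const, nsmul_one] at h1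
    rw [Int.cast_natCast, h1]; rfl
  rw [ZMod.intCast_zmod_eq_zero_iff_dvd] at hpar
  have hnn : (0 : ℤ) ≤ ∑ x ∈ S.H0ᶜ, w x * w x := Finset.sum_nonneg fun x _ => mul_self_nonneg _
  have hA2' : A.card = 2 := by push_cast at hpar; omega
  have hoff : ∑ x ∈ S.H0ᶜ, w x * w x = 1 := by omega
  simp only [hsq, Finset.sum_boole] at hoff
  obtain ⟨E, hE⟩ := Finset.card_eq_one.mp
    (show (S.H0ᶜ.filter fun x => w x ≠ 0).card = 1 by exact_mod_cast hoff)
  obtain ⟨hE0, hE1⟩ := Finset.mem_filter.mp (show E ∈ S.H0ᶜ.filter fun x => w x ≠ 0 by simp [hE])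
  refine ⟨E, Finset.mem_compl.mp hE0, (hone E).resolve_left hE1, fun x hx hxE => ?_, hA2', fun x hx => ?_⟩
  · by_contra h0
    exact hxE (Finset.mem_singleton.mp (hE ▸ Finset.mem_filter.mpr ⟨Finset.mem_compl.mpr hx, h0⟩))
  · by_cases h0 : w x = 0
    · exact Or.inl h0
    · have hsum : ∑ y ∈ A, (1 - σ * (S.g y * w y)) = 0 := by
        rw [Finset.sum_sub_distrib, hg', Finset.sum_const, hA2']; norm_num
      have := (Finset.sum_eq_zero_iff_of_nonneg fun y hy => by
        rcases hval y hy with h | h <;> rw [h] <;> norm_num).mp hsum x (Finset.mem_filter.mpr ⟨hx, h0⟩)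
      refine Or.inr ?_
      rcases hσ with rfl | rfl <;> rcases hg1 x hx with h | h <;> rw [h] at this ⊢ <;> omega

theorem exists_split (h4 : 4 ≤ h) : ∃ E ε, S.Split E ε := by
  set two : ZMod (2 * h) := ((2 : ℕ) : ZMod (2 * h)) with htwo
  have t0 : two ≠ 0 := S.nat_ne_zero (by omega) (by norm_num)
  have th : two ≠ ((h : ℕ) : ZMod (2 * h)) := S.nat_ne_half (by omega) (by omega)
  have tk := S.fix_iff t0 th
  have k0 : S.κ * two ≠ 0 := fun he => t0 (S.kappa_zero_iff.mp he)
  have kh : S.κ * two ≠ ((h : ℕ) : ZMod (2 * h)) := fun he => th (S.kappa_half_iff.mp he)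
  have h0 := S.half_ne_zero
  have tp : two.val % 2 = (0 : ZMod (2 * h)).val % 2 := by
    rw [htwo, S.nat_par (by omega), ZMod.val_zero]
  have n02 : ∑ x, S.d 0 two x * S.d 0 two x = 3 := by
    rw [S.sum_d_mul tp.symm tp.symm]
    simp [br, t0, t0.symm, tk, k0, mul_zero]
  have n42 : ∑ x, S.d ((h : ℕ) : ZMod (2 * h)) two x * S.d ((h : ℕ) : ZMod (2 * h)) two x = 3 := by
    rw [S.sum_d_mul (S.half_par.trans tp.symm) (S.half_par.trans tp.symm)]
    simp [br, th, th.symm, tk, kh, S.kappa_half]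
  have g02 : ∑ x, S.g x * S.d 0 two x = 2 * 1 := by
    rw [show (fun x => S.g x * S.d 0 two x) = fun x => S.d 0 (h : ℕ) x * S.d 0 two x from rfl,
      S.sum_d_mul S.half_par.symm tp.symm]
    simp [br, h0, h0.symm, t0.symm, th.symm, S.kappa_half]
  have g42 : ∑ x, S.g x * S.d ((h : ℕ) : ZMod (2 * h)) two x = 2 * (-1) := by
    rw [show (fun x => S.g x * S.d ((h : ℕ) : ZMod (2 * h)) two x) =
      fun x => S.d 0 (h : ℕ) x * S.d ((h : ℕ) : ZMod (2 * h)) two x from rfl,
      S.sum_d_mul S.half_par.symm (S.half_par.trans tp.symm)]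
    simp [br, h0, h0.symm, t0.symm, th.symm, S.kappa_half]
  have c0242 : ∑ x, S.d 0 two x * S.d ((h : ℕ) : ZMod (2 * h)) two x = 1 := by
    rw [S.sum_d_mul tp.symm (S.half_par.trans tp.symm)]
    simp [br, h0, h0.symm, t0, t0.symm, th, th.symm, tk, k0, kh, S.kappa_half]
  obtain ⟨E, hE, hEv, hEo, hEc, hEon⟩ := S.norm_three (Or.inl rfl) n02 g02
  obtain ⟨E', hE', hEv', hEo', hEc', hEon'⟩ := S.norm_three (Or.inr rfl) n42 g42
  rw [← Finset.sum_add_sum_compl S.H0, Finset.sum_eq_single (s := S.H0ᶜ) E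
    (fun x hx hxE => by rw [hEo x (Finset.mem_compl.mp hx) hxE, zero_mul])
    (fun hn => absurd (Finset.mem_compl.mpr hE) hn)] at c0242
  set A := S.H0.filter fun x => S.d 0 two x ≠ 0
  set A' := S.H0.filter fun x => S.d ((h : ℕ) : ZMod (2 * h)) two x ≠ 0
  have hprod : ∑ x ∈ S.H0, S.d 0 two x * S.d ((h : ℕ) : ZMod (2 * h)) two x = -((A ∩ A').card : ℤ) := by
    rw [show A ∩ A' = S.H0.filter fun x => S.d 0 two x ≠ 0 ∧ S.d ((h : ℕ) : ZMod (2 * h)) two x ≠ 0 by
      ext x; simp [A, A']; tauto,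
      ← Finset.sum_boole, ← Finset.sum_neg_distrib]
    refine Finset.sum_congr rfl fun x hx => ?_
    rcases S.four.2.1 x hx with hg | hg <;> rcases hEon x hx with h1 | h1 <;>
      rcases hEon' x hx with h2 | h2 <;> simp [h1, h2, hg]
  rw [hprod] at c0242
  have hE2 : E' = E ∧ S.d ((h : ℕ) : ZMod (2 * h)) two E = S.d 0 two E ∧ (A ∩ A').card = 0 := by
    by_cases hee : E = E'
    · subst hee
      rcases hEv with h1 | h1 <;> rcases hEv' with h2 | h2 <;> rw [h1, h2] at c0242 ⊢ <;>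
        exact ⟨rfl, by omega, by omega⟩
    · rw [hEo' E hE hee, mul_zero] at c0242; omega
  obtain ⟨rfl, hsame, hdisj⟩ := hE2
  refine ⟨E', S.d 0 two E', hE, hEv, ⟨rfl, hsame⟩, fun x hx hxE => ⟨hEo x hx hxE, hEo' x hx hxE⟩,
    fun x hx => ?_, hEc⟩
  have hcov : A ∪ A' = S.H0 := Finset.eq_of_subset_of_card_le
    (Finset.union_subset (Finset.filter_subset _ _) (Finset.filter_subset _ _)) (by
      rw [Finset.card_union, hEc, hEc', hdisj, S.four.1])
  have hdis : ¬ (x ∈ A ∧ x ∈ A') := fun h' => by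
    rw [Finset.card_eq_zero] at hdisj
    exact absurd (Finset.mem_inter.mpr h') (by rw [hdisj]; simp)
  rcases Finset.mem_union.mp (show x ∈ A ∪ A' by rw [hcov]; exact hx) with hA | hA
  · refine Or.inl ⟨by rw [(hEon x hx).resolve_left (Finset.mem_filter.mp hA).2]; ring, ?_⟩
    by_contra hn
    exact hdis ⟨hA, Finset.mem_filter.mpr ⟨hx, hn⟩⟩
  · refine Or.inr ⟨?_, by rw [(hEon' x hx).resolve_left (Finset.mem_filter.mp hA).2]; ring⟩
    by_contra hn
    exact hdis ⟨Finset.mem_filter.mpr ⟨hx, hn⟩, hA⟩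

/-- A coordinate vector: orthogonal to the differences and to the degrees. -/
structure Coord (w : ι → ℤ) : Prop where
  orth : ∀ i j, i.val % 2 = j.val % 2 → ∑ x, S.d i j x * w x = 0
  deg : ∑ x, w x * S.deg x = 0

theorem coord_t : S.Coord S.t := ⟨S.orth_t, S.t_deg⟩

theorem coord_u : S.Coord S.u := ⟨S.orth_u, S.u_deg⟩

theorem coord_v : S.Coord S.v := ⟨S.orth_v, S.v_deg⟩

variable {E : ι} {ε : ℤ} (hs : S.Split E ε) (h4 : 4 ≤ h)

include hs h4

/-- The sum of a coordinate over the first part. -/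
theorem sum_part {w : ι → ℤ} (hw : S.Coord w) :
    ∑ x ∈ S.H0.filter (fun x => S.d 0 ((2 : ℕ) : ZMod (2 * h)) x ≠ 0), S.g x * w x = -(ε * w E) ∧
    ∑ x ∈ S.H0.filter (fun x => ¬ S.d 0 ((2 : ℕ) : ZMod (2 * h)) x ≠ 0), S.g x * w x = ε * w E := by
  set two : ZMod (2 * h) := ((2 : ℕ) : ZMod (2 * h))
  have tp : two.val % 2 = (0 : ZMod (2 * h)).val % 2 := by
    rw [S.nat_par (by omega), ZMod.val_zero]
  have hoff : ∀ i : ZMod (2 * h), (i = 0 ∨ i = ((h : ℕ) : ZMod (2 * h))) →
      ∑ x ∈ S.H0, S.d i two x * w x + ε * w E = 0 := by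
    intro i hi
    have h0 : ∑ x, S.d i two x * w x = 0 := by
      rcases hi with rfl | rfl
      · exact hw.orth _ _ tp.symm
      · exact hw.orth _ _ (S.half_par.trans tp.symm)
    rw [← Finset.sum_add_sum_compl S.H0, Finset.sum_eq_single (s := S.H0ᶜ) E
      (fun x hx hxE => by
        rcases hi with rfl | rfl
        · rw [(hs.off x (Finset.mem_compl.mp hx) hxE).1, zero_mul]
        · rw [(hs.off x (Finset.mem_compl.mp hx) hxE).2, zero_mul])
      (fun hn => absurd (Finset.mem_compl.mpr hs.notMem) hn)] at h0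
    rcases hi with rfl | rfl
    · rwa [hs.atE.1] at h0
    · rwa [hs.atE.2] at h0
  have e1 : ∑ x ∈ S.H0, S.d 0 two x * w x =
      ∑ x ∈ S.H0.filter (fun x => S.d 0 two x ≠ 0), S.g x * w x := by
    rw [Finset.sum_filter]
    refine Finset.sum_congr rfl fun x hx => ?_
    rcases hs.on x hx with ⟨h1, -⟩ | ⟨h1, -⟩
    · rw [h1, if_pos ((S.g_ne_zero_iff x).mpr hx)]
    · rw [h1, if_neg (by simp), zero_mul]
  have e2 : ∑ x ∈ S.H0, S.d ((h : ℕ) : ZMod (2 * h)) two x * w x =
      -∑ x ∈ S.H0.filter (fun x => ¬ S.d 0 two x ≠ 0), S.g x * w x := by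
    rw [Finset.sum_filter, ← Finset.sum_neg_distrib]
    refine Finset.sum_congr rfl fun x hx => ?_
    rcases hs.on x hx with ⟨h1, h2⟩ | ⟨h1, h2⟩
    · rw [h2, h1, if_neg (not_not.mpr ((S.g_ne_zero_iff x).mpr hx)), zero_mul, neg_zero]
    · rw [h2, if_pos (not_not.mpr h1), neg_mul]
  have a := hoff 0 (Or.inl rfl)
  have b := hoff _ (Or.inr rfl)
  rw [e1] at a
  rw [e2] at b
  exact ⟨by linarith, by linarith⟩

theorem card_part : (S.H0.filter fun x => ¬ S.d 0 ((2 : ℕ) : ZMod (2 * h)) x ≠ 0).card = 2 := by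
  have h1 := Finset.card_filter_add_card_filter_not (s := S.H0)
    fun x => S.d 0 ((2 : ℕ) : ZMod (2 * h)) x ≠ 0
  rw [hs.card, S.four.1] at h1
  omega

/-- The norm of the sum of the two differences, and its scalar products. -/
theorem sum_f {w : ι → ℤ} (hw : S.Coord w) :
    (∑ x, (S.d 0 ((2 : ℕ) : ZMod (2 * h)) x + S.d ((h : ℕ) : ZMod (2 * h)) ((2 : ℕ) : ZMod (2 * h)) x) ^ 2 = 8) ∧
      ∑ x, (S.d 0 ((2 : ℕ) : ZMod (2 * h)) x + S.d ((h : ℕ) : ZMod (2 * h)) ((2 : ℕ) : ZMod (2 * h)) x) * w x = 0 := by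
  set two : ZMod (2 * h) := ((2 : ℕ) : ZMod (2 * h))
  have tp : two.val % 2 = (0 : ZMod (2 * h)).val % 2 := by
    rw [S.nat_par (by omega), ZMod.val_zero]
  refine ⟨?_, ?_⟩
  · rw [← Finset.sum_add_sum_compl S.H0, Finset.sum_eq_single (s := S.H0ᶜ) E
      (fun x hx hxE => by
        obtain ⟨h1, h2⟩ := hs.off x (Finset.mem_compl.mp hx) hxE; rw [h1, h2]; norm_num)
      (fun hn => absurd (Finset.mem_compl.mpr hs.notMem) hn), hs.atE.1, hs.atE.2,
      Finset.sum_congr rfl (g := fun _ => (1 : ℤ)) fun x hx => by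
        rcases hs.on x hx with ⟨h1, h2⟩ | ⟨h1, h2⟩ <;> rw [h1, h2] <;>
          rcases S.four.2.1 x hx with hg | hg <;> rw [hg] <;> norm_num, Finset.sum_const, S.four.1]
    rcases hs.sign with rfl | rfl <;> norm_num
  · simp only [add_mul, Finset.sum_add_distrib, hw.orth _ _ tp.symm,
      hw.orth _ _ (S.half_par.trans tp.symm), add_zero]

/-- The exceptional member of the fixed columns has no part in the second coordinates. -/
theorem E_pure : E ∈ S.pureSet := by
  refine S.mem_pure.mpr ⟨hs.notMem, ?_⟩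
  by_contra hne
  have hE : E ∈ S.extra := S.mem_extra.mpr ⟨hs.notMem, hne⟩
  obtain ⟨hcard, h2, h3⟩ := S.card_extra
  set f : ι → ℤ := fun x => S.d 0 ((2 : ℕ) : ZMod (2 * h)) x +
    S.d ((h : ℕ) : ZMod (2 * h)) ((2 : ℕ) : ZMod (2 * h)) x with hf
  have hfd : ∑ x, f x * S.deg x = 0 := by
    simp only [hf, add_mul, Finset.sum_add_distrib]
    have tp : ((2 : ℕ) : ZMod (2 * h)).val % 2 = (0 : ZMod (2 * h)).val % 2 := by
      rw [S.nat_par (by omega), ZMod.val_zero]
    simp only [d, S.orth_deg _ _ tp.symm, S.orth_deg _ _ (S.half_par.trans tp.symm), add_zero]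
  have hfin : ∀ α β : ℤ, f E - α * S.u E - β * S.v E = 4 * ε →
      8 + α ^ 2 * ∑ x, S.u x ^ 2 + β ^ 2 * ∑ x, S.v x ^ 2 = 16 → False := by
    intro α β hzE hnorm
    set z : ι → ℤ := fun x => f x - α * S.u x - β * S.v x with hz
    have hn : ∑ x, z x ^ 2 = 16 := by
      rw [← hnorm, ← (S.sum_f hs h4 S.coord_u).1]
      have e : ∀ x, z x ^ 2 = f x ^ 2 + α ^ 2 * S.u x ^ 2 + β ^ 2 * S.v x ^ 2 -
          2 * α * (f x * S.u x) - 2 * β * (f x * S.v x) + 2 * α * β * (S.u x * S.v x) := fun x => by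
        simp only [hz]; ring
      simp only [e, Finset.sum_add_distrib, Finset.sum_sub_distrib, ← Finset.mul_sum]
      rw [(S.sum_f hs h4 S.coord_u).2, (S.sum_f hs h4 S.coord_v).2, S.u_v]
      ring
    have hz0 : ∀ x, x ≠ E → z x = 0 := fun x hx => single_of_norm (x := E) (by
      rw [hn, show z E = 4 * ε from hzE]
      rcases hs.sign with rfl | rfl <;> norm_num) hx
    have hzd : ∑ x, z x * S.deg x = 0 := by
      simp only [hz, sub_mul, mul_assoc, Finset.sum_sub_distrib, ← Finset.mul_sum, hfd, S.u_deg,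
        S.v_deg]
      ring
    rw [Finset.sum_eq_single E (fun x _ hx => by rw [hz0 x hx, zero_mul]) (by simp),
      show z E = 4 * ε from hzE] at hzd
    rcases mul_eq_zero.mp hzd with h0 | h0
    · rcases hs.sign with rfl | rfl <;> omega
    · exact (S.deg_pos E).ne' h0
  have hfE : f E = 2 * ε := by simp only [hf, hs.atE.1, hs.atE.2]; ring
  rcases S.shape with ⟨-, hu, hv⟩ | ⟨hl, -, -, hu, hv, -⟩ | ⟨hl, -, hu, hv, -⟩
  · exact hne ⟨hu E, hv E⟩
  · obtain ⟨-, hX⟩ := h2 hl
    have hu2 : S.u E = 2 ∨ S.u E = -2 := by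
      have := hX E hE
      exact sq_eq_sq_iff_eq_or_eq_neg.mp (this.trans (by norm_num))
    rcases hu2 with h' | h'
    · exact hfin (-ε) 0 (by rw [hfE, h']; ring) (by
        rw [hu]; rcases hs.sign with rfl | rfl <;> norm_num)
    · exact hfin ε 0 (by rw [hfE, h']; ring) (by
        rw [hu]; rcases hs.sign with rfl | rfl <;> norm_num)
  · obtain ⟨hu1, hv1, -, hX⟩ := h3 hl
    obtain ⟨hu0, hv0⟩ := hX E hE
    refine hfin (-ε * S.u E) (-ε * S.v E) ?_ ?_
    · rcases (hu1 E).resolve_left hu0 with a | a <;> rcases (hv1 E).resolve_left hv0 with b | b <;>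
        rw [hfE, a, b] <;> ring
    · rw [hu, hv]
      rcases (hu1 E).resolve_left hu0 with a | a <;> rcases (hv1 E).resolve_left hv0 with b | b <;>
        rw [a, b] <;> rcases hs.sign with rfl | rfl <;> norm_num

end Data

end Cfsg.Agent.BC84.Tame
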