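import Cfsg.Agent.BC84.Dihedral.Fourier
import Cfsg.Agent.BC84.Tame.Count

/-!
# The differences of the coefficients
-/

set_option autoImplicit false
set_option linter.unusedSectionVars false

namespace Cfsg.Agent.BC84.Tame

open BC84.Dihedral (sum_char_mul)
open scoped ComplexConjugate

variable {h : ℕ} [NeZero (2 * h)]

open ZMod (stdAddChar)

theorem stdAddChar_half_mul (i : ZMod (2 * h)) :
    (stdAddChar (-(((h : ℕ) : ZMod (2 * h)) * i)) : ℂ) = if i.val % 2 = 0 then 1 else -1 := by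
  have h1 : (stdAddChar (-((h : ℕ) : ZMod (2 * h))) : ℂ) = -1 := by
    rw [show -((h : ℕ) : ZMod (2 * h)) = ((h : ℕ) : ZMod (2 * h)) by
      rw [neg_eq_iff_add_eq_zero, ← Nat.cast_add, ← two_mul, ZMod.natCast_self]]
    exact BC84.Dihedral.stdAddChar_half
  rw [show -(((h : ℕ) : ZMod (2 * h)) * i) = i.val • (-((h : ℕ) : ZMod (2 * h))) by
    rw [nsmul_eq_mul, ZMod.natCast_zmod_val]; ring, AddChar.map_nsmul_eq_pow, h1]
  split_ifs with hi
  · exact (Nat.even_iff.mpr hi).neg_one_pow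
  · exact (Nat.odd_iff.mpr (by omega)).neg_one_pow

/-- The factor at a column in the transform of a difference of coefficients. -/
noncomputable def dfac (i j c : ZMod (2 * h)) : ℂ :=
  stdAddChar (-(c * i)) - stdAddChar (-(c * j))

theorem dfac_eq_zero {i j : ZMod (2 * h)} (hij : i.val % 2 = j.val % 2) {c : ZMod (2 * h)}
    (hc : c = 0 ∨ c = ((h : ℕ) : ZMod (2 * h))) : dfac i j c = 0 := by
  rcases hc with rfl | rfl
  · simp [dfac]
  · rw [dfac, stdAddChar_half_mul, stdAddChar_half_mul, hij, sub_self]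

variable {ι : Type*} [Fintype ι] {F : ι → ZMod (2 * h) → ℂ} {A : ι → ZMod (2 * h) → ℕ}
  (hA : ∀ x j, ((2 * h : ℕ) : ℂ) * (A x j : ℂ) = ∑ c, F x c * stdAddChar (-(c * j)))
include hA

theorem diff_eq (x : ι) (i j : ZMod (2 * h)) :
    ((2 * h : ℕ) : ℂ) * (((A x i : ℤ) - A x j : ℤ) : ℂ) = ∑ c, F x c * dfac i j c :=
  BC84.Dihedral.coeff_sub (hA x) i j

theorem gram_of_orth {κ : ZMod (2 * h)} (hκ : κ * κ = 1)
    (horth : ∀ c c' : ZMod (2 * h), c ≠ 0 → c ≠ ((h : ℕ) : ZMod (2 * h)) → c' ≠ 0 →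
      c' ≠ ((h : ℕ) : ZMod (2 * h)) → ∑ x, conj (F x c) * F x c' =
        ((2 * h : ℕ) : ℂ) * ((if c' = c then 1 else 0) + if c' = κ * c then 1 else 0))
    (i j k l : ZMod (2 * h)) (hij : i.val % 2 = j.val % 2) (hkl : k.val % 2 = l.val % 2) :
    ∑ x, ((A x i : ℤ) - A x j) * ((A x k : ℤ) - A x l) =
      br κ i k - br κ i l - br κ j k + br κ j l := by
  classical
  have hN : ((2 * h : ℕ) : ℂ) ≠ 0 := Nat.cast_ne_zero.mpr (NeZero.ne _)
  refine Int.cast_injective (α := ℂ) (mul_left_cancel₀ (mul_ne_zero hN hN) ?_)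
  have hconj : ∀ (x : ι), ((2 * h : ℕ) : ℂ) * (((A x i : ℤ) - A x j : ℤ) : ℂ) =
      ∑ c, conj (F x c) * conj (dfac i j c) := fun x => by
    conv_lhs => rw [← Complex.conj_natCast, ← map_intCast (starRingEnd ℂ), ← map_mul, diff_eq hA x i j]
    rw [map_sum]
    exact Finset.sum_congr rfl fun c _ => map_mul _ _ _
  have h1 : ((2 * h : ℕ) : ℂ) * ((2 * h : ℕ) : ℂ) *
      ((∑ x, ((A x i : ℤ) - A x j) * ((A x k : ℤ) - A x l) : ℤ) : ℂ) =
      ∑ c, ∑ c', conj (dfac i j c) * dfac k l c' * ∑ x, conj (F x c) * F x c' := by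
    rw [Int.cast_sum, Finset.mul_sum, Finset.sum_congr rfl fun x _ => by
      rw [Int.cast_mul, mul_mul_mul_comm, hconj, diff_eq hA x k l, Finset.sum_mul_sum],
      Finset.sum_comm]
    refine Finset.sum_congr rfl fun c _ => ?_
    rw [Finset.sum_comm]
    refine Finset.sum_congr rfl fun c' _ => ?_
    rw [Finset.mul_sum]
    exact Finset.sum_congr rfl fun x _ => by ring
  have h2 : ∀ c c', conj (dfac i j c) * dfac k l c' * ∑ x, conj (F x c) * F x c' =
      conj (dfac i j c) * dfac k l c' *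
        (((2 * h : ℕ) : ℂ) * ((if c' = c then 1 else 0) + if c' = κ * c then 1 else 0)) := by
    intro c c'
    by_cases hc : c = 0 ∨ c = ((h : ℕ) : ZMod (2 * h))
    · simp [dfac_eq_zero hij hc]
    by_cases hc' : c' = 0 ∨ c' = ((h : ℕ) : ZMod (2 * h))
    · simp [dfac_eq_zero hkl hc']
    rw [not_or] at hc hc'
    rw [horth c c' hc.1 hc.2 hc'.1 hc'.2]
  rw [h1, Finset.sum_congr rfl fun c _ => Finset.sum_congr rfl fun c' _ => h2 c c']
  simp only [mul_add, mul_ite, mul_one, mul_zero, Finset.sum_add_distrib, Finset.sum_ite_eq',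
    Finset.mem_univ, if_true]
  have hs : ∀ (a s t : ZMod (2 * h)),
      ∑ c, conj (stdAddChar (-(c * s)) : ℂ) * stdAddChar (-(a * c * t)) =
        ((2 * h : ℕ) : ℂ) * if s = a * t then 1 else 0 := by
    intro a s t
    rw [Finset.sum_congr rfl (g := fun c => (stdAddChar (c * (s - a * t)) : ℂ)) fun c _ => by
      rw [← AddChar.map_neg_eq_conj, ← AddChar.map_add_eq_mul]; congr 1; ring, sum_char_mul]
    simp only [sub_eq_zero]
    split_ifs <;> simp
  have hs1 : ∀ (s t : ZMod (2 * h)),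
      ∑ c, conj (stdAddChar (-(c * s)) : ℂ) * stdAddChar (-(c * t)) =
        ((2 * h : ℕ) : ℂ) * if s = t then 1 else 0 := fun s t => by simpa using hs 1 s t
  simp only [← Finset.sum_mul, dfac, map_sub, sub_mul, mul_sub, Finset.sum_sub_distrib, hs, hs1, br]
  have hswap : ∀ s t : ZMod (2 * h), (κ * s = t ↔ s = κ * t) := fun s t =>
    ⟨fun e => by rw [← e, ← mul_assoc, hκ, one_mul], fun e => by rw [e, ← mul_assoc, hκ, one_mul]⟩
  simp only [hswap]
  push_cast
  ring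

/-- The differences are orthogonal to a vector orthogonal to the columns. -/
theorem orth_of_orth {δ : ι → ℤ}
    (horth : ∀ c : ZMod (2 * h), c ≠ 0 → c ≠ ((h : ℕ) : ZMod (2 * h)) →
      ∑ x, conj (F x c) * (δ x : ℂ) = 0)
    (i j : ZMod (2 * h)) (hij : i.val % 2 = j.val % 2) : ∑ x, ((A x i : ℤ) - A x j) * δ x = 0 := by
  classical
  have hN : ((2 * h : ℕ) : ℂ) ≠ 0 := Nat.cast_ne_zero.mpr (NeZero.ne _)
  refine Int.cast_injective (α := ℂ) (mul_left_cancel₀ hN ?_)
  rw [Int.cast_zero, mul_zero, Int.cast_sum, Finset.mul_sum, Finset.sum_congr rfl fun x _ => by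
    rw [Int.cast_mul, ← mul_assoc, ← Complex.conj_natCast, ← map_intCast (starRingEnd ℂ),
      ← map_mul, diff_eq hA x i j, map_sum, Finset.sum_mul], Finset.sum_comm]
  refine Finset.sum_eq_zero fun c _ => ?_
  by_cases hc : c = 0 ∨ c = ((h : ℕ) : ZMod (2 * h))
  · simp [dfac_eq_zero hij hc]
  rw [not_or] at hc
  rw [Finset.sum_congr rfl (g := fun x => conj (dfac i j c) * (conj (F x c) * (δ x : ℂ)))
    fun x _ => by rw [map_mul]; ring, ← Finset.mul_sum, horth c hc.1 hc.2, mul_zero]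

end Cfsg.Agent.BC84.Tame
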