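import Cfsg.Agent.BC84.Tame.Points
import Cfsg.Agent.BC84.Tame.Classes
import Cfsg.Agent.BC84.Dihedral.Data

/-!
# Relations between the members of a block at the regular elements
-/

set_option autoImplicit false
set_option linter.unusedSectionVars false

namespace Cfsg.Agent.BC84.Tame

open BlocksCore BlocksDefect BC85 BC85.Star BC84.Dihedral
open scoped Classical ComplexConjugate

universe u

variable {G : Type u} [Group G] [Fintype G]

section General

variable {p : ℕ} [Fact p.Prime] {M : Ideal AlgInt} [hP : M.IsPrime]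
  {hM : IsPModular p M} {B : Set (IrrCharacter G)} {P : Subgroup G}
  {e : Set (IrrCharacter (Subgroup.centralizer (P : Set G)))}
  {hmax : IsMaximalBrauerPair p M B P e}

/-- A column has rank one. -/
theorem rank_of_column {v : P} {T : IrrCharacter G → ℂ} {Q : G → ℂ} {m : ℕ}
    (hcol : IsColumn hM hmax v T Q m) : blockRank p (atBelow hM hmax v).2 = 1 := by
  have hv := orderOf_pow_of_mem hmax.1.1.1 v.2
  have h1 := trace_contribAt hM hmax.1.2.1 hv (atBelow_mem hM hmax v) (atBelow_pairOf hM hmax v)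
  refine Nat.cast_injective (R := ℂ) (mul_left_cancel₀
    (mul_ne_zero hcol.m_ne_zero (Nat.cast_ne_zero.mpr Nat.card_pos.ne' :
      (Nat.card (Subgroup.centralizer ({(v : G)} : Set G)) : ℂ) ≠ 0)) ?_)
  rw [Nat.cast_one, mul_one, mul_assoc, ← h1, Finset.mul_sum, Finset.sum_congr rfl fun χ hχ =>
    hcol.contribAt_eq (CharCore.SubContrib.mem_mems.mp hχ) (CharCore.SubContrib.mem_mems.mp hχ),
    ← Finset.mul_sum, hcol.sum_sq]
  ring

variable (hM hmax)

/-- Representatives may be chosen inside a set meeting every class. -/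
theorem exists_reps_subset (R0 : Finset P) (hcover : ∀ x, ∃ v ∈ R0, Fused hM hmax v x) :
    ∃ R ⊆ R0, (∀ x, ∃ v ∈ R, Fused hM hmax v x) ∧
      ∀ v ∈ R, ∀ w ∈ R, Fused hM hmax v w → v = w := by
  suffices ∀ (n : ℕ) (R1 : Finset P), R1.card ≤ n → R1 ⊆ R0 → (∀ x, ∃ v ∈ R1, Fused hM hmax v x) →
      ∃ R ⊆ R0, (∀ x, ∃ v ∈ R, Fused hM hmax v x) ∧
        ∀ v ∈ R, ∀ w ∈ R, Fused hM hmax v w → v = w from this _ R0 le_rfl (subset_refl _) hcover
  intro n
  induction n with
  | zero =>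
    intro R1 hn hs hc
    refine ⟨R1, hs, hc, fun v hv => ?_⟩
    rw [Nat.le_zero, Finset.card_eq_zero] at hn
    simp [hn] at hv
  | succ n ih =>
    intro R1 hn hs hc
    by_cases hsep : ∀ v ∈ R1, ∀ w ∈ R1, Fused hM hmax v w → v = w
    · exact ⟨R1, hs, hc, hsep⟩
    push Not at hsep
    obtain ⟨v, hv, w, hw, hvw, hne⟩ := hsep
    refine ih (R1.erase w) (by rw [Finset.card_erase_of_mem hw]; omega)
      ((Finset.erase_subset _ _).trans hs) fun x => ?_
    obtain ⟨a, ha, hax⟩ := hc x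
    by_cases haw : a = w
    · subst haw
      exact ⟨v, Finset.mem_erase.mpr ⟨hne, hv⟩, hvw.trans hM hmax hax⟩
    · exact ⟨a, Finset.mem_erase.mpr ⟨haw, ha⟩, hax⟩

/-- A set meeting every class bounds the number of members. -/
theorem card_le_sum_cover (R0 : Finset P) (hcover : ∀ x, ∃ v ∈ R0, Fused hM hmax v x) :
    Nat.card B ≤ ∑ v ∈ R0, blockRank p (atBelow hM hmax v).2 := by
  obtain ⟨R, hsub, hc, hsep⟩ := exists_reps_subset hM hmax R0 hcover
  rw [card_eq_sum_reps hM hmax R hc hsep]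
  exact Finset.sum_le_sum_of_subset hsub

end General

variable [Fact (Nat.Prime 2)] {M : Ideal AlgInt} [hP : M.IsPrime]

/-- An integral relation between four members at the regular elements, with signs as coefficients. -/
structure RelVec (B : Set (IrrCharacter G)) [Fintype B] (H : Finset B) (T : B → ℤ) : Prop where
  sign : ∀ x ∈ H, T x = 1 ∨ T x = -1
  off : ∀ x ∉ H, T x = 0
  rel : ∀ s : G, ¬ 2 ∣ orderOf s → ∑ x : B, (T x : ℂ) * ((x : IrrCharacter G) : G → ℂ) s = 0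

/-- Four members of height zero, a relation, and multiples of the sum of two for the others. -/
structure Frame (B : Set (IrrCharacter G)) [Fintype B] (hb : ℕ) (H : Finset B) (g : B → ℤ)
    (a b : B) : Prop where
  four : H.card = 4
  card : Fintype.card B = hb + 3
  height : ∀ x : B, x ∈ H ↔ blockHeight 2 B ((x : IrrCharacter G) : G → ℂ) = 0
  rel : RelVec B H g
  mem : a ∈ H ∧ b ∈ H ∧ a ≠ b
  other : ∀ x ∉ H, ∃ ε : ℤ, (ε = 1 ∨ ε = -1) ∧ ∀ s : G, ¬ 2 ∣ orderOf s →
    ((x : IrrCharacter G) : G → ℂ) s = (ε : ℂ) * ((g a : ℂ) * ((a : IrrCharacter G) : G → ℂ) s +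
      (g b : ℂ) * ((b : IrrCharacter G) : G → ℂ) s)

/-- The relations beyond the first one, according to the rank. -/
def Extra (B : Set (IrrCharacter G)) [Fintype B] (hb : ℕ) (H : Finset B) (g : B → ℤ) : Prop :=
  blockRank 2 B = 3 ∨
  (blockRank 2 B = 2 ∧ 2 ≤ hb ∧ ∃ T, RelVec B H T ∧ ∑ x, T x * g x = 0) ∨
  (blockRank 2 B = 1 ∧ ∃ T T', RelVec B H T ∧ RelVec B H T' ∧ ∑ x, T x * g x = 0 ∧
    ∑ x, T' x * g x = 0 ∧ ∑ x, T x * T' x = 0)

theorem sum_sq_cast {B : Set (IrrCharacter G)} [Fintype B] {T : IrrCharacter G → ℤ} {m : ℕ}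
    (h : ∑ χ ∈ CharCore.SubContrib.mems B, (T χ : ℂ) * conj (T χ : ℂ) = (m : ℂ)) :
    ∑ x : B, T x ^ 2 = (m : ℤ) := by
  refine Int.cast_injective (α := ℂ) ?_
  rw [sum_mems (fun χ : IrrCharacter G => (T χ : ℂ) * conj (T χ : ℂ))] at h
  push_cast
  rw [← h]
  exact Finset.sum_congr rfl fun x _ => by rw [map_intCast, pow_two]

/-- A column of norm four that is odd on four members is a relation. -/
theorem relVec_of_norm {B : Set (IrrCharacter G)} [Fintype B] {H : Finset B} (hH : H.card = 4)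
    {T : B → ℤ} (hsum : ∑ x, T x ^ 2 = 4) (hne : ∀ x ∈ H, T x ≠ 0)
    (hrel : ∀ s : G, ¬ 2 ∣ orderOf s → ∑ x : B, (T x : ℂ) * ((x : IrrCharacter G) : G → ℂ) s = 0) :
    RelVec B H T := by
  have h1 : ∀ x ∈ H, (1 : ℤ) ≤ T x ^ 2 := fun x hx => sq_pos_of_ne_zero (hne x hx)
  rw [← Finset.sum_add_sum_compl H] at hsum
  have hle : (4 : ℤ) ≤ ∑ x ∈ H, T x ^ 2 := by
    have := Finset.sum_le_sum h1
    rw [Finset.sum_const, hH] at this
    simpa using this
  have hnn : (0 : ℤ) ≤ ∑ x ∈ Hᶜ, T x ^ 2 := Finset.sum_nonneg fun x _ => sq_nonneg _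
  have h2 : ∑ x ∈ H, (T x ^ 2 - 1) = 0 := by
    rw [Finset.sum_sub_distrib, Finset.sum_const, hH]
    simp only [nsmul_one, Nat.cast_ofNat]
    omega
  refine ⟨fun x hx => ?_, fun x hx => ?_, hrel⟩
  · have := (Finset.sum_eq_zero_iff_of_nonneg fun y hy => sub_nonneg.mpr (h1 y hy)).mp h2 x hx
    exact sq_eq_one_iff.mp (by omega)
  · have h0 : ∑ x ∈ Hᶜ, T x ^ 2 = 0 := by omega
    exact pow_eq_zero_iff two_ne_zero |>.mp
      ((Finset.sum_eq_zero_iff_of_nonneg fun y _ => sq_nonneg _).mp h0 x (Finset.mem_compl.mpr hx))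

variable {hM : IsPModular 2 M} {B : Set (IrrCharacter G)} [Fintype B] {D : Subgroup G}
  {e : Set (IrrCharacter (Subgroup.centralizer (D : Set G)))}
  {hmax : IsMaximalBrauerPair 2 M B D e}

theorem column_rel {v : D} (hv : v ≠ 1) {T : IrrCharacter G → ℤ} {Q : G → ℂ} {m : ℕ}
    (hcol : IsColumn hM hmax v (fun χ => (T χ : ℂ)) Q m) (s : G) (hs : ¬ 2 ∣ orderOf s) :
    ∑ x : B, (T x : ℂ) * ((x : IrrCharacter G) : G → ℂ) s = 0 := by
  rw [← sum_mems (fun χ : IrrCharacter G => (T χ : ℂ) * (χ : G → ℂ) s),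
    ← hcol.sum_regular hv hs]
  exact Finset.sum_congr rfl fun χ _ => by rw [map_intCast]

theorem column_orth {v w : D} {T T' : IrrCharacter G → ℤ} {Q Q' : G → ℂ} {m m' : ℕ}
    (hcol : IsColumn hM hmax v (fun χ => (T χ : ℂ)) Q m)
    (hcol' : IsColumn hM hmax w (fun χ => (T' χ : ℂ)) Q' m') (hne : ¬ Fused hM hmax v w) :
    ∑ x : B, T x * T' x = 0 := by
  refine Int.cast_injective (α := ℂ) ?_
  have h := hcol.sum_mul hcol' (by rw [classOf_eq, if_neg hne])
  rw [sum_mems (fun χ : IrrCharacter G => conj (T χ : ℂ) * (T' χ : ℂ))] at h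
  push_cast
  rw [← h]
  exact Finset.sum_congr rfl fun x _ => by rw [map_intCast]

end Cfsg.Agent.BC84.Tame
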