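import Cfsg.Agent.BC84.Tame.Frame
import Cfsg.Agent.BC84.Dihedral.Main

/-!
# The relations in a block with dihedral defect group
-/

set_option autoImplicit false
set_option linter.unusedSectionVars false
set_option linter.style.haveILetI false

namespace Cfsg.Agent.BC84.Dihedral.CountData

variable {ι : Type*} [Fintype ι] [DecidableEq ι] {h : ℕ} (S : CountData ι h)

/-- Every difference of a middle column with the first meets the same two members of height zero. -/
theorem exists_pair (hk : Fintype.card ι = h + 3)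
    (hnz : ∀ x ∉ S.H0, ∃ i, 1 ≤ i ∧ i < h ∧ S.d 0 i x ≠ 0) :
    ∃ a b, a ∈ S.H0 ∧ b ∈ S.H0 ∧ a ≠ b ∧ ∀ x ∉ S.H0, ∃ i, ∃ ε : ℤ, 1 ≤ i ∧ i < h ∧
      (ε = 1 ∨ ε = -1) ∧ ∀ y, S.d 0 i y =
        (if y = x then ε else 0) + (if y = a ∨ y = b then S.g y else 0) := by
  have hh := S.two_le
  obtain ⟨h4, hg0⟩ := S.four
  have hg1 : ∀ x ∈ S.H0, S.g x ^ 2 = 1 := by
    intro x hx
    have hone : ∀ y ∈ S.H0, (1 : ℤ) ≤ S.g y ^ 2 := fun y hy =>
      sq_pos_of_ne_zero (show S.g y ≠ 0 from fun h0 =>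
        (S.odd_g_iff y).mpr (S.mem_H0.mp hy) (by rw [h0]; exact dvd_zero 2))
    have hsum := S.sum_g_sq
    rw [← Finset.sum_add_sum_compl S.H0, Finset.sum_eq_zero (s := S.H0ᶜ) fun y hy => by
      rw [hg0 y (Finset.mem_compl.mp hy)]; rfl, add_zero] at hsum
    have h2 : ∑ y ∈ S.H0, (S.g y ^ 2 - 1) = 0 := by
      rw [Finset.sum_sub_distrib, Finset.sum_const, h4, hsum]; rfl
    have := (Finset.sum_eq_zero_iff_of_nonneg fun y hy => sub_nonneg.mpr (hone y hy)).mp h2 x hx
    omega
  have hrow : ∀ i, 1 ≤ i → i < h → ∃ E ε, E ∉ S.H0 ∧ (ε = 1 ∨ ε = -1) ∧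
      (S.H0.filter fun x => S.d 0 i x ≠ 0).card = 2 ∧ (∀ x ∈ S.H0, S.d 0 i x ≠ 0 → S.d 0 i x = S.g x) ∧
      (∀ x ∉ S.H0, S.d 0 i x = if x = E then ε else 0) := by
    intro i hi hi'
    have n3 : ∑ x, S.d 0 i x * S.d 0 i x = 3 := by
      rw [S.sum_d_mul (by omega) hi'.le (by omega) hi'.le]
      simp [show ¬ i = 0 by omega, show ¬ i = h by omega, show ¬ 0 = i by omega]
    have n2 : ∑ x, S.g x * S.d 0 i x = 2 := by
      rw [S.g_eq_d, S.sum_d_mul (by omega) le_rfl (by omega) hi'.le]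
      simp [show ¬ i = 0 by omega, show ¬ h = i by omega, show ¬ h = 0 by omega, show ¬ 0 = i by omega]
    rw [← Finset.sum_add_sum_compl S.H0] at n3 n2
    rw [Finset.sum_eq_zero (s := S.H0ᶜ) fun y hy => by
      rw [hg0 y (Finset.mem_compl.mp hy), zero_mul], add_zero] at n2
    set w : ι → ℤ := fun x => S.g x * S.d 0 i x with hw
    have hww : ∀ x ∈ S.H0, w x * w x = S.d 0 i x * S.d 0 i x := fun x hx => by
      have := hg1 x hx
      simp only [hw]; linear_combination (S.d 0 i x * S.d 0 i x) * this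
    have hpos : ∀ x ∈ S.H0, 0 ≤ w x * w x - w x := fun x _ => by
      rcases le_or_gt (w x) 0 with hx | hx <;> nlinarith
    have hout : 0 ≤ ∑ x ∈ S.H0ᶜ, S.d 0 i x * S.d 0 i x := Finset.sum_nonneg fun x _ => mul_self_nonneg _
    have hsq : ∑ x ∈ S.H0, w x * w x = ∑ x ∈ S.H0, S.d 0 i x * S.d 0 i x := Finset.sum_congr rfl hww
    have hle : ∑ x ∈ S.H0, (w x * w x - w x) ≤ 1 := by
      rw [Finset.sum_sub_distrib]; rw [n2]; omega
    have hz : ∀ x ∈ S.H0, w x = 0 ∨ w x = 1 := fun x hx => by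
      have h1 := (Finset.single_le_sum hpos hx).trans hle
      obtain ⟨m, hm⟩ := (Int.even_mul_succ_self (w x - 1))
      have h0 : w x * w x - w x = 0 := by
        have : w x * w x - w x = m + m := by rw [← hm]; ring
        have := hpos x hx
        omega
      rcases mul_eq_zero.mp (show w x * (w x - 1) = 0 by linear_combination h0) with h' | h'
      · exact Or.inl h'
      · exact Or.inr (by omega)
    have hsame : ∑ x ∈ S.H0, w x * w x = 2 := by
      rw [Finset.sum_congr rfl fun x hx => show w x * w x = w x by rcases hz x hx with h' | h' <;> rw [h'] <;> norm_num]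
      exact n2
    have hone : ∑ x ∈ S.H0ᶜ, S.d 0 i x * S.d 0 i x = 1 := by omega
    obtain ⟨E, hE, hEne⟩ := Finset.exists_ne_zero_of_sum_ne_zero (hone.trans_ne one_ne_zero)
    rw [← Finset.add_sum_erase _ _ hE] at hone
    have hrest : 0 ≤ ∑ x ∈ S.H0ᶜ.erase E, S.d 0 i x * S.d 0 i x :=
      Finset.sum_nonneg fun x _ => mul_self_nonneg _
    have hE1 : 1 ≤ S.d 0 i E * S.d 0 i E :=
      lt_of_le_of_ne (mul_self_nonneg _) (Ne.symm hEne)
    refine ⟨E, S.d 0 i E, Finset.mem_compl.mp hE, mul_self_eq_one_iff.mp (by omega), ?_, fun x hx hne => ?_,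
      fun x hx => ?_⟩
    · have h1 : ∑ x ∈ S.H0, w x = ((S.H0.filter fun x => S.d 0 i x ≠ 0).card : ℤ) := by
        rw [Finset.card_filter, Nat.cast_sum]
        refine Finset.sum_congr rfl fun x hx => ?_
        rcases hz x hx with h' | h'
        · rw [if_neg, h']; · rfl
          intro hne
          rcases mul_eq_zero.mp h' with h'' | h''
          · exact absurd (hg1 x hx) (by rw [h'']; norm_num)
          · exact hne h''
        · rw [if_pos, h']; · rfl
          intro h0
          simp [hw, h0] at h'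
      rw [show ∑ x ∈ S.H0, w x = 2 from n2] at h1
      exact_mod_cast h1.symm
    · rcases hz x hx with h' | h'
      · rcases mul_eq_zero.mp h' with h'' | h''
        · exact absurd (hg1 x hx) (by rw [h'']; norm_num)
        · exact absurd h'' hne
      · linear_combination (S.g x) * h' - (S.d 0 i x) * hg1 x hx
    · by_cases hxE : x = E
      · rw [if_pos hxE, hxE]
      · rw [if_neg hxE]
        exact mul_self_eq_zero.mp ((Finset.sum_eq_zero_iff_of_nonneg fun y _ => mul_self_nonneg _).mp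
          (by omega : ∑ x ∈ S.H0ᶜ.erase E, S.d 0 i x * S.d 0 i x = 0) x
          (Finset.mem_erase.mpr ⟨hxE, Finset.mem_compl.mpr hx⟩))
  choose E ε hEn hε hcard hval hoff using hrow
  -- distinct middle columns have distinct members outside
  haveI : Fintype {i // i ∈ Finset.Ico 1 h} := Finset.fintypeCoeSort _
  let F : {i // i ∈ Finset.Ico 1 h} → {x // x ∈ S.H0ᶜ} := fun i =>
    ⟨E i (Finset.mem_Ico.mp i.2).1 (Finset.mem_Ico.mp i.2).2, Finset.mem_compl.mpr (hEn _ _ _)⟩
  have hsurj : Function.Surjective F := by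
    rintro ⟨x, hx⟩
    obtain ⟨i, hi, hi', hne⟩ := hnz x (Finset.mem_compl.mp hx)
    refine ⟨⟨i, Finset.mem_Ico.mpr ⟨hi, hi'⟩⟩, Subtype.ext ?_⟩
    show E i hi hi' = x
    by_contra hxE
    exact hne (by rw [hoff i hi hi' x (Finset.mem_compl.mp hx), if_neg (Ne.symm hxE)])
  have hcards : Fintype.card {i // i ∈ Finset.Ico 1 h} = Fintype.card {x // x ∈ S.H0ᶜ} := by
    rw [Fintype.card_coe, Fintype.card_coe, Nat.card_Ico, S.card_compl, hk]; omega
  have hinj : Function.Injective F :=
    ((Fintype.bijective_iff_surjective_and_card F).mpr ⟨hsurj, hcards⟩).1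
  have hEinj : ∀ i j (hi : 1 ≤ i) (hi' : i < h) (hj : 1 ≤ j) (hj' : j < h), i ≠ j →
      E i hi hi' ≠ E j hj hj' := fun i j hi hi' hj hj' hne he =>
    hne (congrArg Subtype.val (hinj (a₁ := ⟨i, Finset.mem_Ico.mpr ⟨hi, hi'⟩⟩)
      (a₂ := ⟨j, Finset.mem_Ico.mpr ⟨hj, hj'⟩⟩) (Subtype.ext he)))
  have h11 : 1 < h := hh
  obtain ⟨a, b, hab, he⟩ := Finset.card_eq_two.mp (hcard 1 le_rfl h11)
  have ha : a ∈ S.H0 ∧ S.d 0 1 a ≠ 0 := Finset.mem_filter.mp (he ▸ Finset.mem_insert_self a {b})
  have hb : b ∈ S.H0 ∧ S.d 0 1 b ≠ 0 :=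
    Finset.mem_filter.mp (he ▸ Finset.mem_insert_of_mem (Finset.mem_singleton_self b))
  refine ⟨a, b, ha.1, hb.1, hab, fun x hx => ?_⟩
  obtain ⟨⟨i, hi0⟩, hiF⟩ := hsurj ⟨x, Finset.mem_compl.mpr hx⟩
  obtain ⟨hi, hi'⟩ := Finset.mem_Ico.mp hi0
  have hEx : E i hi hi' = x := congrArg Subtype.val hiF
  have hset : S.H0.filter (fun y => S.d 0 i y ≠ 0) = {a, b} := by
    rw [← he]
    by_cases hi1 : i = 1
    · subst hi1; rfl
    have hdot : ∑ y, S.d 0 i y * S.d 0 1 y = 2 := by
      rw [S.sum_d_mul (by omega) hi'.le (by omega) h11.le]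
      simp [show ¬ i = 0 by omega, show ¬ 0 = 1 by omega, hi1]
    rw [← Finset.sum_add_sum_compl S.H0, Finset.sum_eq_zero (s := S.H0ᶜ) fun y hy => by
      rw [hoff i hi hi' y (Finset.mem_compl.mp hy), hoff 1 le_rfl h11 y (Finset.mem_compl.mp hy)]
      split_ifs with q1 q2
      · exact absurd (q1.symm.trans q2) (hEinj _ _ _ _ _ _ hi1)
      all_goals simp, add_zero] at hdot
    have hterm : ∀ y ∈ S.H0, S.d 0 i y * S.d 0 1 y =
        if S.d 0 i y ≠ 0 ∧ S.d 0 1 y ≠ 0 then 1 else 0 := by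
      intro y hy
      split_ifs with q
      · rw [hval i hi hi' y hy q.1, hval 1 le_rfl h11 y hy q.2, ← pow_two]; exact hg1 y hy
      · rcases not_and_or.mp q with q | q <;> simp [not_not.mp q]
    rw [Finset.sum_congr rfl hterm, ← Finset.sum_filter, Finset.sum_const, nsmul_one] at hdot
    have hc : (S.H0.filter fun y => S.d 0 i y ≠ 0 ∧ S.d 0 1 y ≠ 0).card = 2 := by exact_mod_cast hdot
    have e1 := Finset.eq_of_subset_of_card_le
      (show S.H0.filter (fun y => S.d 0 i y ≠ 0 ∧ S.d 0 1 y ≠ 0) ⊆ S.H0.filter (fun y => S.d 0 i y ≠ 0)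
        from fun y hy => by simp only [Finset.mem_filter] at hy ⊢; exact ⟨hy.1, hy.2.1⟩)
      (by rw [hc, hcard i hi hi'])
    have e2 := Finset.eq_of_subset_of_card_le
      (show S.H0.filter (fun y => S.d 0 i y ≠ 0 ∧ S.d 0 1 y ≠ 0) ⊆ S.H0.filter (fun y => S.d 0 1 y ≠ 0)
        from fun y hy => by simp only [Finset.mem_filter] at hy ⊢; exact ⟨hy.1, hy.2.2⟩)
      (by rw [hc, hcard 1 le_rfl h11])
    exact e1.symm.trans e2
  refine ⟨i, ε i hi hi', hi, hi', hε i hi hi', fun y => ?_⟩
  by_cases hy : y ∈ S.H0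
  · rw [if_neg (fun (q : y = x) => hx (q ▸ hy)), zero_add]
    have hiff : S.d 0 i y ≠ 0 ↔ y = a ∨ y = b := by
      have := Finset.ext_iff.mp hset y
      simpa [hy] using this
    split_ifs with q
    · exact hval i hi hi' y hy (hiff.mpr q)
    · exact not_not.mp fun h => q (hiff.mp h)
  · rw [hoff i hi hi' y hy, hEx, if_neg (c := y = a ∨ y = b) fun q => hy (by
      rcases q with rfl | rfl
      · exact ha.1
      · exact hb.1), add_zero]

end Cfsg.Agent.BC84.Dihedral.CountData

namespace Cfsg.Agent.BC84.Tame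

open BlocksCore BlocksDefect BC85 BC85.Star BC84.Dihedral
open scoped Classical ComplexConjugate
open ZMod (stdAddChar)

universe u

/-- A combination orthogonal to the columns is orthogonal to the differences of the coefficients. -/
theorem orth_fn {N : ℕ} [NeZero N] {ι : Type*} [Fintype ι] {F : ι → ZMod N → ℂ}
    {A : ι → ZMod N → ℕ}
    (hA : ∀ x j, (N : ℂ) * (A x j : ℂ) = ∑ c : ZMod N, F x c * stdAddChar (-(c * j))) {δ : ι → ℂ}
    (horth : ∀ c : ZMod N, c ≠ 0 → ∑ x, F x c * δ x = 0) (i j : ZMod N) :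
    ∑ x, (((A x i : ℤ) - A x j : ℤ) : ℂ) * δ x = 0 := by
  refine mul_left_cancel₀ (Nat.cast_ne_zero.mpr (NeZero.ne N) : (N : ℂ) ≠ 0) ?_
  rw [mul_zero, Finset.mul_sum, Finset.sum_congr rfl fun x _ => by
    rw [← mul_assoc, coeff_sub (hA x), Finset.sum_mul], Finset.sum_comm]
  refine Finset.sum_eq_zero fun c _ => ?_
  by_cases hc : c = 0
  · simp [hc]
  · rw [Finset.sum_congr rfl (g := fun x => (stdAddChar (-(c * i)) - stdAddChar (-(c * j))) *
      (F x c * δ x)) fun x _ => by ring, ← Finset.mul_sum, horth c hc, mul_zero]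

variable {G : Type u} [Group G] [Fintype G] [Fact (Nat.Prime 2)] {M : Ideal AlgInt} [hP : M.IsPrime]
  (hM : IsPModular 2 M) {B : Set (IrrCharacter G)} [Fintype B] {D : Subgroup G}
  {e : Set (IrrCharacter (Subgroup.centralizer (D : Set G)))}
  (hmax : IsMaximalBrauerPair 2 M B D e)

include hM hmax

theorem exists_frame_dihedral {r : G} {hb : ℕ} (S : DihData D r hb) :
    ∃ H g a b, Frame B hb H g a b ∧ Extra B hb H g := by
  haveI : NeZero (2 * hb) := ⟨S.two_mul_ne_zero⟩
  obtain ⟨Θ, A, R⟩ := exists_rotColumns hM hmax S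
  obtain ⟨C, hht, hdeg, ha, hT⟩ := exists_countData R
  obtain ⟨hcard, hl1, hl3, -, -⟩ := invariants hM hmax S
  have hh := S.two_le
  have hnz : ∀ x ∉ C.H0, ∃ i, 1 ≤ i ∧ i < hb ∧ C.d 0 i x ≠ 0 := by
    intro x hx
    by_contra hn
    push Not at hn
    have hg := C.four.2 x hx
    have hall : ∀ j : ZMod (2 * hb), (A (x : IrrCharacter G) j : ℤ) = A (x : IrrCharacter G) 0 := by
      have hsmall : ∀ i : ℕ, i ≤ hb → (A (x : IrrCharacter G) (i : ZMod (2 * hb)) : ℤ) = A (x : IrrCharacter G) 0 := by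
        intro i hi
        rcases eq_or_ne i 0 with rfl | h0
        · simp
        rcases eq_or_ne i hb with rfl | hne
        · simp only [CountData.g, ha] at hg; omega
        have := hn i (by omega) (by omega)
        simp only [CountData.d, ha, Nat.cast_zero] at this
        omega
      intro j
      by_cases hj : j.val ≤ hb
      · rw [← ZMod.natCast_zmod_val j]; exact hsmall _ hj
      · rw [← coeff_symm (R.coeff _) (R.symm _) j, ← ZMod.natCast_zmod_val (-j)]
        refine hsmall _ ?_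
        rw [ZMod.neg_val]
        have := ZMod.val_lt j
        split_ifs <;> omega
    have hne0 : ((hb : ℕ) : ZMod (2 * hb)) ≠ 0 := half_ne_zero R
    have h0 : Θ (x : IrrCharacter G) ((hb : ℕ) : ZMod (2 * hb)) = 0 := by
      rw [coeff_inversion (R.coeff _), Finset.sum_congr rfl fun j _ => by
        rw [show (A (x : IrrCharacter G) j : ℂ) = ((A (x : IrrCharacter G) 0 : ℕ) : ℂ) by
          exact_mod_cast hall j], ← Finset.mul_sum, sum_char_mul, if_neg hne0, mul_zero]
    obtain ⟨m, hm, hv⟩ := C.val x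
    rw [← hT, Int.cast_eq_zero, hv] at h0
    rcases mul_eq_zero.mp h0 with h' | h'
    · exact pow_ne_zero _ two_ne_zero h'
    · exact hm (h' ▸ dvd_zero 2)
  obtain ⟨a, b, haH, hbH, hab, hpair⟩ := C.exists_pair hcard hnz
  have hrel : ∀ (i j : ℕ) (s : G), ¬ 2 ∣ orderOf s →
      ∑ x : B, ((C.d i j x : ℤ) : ℂ) * ((x : IrrCharacter G) : G → ℂ) s = 0 := by
    intro i j s hs
    simp only [CountData.d, ha]
    refine orth_fn (F := fun x : B => Θ (x : IrrCharacter G)) (fun x => R.coeff _) (fun c hc => ?_) _ _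
    have h1 := R.orth_regular hc hs
    rwa [sum_mems (fun χ : IrrCharacter G => Θ χ c * (χ : G → ℂ) s)] at h1
  have hgodd : ∀ x ∈ C.H0, C.g x ≠ 0 := fun x hx h0 =>
    (C.odd_g_iff x).mpr (C.mem_H0.mp hx) (by rw [h0]; exact dvd_zero 2)
  have hgrel : RelVec B C.H0 C.g := by
    refine relVec_of_norm C.four.1 C.sum_g_sq hgodd fun s hs => ?_
    rw [C.g_eq_d]; exact hrel 0 hb s hs
  have hframe : Frame B hb C.H0 C.g a b := by
    refine ⟨C.four.1, hcard, fun x => by rw [C.mem_H0, hht], hgrel, ⟨haH, hbH, hab⟩, fun x hx => ?_⟩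
    obtain ⟨i, ε, -, -, hε, hd⟩ := hpair x hx
    refine ⟨-ε, by omega, fun s hs => ?_⟩
    have h1 := hrel 0 i s hs
    have hxa : x ≠ a := fun q => hx (q ▸ haH)
    have hxb : x ≠ b := fun q => hx (q ▸ hbH)
    rw [← Finset.add_sum_erase _ _ (Finset.mem_univ x), ← Finset.sum_subset
      (show ({a, b} : Finset B) ⊆ Finset.univ.erase x from fun y hy => by
        simp only [Finset.mem_insert, Finset.mem_singleton] at hy
        rcases hy with rfl | rfl <;> simp [Ne.symm hxa, Ne.symm hxb]) (fun y hy hy' => by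
        simp only [Finset.mem_erase, Finset.mem_univ, and_true] at hy
        simp only [Finset.mem_insert, Finset.mem_singleton] at hy'
        rw [hd, if_neg hy, if_neg hy']; simp), Finset.sum_pair hab] at h1
    simp only [hd, if_pos, if_neg hxa.symm, if_neg hxb.symm, true_or, or_true,
      if_neg (show ¬ (x = a ∨ x = b) from not_or.mpr ⟨hxa, hxb⟩), zero_add, add_zero] at h1
    rcases hε with rfl | rfl <;> push_cast at h1 ⊢
    · linear_combination h1
    · linear_combination -h1
  refine ⟨C.H0, C.g, a, b, hframe, ?_⟩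
  -- the classes
  set z : D := S.rot ((hb : ℕ) : ZMod (2 * hb)) with hz
  have hrot1 : ∀ c : ZMod (2 * hb), c ≠ 0 → blockRank 2 (atBelow hM hmax (S.rot c)).2 = 1 := fun c hc =>
    rank_of_column (R.col c hc).choose_spec
  obtain ⟨y, hy, hyr⟩ := S.exists_refl
  set y₁ : D := ⟨y, hy⟩ with hy₁
  set y₂ : D := S.rot 1 * y₁ with hy₂
  have hrefl : ∀ w : D, (w : G) ∉ Subgroup.zpowers r → orderOf (w : G) = 2 ∧
      Nat.card (D ⊓ Subgroup.centralizer ({(w : G)} : Set G) : Subgroup G) = 4 := by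
    intro w hw
    obtain ⟨hww, -⟩ := S.flip w w.2 hw
    have hw1 : (w : G) ≠ 1 := fun q => hw (by rw [q]; exact one_mem _)
    have hwz : (w : G) ≠ r ^ hb := fun q => hw (by rw [q]; exact Subgroup.pow_mem _ (Subgroup.mem_zpowers r) _)
    have hzw1 : r ^ hb * (w : G) ≠ 1 := fun q => hwz (by
      have h2 := eq_inv_of_mul_eq_one_right q
      rw [h2]; exact inv_eq_of_mul_eq_one_right S.pow_mul_self)
    refine ⟨orderOf_eq_prime (by rw [pow_two, hww]) hw1, ?_⟩
    have hzc := S.commute_half w.2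
    have hset : ((D ⊓ Subgroup.centralizer ({(w : G)} : Set G) : Subgroup G) : Set G) =
        (({1, r ^ hb, (w : G), r ^ hb * w} : Finset G) : Set G) := by
      ext v
      simp only [Subgroup.coe_inf, Set.mem_inter_iff, SetLike.mem_coe, Subgroup.mem_centralizer_singleton_iff,
        Finset.coe_insert, Finset.coe_singleton, Set.mem_insert_iff, Set.mem_singleton_iff]
      constructor
      · rintro ⟨hv, hc⟩
        have hrot : ∀ u ∈ Subgroup.zpowers r, u * (w : G) = w * u → u = 1 ∨ u = r ^ hb := by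
          intro u hu hcu
          by_contra hn
          rw [not_or] at hn
          refine hw (S.mem_rot_of_commute w.2 hu (fun h2 => hn.2 (S.eq_of_sq hu h2 hn.1)) hcu.symm)
        by_cases hvr : v ∈ Subgroup.zpowers r
        · rcases hrot v hvr hc with q | q <;> simp [q]
        · have hvw := S.refl_mul_refl hv w.2 hvr hw
          rcases hrot _ hvw (by rw [mul_assoc, ← mul_assoc (w : G) v, ← hc, mul_assoc]) with q | q
          · right; right; left
            rw [eq_inv_of_mul_eq_one_left q]; exact inv_eq_of_mul_eq_one_right hww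
          · right; right; right
            rw [← q, mul_assoc, hww, mul_one]
      · rintro (rfl | rfl | rfl | rfl)
        · exact ⟨one_mem D, by simp⟩
        · exact ⟨D.pow_mem S.mem _, hzc.eq.symm⟩
        · exact ⟨w.2, rfl⟩
        · exact ⟨D.mul_mem (D.pow_mem S.mem _) w.2, by rw [mul_assoc, ← mul_assoc (w : G), hzc.eq, mul_assoc]⟩
    rw [← SetLike.coe_sort_coe, hset, Nat.card_coe_set_eq, Set.ncard_coe_finset,
      Finset.card_insert_of_notMem (by simp [Ne.symm S.pow_half_ne_one, Ne.symm hw1, Ne.symm hzw1]),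
      Finset.card_insert_of_notMem (by simp [Ne.symm hwz, hw1]),
      Finset.card_insert_of_notMem (by simp [S.pow_half_ne_one]), Finset.card_singleton]
  have hcolT : ∀ v : D, (v : G) ∉ Subgroup.zpowers r → ¬ Fused hM hmax z v →
      ∃ (T : IrrCharacter G → ℤ) (Q : G → ℂ), IsColumn hM hmax v (fun χ => (T χ : ℂ)) Q 4 ∧
        RelVec B C.H0 (fun x => T x) ∧ ∑ x : B, T x * C.g x = 0 := by
    intro v hv hzv
    obtain ⟨hord, h4⟩ := hrefl v hv
    have hfc : (blockFusion hM hmax.1.1).IsFullyCentralized (Subgroup.zpowers (v : G)) :=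
      fullyCentralized_of_fused hM hmax v fun w hw => by
        by_cases hwr : (w : G) ∈ Subgroup.zpowers r
        · exfalso
          have ho := hw.orderOf_eq hM hmax
          rw [hord] at ho
          refine hzv ((show z = w from Subtype.ext ?_) ▸ hw)
          rw [hz, S.rot_half]
          refine (S.eq_of_sq hwr (by rw [← pow_two, ← ho, pow_orderOf_eq_one]) fun q => ?_).symm
          rw [q, orderOf_one] at ho
          omega
        · rw [(hrefl w hwr).2, h4]
    haveI : Fact ((2 : ℕ) = 2) := ⟨rfl⟩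
    have hv1 : (v : G) ≠ 1 := fun q => hv (by rw [q]; exact one_mem _)
    obtain ⟨hnil, -⟩ := rank_one_of_fullyCentralized hM hmax v hv1 hfc h4.le
    obtain ⟨T, Q, hcol, hodd, -⟩ := exists_int_column hM hmax v hord hfc hnil
    rw [h4] at hcol
    refine ⟨T, Q, hcol, relVec_of_norm C.four.1 (by exact_mod_cast sum_sq_cast (B := B) hcol.sum_sq)
      (fun x hx q => hodd x x.2 (by rw [← hht]; exact C.mem_H0.mp hx) (by rw [q]; exact dvd_zero 2))
      (column_rel (fun q => hv1 (congrArg Subtype.val q)) hcol), ?_⟩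
    refine Int.cast_injective (α := ℂ) ?_
    rw [C.g_eq_d]
    push_cast
    simp only [CountData.d, ha]
    rw [Finset.sum_congr rfl fun (x : B) _ => mul_comm _ _]
    refine orth_fn (F := fun x : B => Θ (x : IrrCharacter G)) (fun x => R.coeff _) (fun c hc => ?_) _ _
    obtain ⟨Qc, hQc⟩ := R.col c hc
    have hne : classOf hM hmax (S.rot c) v = 0 := by
      rw [classOf_eq, if_neg]
      intro hf
      have ho := hf.orderOf_eq hM hmax
      rw [hord] at ho
      refine hzv ((show S.rot c = z from Subtype.ext ?_) ▸ hf)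
      rw [hz, S.rot_half]
      refine S.eq_of_sq (S.rot_mem c) (by rw [← pow_two, ← ho, pow_orderOf_eq_one]) fun q => ?_
      rw [q, orderOf_one] at ho
      omega
    have h1 := hQc.sum_mul hcol hne
    simp only [R.real] at h1
    rwa [sum_mems (fun χ : IrrCharacter G => Θ χ c * (T χ : ℂ))] at h1
  have hy1r : (y₁ : G) ∉ Subgroup.zpowers r := hyr
  have hy2r : (y₂ : G) ∉ Subgroup.zpowers r := fun hm => hyr (by
    have h2 := Subgroup.mul_mem _ (inv_mem (S.rot_mem 1)) hm
    rwa [hy₂, Subgroup.coe_mul, inv_mul_cancel_left] at h2)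
  have hbound : ∀ E : Finset D, (∀ v ∈ E, v = y₁ ∨ v = y₂) →
      (∀ v : D, (v = y₁ ∨ v = y₂) → Fused hM hmax z v ∨ ∃ w ∈ E, Fused hM hmax w v) →
      (∀ v ∈ E, ¬ Fused hM hmax z v) → hb + 3 ≤ blockRank 2 B + hb + E.card := by
    intro E hE hc hEz
    set R0 : Finset D := insert 1 ((Finset.Icc 1 hb).image (fun i : ℕ => S.rot (i : ZMod (2 * hb))) ∪ E) with hR0
    have hzR : z ∈ R0 := Finset.mem_insert_of_mem (Finset.mem_union_left _
      (Finset.mem_image.mpr ⟨hb, Finset.mem_Icc.mpr ⟨by omega, le_rfl⟩, rfl⟩))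
    have hy12 : ∀ v : D, (v = y₁ ∨ v = y₂) → ∃ w ∈ R0, Fused hM hmax w v := by
      intro v hv
      rcases hc v hv with h | ⟨w, hw, h⟩
      · exact ⟨z, hzR, h⟩
      · exact ⟨w, Finset.mem_insert_of_mem (Finset.mem_union_right _ hw), h⟩
    have hcov : ∀ x, ∃ v ∈ R0, Fused hM hmax v x := by
      intro x
      by_cases hxr : (x : G) ∈ Subgroup.zpowers r
      · obtain ⟨c, rfl⟩ : ∃ c, S.rot c = x := by
          obtain ⟨k, hk⟩ := Subgroup.mem_zpowers_iff.mp hxr
          refine ⟨(k : ZMod (2 * hb)), Subtype.ext ?_⟩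
          show r ^ (k : ZMod (2 * hb)).val = x
          rw [← hk, ← zpow_natCast, ZMod.val_intCast, zpow_eq_zpow_iff_modEq, S.order]
          exact Int.mod_modEq _ _
        rcases eq_or_ne c 0 with rfl | hc0
        · exact ⟨1, Finset.mem_insert_self _ _, by rw [S.rot_zero]; exact fused_refl hM hmax 1⟩
        by_cases hc' : c.val ≤ hb
        · exact ⟨S.rot c, Finset.mem_insert_of_mem (Finset.mem_union_left _ (Finset.mem_image.mpr
            ⟨c.val, Finset.mem_Icc.mpr ⟨Nat.pos_of_ne_zero (by simpa [ZMod.val_eq_zero] using hc0), hc'⟩,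
              by rw [ZMod.natCast_zmod_val]⟩)), fused_refl hM hmax _⟩
        · refine ⟨S.rot (-c), Finset.mem_insert_of_mem (Finset.mem_union_left _ (Finset.mem_image.mpr
            ⟨(-c).val, Finset.mem_Icc.mpr ⟨Nat.pos_of_ne_zero (by simpa [ZMod.val_eq_zero] using hc0), ?_⟩,
              by rw [ZMod.natCast_zmod_val]⟩)), ?_⟩
          · rw [ZMod.neg_val, if_neg hc0]; omega
          · have h1 := fused_conj hM hmax (S.rot c) y₁
            rwa [show y₁ * S.rot c * y₁⁻¹ = S.rot (-c) from Subtype.ext (by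
              rw [S.rot_neg]; push_cast
              obtain ⟨k, hk⟩ := Subgroup.mem_zpowers_iff.mp (S.rot_mem c)
              rw [← hk]; exact S.flip_zpow hy hyr k)] at h1
      · obtain ⟨k, hk⟩ := Subgroup.mem_zpowers_iff.mp (S.refl_mul_refl x.2 hy hxr hyr)
        have hyy : y * y = 1 := (S.flip y hy hyr).1
        have hx : (x : G) = r ^ k * y := by rw [hk, mul_assoc, hyy, mul_one]
        obtain ⟨v, hv, j, hj⟩ : ∃ v, (v = y₁ ∨ v = y₂) ∧ ∃ j : ℤ, (x : G) = r ^ j * v * (r ^ j)⁻¹ := by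
          have hflip : ∀ j : ℤ, y * (r ^ j)⁻¹ = r ^ j * y := fun j => by
            have h1 := S.flip_zpow hy hyr j
            rw [← h1, inv_eq_of_mul_eq_one_right hyy, mul_assoc, ← mul_assoc y y, hyy, one_mul]
          rcases Int.even_or_odd k with ⟨j, hj⟩ | ⟨j, hj⟩
          · refine ⟨y₁, Or.inl rfl, j, ?_⟩
            rw [hx, mul_assoc, show ((y₁ : D) : G) = y from rfl, hflip, ← mul_assoc, ← zpow_add, hj]
          · refine ⟨y₂, Or.inr rfl, j, ?_⟩
            rw [hx, show ((y₂ : D) : G) = r * y by rw [hy₂, Subgroup.coe_mul, S.rot_one],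
              mul_assoc, mul_assoc r, hflip, ← mul_assoc, ← mul_assoc, ← zpow_add_one, ← zpow_add, hj]
            congr 2; ring
        obtain ⟨w, hw, hwf⟩ := hy12 v hv
        refine ⟨w, hw, hwf.trans hM hmax (Fused.symm hM hmax ?_)⟩
        have h1 := fused_conj hM hmax v ⟨r ^ j, D.zpow_mem S.mem j⟩
        rwa [show (⟨r ^ j, D.zpow_mem S.mem j⟩ : D) * v * (⟨r ^ j, D.zpow_mem S.mem j⟩ : D)⁻¹ = x from
          Subtype.ext (by push_cast; exact hj.symm)] at h1
    have h1 := card_le_sum_cover hM hmax R0 hcov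
    rw [Nat.card_eq_fintype_card, hcard] at h1
    refine h1.trans ?_
    set J := (Finset.Icc 1 hb).image (fun i : ℕ => S.rot (i : ZMod (2 * hb))) with hJ
    have h2 : ∀ v ∈ J ∪ E, blockRank 2 (atBelow hM hmax v).2 = 1 := by
      intro v hv
      rcases Finset.mem_union.mp hv with hv | hv
      · obtain ⟨i, hi, rfl⟩ := Finset.mem_image.mp hv
        refine hrot1 _ fun q => ?_
        rw [ZMod.natCast_eq_zero_iff] at q
        have := Nat.le_of_dvd (Finset.mem_Icc.mp hi).1 q
        have := (Finset.mem_Icc.mp hi).2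
        omega
      · obtain ⟨T, Q, hcol, -⟩ := hcolT v (by rcases hE v hv with rfl | rfl <;> assumption) (hEz v hv)
        exact rank_of_column hcol
    calc ∑ v ∈ insert 1 (J ∪ E), blockRank 2 (atBelow hM hmax v).2
        ≤ blockRank 2 (atBelow hM hmax 1).2 + ∑ v ∈ J ∪ E, blockRank 2 (atBelow hM hmax v).2 := by
          by_cases h1' : (1 : D) ∈ J ∪ E
          · rw [Finset.insert_eq_of_mem h1']; exact Nat.le_add_left _ _
          · rw [Finset.sum_insert h1']
      _ ≤ blockRank 2 B + hb + E.card := by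
          rw [blockRank_atBelow_one hM hmax, Finset.sum_congr rfl h2, Finset.sum_const, smul_eq_mul, mul_one,
            add_assoc]
          refine Nat.add_le_add_left ((Finset.card_union_le _ _).trans (Nat.add_le_add_right ?_ _)) _
          exact le_trans Finset.card_image_le (by rw [Nat.card_Icc]; omega)
  rcases (show blockRank 2 B = 1 ∨ blockRank 2 B = 2 ∨ blockRank 2 B = 3 by omega) with hl | hl | hl
  · have hz1 : ¬ Fused hM hmax z y₁ := fun hf => by
      by_cases hf2 : Fused hM hmax z y₂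
      · have := hbound ∅ (by simp) (fun v hv => Or.inl (by rcases hv with rfl | rfl <;> assumption)) (by simp)
        simp at this; omega
      · have := hbound {y₂} (by simp) (fun v hv => by
          rcases hv with rfl | rfl
          · exact Or.inl hf
          · exact Or.inr ⟨y₂, by simp, fused_refl hM hmax _⟩) (by simpa using hf2)
        simp at this; omega
    have hz2 : ¬ Fused hM hmax z y₂ := fun hf => by
      have := hbound {y₁} (by simp) (fun v hv => by
        rcases hv with rfl | rfl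
        · exact Or.inr ⟨y₁, by simp, fused_refl hM hmax _⟩
        · exact Or.inl hf) (by simpa using hz1)
      simp at this; omega
    have h12 : ¬ Fused hM hmax y₁ y₂ := fun hf => by
      have := hbound {y₁} (by simp) (fun v hv => by
        rcases hv with rfl | rfl
        · exact Or.inr ⟨y₁, by simp, fused_refl hM hmax _⟩
        · exact Or.inr ⟨y₁, by simp, hf⟩) (by simpa using hz1)
      simp at this; omega
    obtain ⟨T, Q, hcol, hT1, hT2⟩ := hcolT y₁ hy1r hz1
    obtain ⟨T', Q', hcol', hT1', hT2'⟩ := hcolT y₂ hy2r hz2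
    exact Or.inr (Or.inr ⟨hl, _, _, hT1, hT1', hT2, hT2', column_orth hcol hcol' h12⟩)
  · by_cases hz1 : Fused hM hmax z y₁
    · have hz2 : ¬ Fused hM hmax z y₂ := fun hf => by
        have := hbound ∅ (by simp) (fun v hv => Or.inl (by rcases hv with rfl | rfl <;> assumption)) (by simp)
        simp at this; omega
      obtain ⟨T, Q, -, hT1, hT2⟩ := hcolT y₂ hy2r hz2
      exact Or.inr (Or.inl ⟨hl, hh, _, hT1, hT2⟩)
    · obtain ⟨T, Q, -, hT1, hT2⟩ := hcolT y₁ hy1r hz1
      exact Or.inr (Or.inl ⟨hl, hh, _, hT1, hT2⟩)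
  · exact Or.inl hl

end Cfsg.Agent.BC84.Tame
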