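import Cfsg.Agent.BC84.Tame.Frame
import Cfsg.Agent.BlkChar.KleinDefect

/-!
# The relations in a block with defect group a four-group
-/

set_option autoImplicit false
set_option linter.unusedSectionVars false

namespace Cfsg.Agent.BC84.Tame

open BlocksCore BlocksDefect BC85 BC85.Star BC84.Dihedral
open scoped Classical ComplexConjugate

universe u

variable {G : Type u} [Group G] [Fintype G] [Fact (Nat.Prime 2)] {M : Ideal AlgInt} [hP : M.IsPrime]
  (hM : IsPModular 2 M) {B : Set (IrrCharacter G)} [Fintype B] {D : Subgroup G}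
  {e : Set (IrrCharacter (Subgroup.centralizer (D : Set G)))}
  (hmax : IsMaximalBrauerPair 2 M B D e)

include hM hmax

theorem exists_frame_klein (hcard : Nat.card D = 4) (hsq : ∀ x ∈ D, x * x = 1) :
    ∃ H g a b, Frame B 1 H g a b ∧ Extra B 1 H g := by
  have hab : ∀ x ∈ D, ∀ y ∈ D, x * y = y * x := fun x hx y hy => by
    have hi : ∀ w ∈ D, w⁻¹ = w := fun w hw => inv_eq_of_mul_eq_one_right (hsq w hw)
    have h1 := hi _ (D.mul_mem hx hy)
    rwa [mul_inv_rev, hi x hx, hi y hy, eq_comm] at h1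
  have hDC : D ≤ Subgroup.centralizer (D : Set G) := fun x hx =>
    Subgroup.mem_centralizer_iff.mpr fun y hy => hab y hy x hx
  have hle : ∀ v : D, D ≤ Subgroup.centralizer ({(v : G)} : Set G) := fun v x hx =>
    Subgroup.mem_centralizer_singleton_iff.mpr (hab x hx v v.2)
  have hV : IsKleinFour D := by
    refine ⟨hcard, ?_⟩
    have hd : Monoid.exponent D ∣ 2 := Monoid.exponent_dvd_of_forall_pow_eq_one fun x =>
      Subtype.ext (by rw [Subgroup.coe_pow, pow_two]; exact hsq x x.2)
    rcases (Nat.dvd_prime Nat.prime_two).mp hd with h | h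
    · exfalso
      have := Monoid.exp_eq_one_iff.mp h
      have h1 : Nat.card D = 1 := Nat.card_eq_one_iff_unique.mpr ⟨this, ⟨1⟩⟩
      omega
    · exact h
  have hind : IsInducedBlock M (Subgroup.centralizer (D : Set G)) e B := by
    refine isInducedBlock_of_over hM hDC le_rfl hmax.1 hmax.1.1.2 fun θ hθ => ?_
    show θ ∈ unitSet M (pullFun (Subgroup.centralizer (D : Set G)).subtype (bp ⟨D, e⟩))
    rw [pullFun_bp, unitSet_blockCoeff hM]
    exact hθ
  obtain ⟨he, hk, hl⟩ := BlkChar.KleinDefect.klein_counts hM (isDefectGroup_of_maximal hM hmax) hV hind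
  rw [Nat.card_eq_fintype_card] at hk
  have hord : ∀ v : D, v ≠ 1 → orderOf (v : G) = 2 := fun v hv =>
    orderOf_eq_prime (by rw [pow_two]; exact hsq v v.2) fun h => hv (Subtype.ext h)
  have hpt : ∀ v : D, v ≠ 1 → ∃ (T : IrrCharacter G → ℤ) (Q : G → ℂ),
      IsColumn hM hmax v (fun χ => (T χ : ℂ)) Q 4 ∧ (∀ χ ∈ B, T χ ≠ 0) ∧
      (∀ χ ∈ B, blockHeight 2 B (χ : G → ℂ) = 0 → ¬ (2 : ℤ) ∣ T χ) := by
    intro v hv
    have hfc : (blockFusion hM hmax.1.1).IsFullyCentralized (Subgroup.zpowers (v : G)) :=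
      fullyCentralized_of_fused hM hmax v fun w _ => by
        rw [inf_eq_left.mpr (hle w), inf_eq_left.mpr (hle v)]
    have hC4 : Nat.card (D ⊓ Subgroup.centralizer ({(v : G)} : Set G) : Subgroup G) = 4 := by
      rw [inf_eq_left.mpr (hle v), hcard]
    haveI : Fact ((2 : ℕ) = 2) := ⟨rfl⟩
    obtain ⟨hnil, -⟩ := rank_one_of_fullyCentralized hM hmax v (fun h => hv (Subtype.ext h)) hfc hC4.le
    obtain ⟨T, Q, hcol, hodd, hne⟩ := exists_int_column hM hmax v (hord v hv) hfc hnil
    rw [hC4] at hcol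
    exact ⟨T, Q, hcol, hne (hle v), hodd⟩
  choose T Q hcol hne hodd using hpt
  -- every member has height zero
  have hheight : ∀ x : B, blockHeight 2 B ((x : IrrCharacter G) : G → ℂ) = 0 := by
    obtain ⟨w, hw⟩ : ∃ w : D, w ≠ 1 := by
      by_contra hn
      push Not at hn
      have h1 : Nat.card D = 1 := Nat.card_eq_one_iff_unique.mpr
        ⟨⟨fun a b => (hn a).trans (hn b).symm⟩, ⟨1⟩⟩
      omega
    intro x
    by_contra h0
    obtain ⟨ψ, hψ, hψ0⟩ := exists_height_zero hM hmax.1.2.1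
    have hsum := sum_sq_cast (B := B) (hcol w hw).sum_sq
    have hrv := relVec_of_norm (H := (Finset.univ : Finset B)) (by rw [Finset.card_univ, hk])
      (by exact_mod_cast hsum) (fun y _ => hne w hw y y.2) (column_rel hw (hcol w hw))
    obtain ⟨b, hb, hdef, hcon⟩ := exists_local_block hM hmax w
    obtain ⟨e', hmax', -⟩ := exists_local_max hM hmax w (fullyCentralized_of_fused hM hmax w
      fun w' _ => by rw [inf_eq_left.mpr (hle w'), inf_eq_left.mpr (hle w)])
    have hdb : blockDefect 2 b = blockDefect 2 B := by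
      rw [hdef]
      apply Nat.pow_right_injective (le_refl 2)
      show 2 ^ blockDefect 2 (locB hM hmax w) = 2 ^ blockDefect 2 B
      rw [← defectGroup_natCard hM hmax'.1.2.1 (isDefectGroup_of_maximal hM hmax'),
        ← defectGroup_natCard hM hmax.1.2.1 (isDefectGroup_of_maximal hM hmax), locD,
        Nat.card_congr (Subgroup.subgroupOfEquivOfLe inf_le_right).toEquiv,
        BlocksCore.centralizer_zpowers, inf_eq_left.mpr (hle w)]
    obtain ⟨hloc, -⟩ := Mc_val_zero hM (u := (w : G)) (k := 1) (by rw [hord w hw, pow_one]) hb hdb x.2 hψ hψ0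
    have hMc : Mc b (x : IrrCharacter G) ψ = ((T w hw x * T w hw ψ : ℤ) : ℂ) := by
      have h1 := (hcol w hw).contribAt_eq x.2 hψ
      rw [← hcon, map_intCast] at h1
      rw [Mc, hdb, show (2 : ℂ) ^ blockDefect 2 B = ((4 : ℕ) : ℂ) by
        rw [← hcard, defectGroup_natCard hM hmax.1.2.1 (isDefectGroup_of_maximal hM hmax)]; push_cast; rfl]
      refine mul_left_cancel₀ (Nat.cast_ne_zero.mpr Nat.card_pos.ne' :
        (Nat.card (Subgroup.centralizer ({(w : G)} : Set G)) : ℂ) ≠ 0) ?_
      push_cast at h1 ⊢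
      linear_combination h1
    rw [hMc] at hloc
    set j := blockHeight 2 B ((x : IrrCharacter G) : G → ℂ)
    have h2I : MemLocalIdeal M ((2 : ℂ) ^ j) := by
      have h3 := (memLocalIdeal_natCast_iff hM (2 ^ j)).mpr (dvd_pow_self 2 h0)
      push_cast at h3
      exact h3
    have h4 := memLocalIdeal_mul_right h2I hloc
    rw [mul_div_cancel₀ _ (pow_ne_zero _ two_ne_zero)] at h4
    have h5 := (memLocalIdeal_intCast_iff hM _).mp h4
    have s1 := hrv.sign x (Finset.mem_univ _)
    have s2 := hrv.sign ⟨ψ, hψ⟩ (Finset.mem_univ _)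
    rcases s1 with s1 | s1 <;> rcases s2 with s2 | s2 <;> rw [s1, s2] at h5 <;> norm_num at h5
  let H : Finset B := Finset.univ
  have hH : H.card = 4 := by rw [Finset.card_univ, hk]
  have hrv : ∀ v hv, RelVec B H (fun x => T v hv x) := fun v hv =>
    relVec_of_norm hH (by exact_mod_cast sum_sq_cast (B := B) (hcol v hv).sum_sq)
      (fun y _ => hne v hv y y.2) (column_rel hv (hcol v hv))
  obtain ⟨v0, v1, v2, hv0, hv1, hv2, h01, h02, h12, hall⟩ : ∃ v0 v1 v2 : D, v0 ≠ 1 ∧ v1 ≠ 1 ∧
      v2 ≠ 1 ∧ v0 ≠ v1 ∧ v0 ≠ v2 ∧ v1 ≠ v2 ∧ ∀ x : D, x = 1 ∨ x = v0 ∨ x = v1 ∨ x = v2 := by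
    haveI := Fintype.ofFinite D
    obtain ⟨v0, v1, v2, h01, h02, h12, he⟩ := Finset.card_eq_three.mp
      (show (Finset.univ.erase (1 : D)).card = 3 by
        rw [Finset.card_erase_of_mem (Finset.mem_univ _), Finset.card_univ, ← Nat.card_eq_fintype_card, hcard])
    have hm : ∀ x : D, x ≠ 1 ↔ x ∈ ({v0, v1, v2} : Finset D) := fun x => by
      rw [← he]; simp
    refine ⟨v0, v1, v2, (hm _).mpr (by simp), (hm _).mpr (by simp), (hm _).mpr (by simp),
      h01, h02, h12, fun x => or_iff_not_imp_left.mpr fun h => ?_⟩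
    simpa using (hm x).mp h
  obtain ⟨a, b, hab'⟩ : ∃ a b : B, a ≠ b := Fintype.exists_pair_of_one_lt_card (by omega)
  refine ⟨H, fun x => T v0 hv0 x, a, b, ⟨hH, by omega, fun x => by simp [H, hheight x], hrv v0 hv0,
    ⟨Finset.mem_univ _, Finset.mem_univ _, hab'⟩, fun x hx => absurd (Finset.mem_univ x) hx⟩, ?_⟩
  rcases he with he | he
  · rw [he] at hl
    have hrk : ∀ v : D, v ≠ 1 → blockRank 2 (atBelow hM hmax v).2 = 1 := fun v hv =>
      rank_of_column (hcol v hv)
    have hbig : ∀ p q : D, p ≠ 1 → q ≠ 1 → (∀ x : D, x = 1 ∨ Fused hM hmax p x ∨ Fused hM hmax q x) →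
        False := by
      intro p q hp hq hc
      have h1 := card_le_sum_cover hM hmax {1, p, q} fun x => by
        rcases hc x with rfl | h | h
        · exact ⟨1, by simp, fused_refl hM hmax 1⟩
        · exact ⟨p, by simp, h⟩
        · exact ⟨q, by simp, h⟩
      rw [Nat.card_eq_fintype_card, hk] at h1
      have h2 : ∑ v ∈ ({1, p, q} : Finset D), blockRank 2 (atBelow hM hmax v).2 ≤ 3 := by
        refine (Finset.sum_le_card_nsmul _ _ 1 fun v hv => ?_).trans ?_
        · simp only [Finset.mem_insert, Finset.mem_singleton] at hv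
          rcases hv with rfl | rfl | rfl
          · rw [blockRank_atBelow_one hM hmax, hl]
          · rw [hrk _ hp]
          · rw [hrk _ hq]
        · rw [smul_eq_mul, mul_one]; exact Finset.card_le_three
      omega
    refine Or.inr (Or.inr ⟨hl, fun x => T v1 hv1 x, fun x => T v2 hv2 x, hrv v1 hv1, hrv v2 hv2,
      column_orth (hcol v1 hv1) (hcol v0 hv0) fun hf => ?_,
      column_orth (hcol v2 hv2) (hcol v0 hv0) fun hf => ?_,
      column_orth (hcol v1 hv1) (hcol v2 hv2) fun hf => ?_⟩)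
    · refine hbig v1 v2 hv1 hv2 fun x => ?_
      rcases hall x with rfl | rfl | rfl | rfl
      · exact Or.inl rfl
      · exact Or.inr (Or.inl hf)
      · exact Or.inr (Or.inl (fused_refl hM hmax _))
      · exact Or.inr (Or.inr (fused_refl hM hmax _))
    · refine hbig v1 v2 hv1 hv2 fun x => ?_
      rcases hall x with rfl | rfl | rfl | rfl
      · exact Or.inl rfl
      · exact Or.inr (Or.inr hf)
      · exact Or.inr (Or.inl (fused_refl hM hmax _))
      · exact Or.inr (Or.inr (fused_refl hM hmax _))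
    · refine hbig v0 v1 hv0 hv1 fun x => ?_
      rcases hall x with rfl | rfl | rfl | rfl
      · exact Or.inl rfl
      · exact Or.inr (Or.inl (fused_refl hM hmax _))
      · exact Or.inr (Or.inr (fused_refl hM hmax _))
      · exact Or.inr (Or.inr hf)
  · exact Or.inl (hl.trans he)

end Cfsg.Agent.BC84.Tame
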