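import Cfsg.Prelude.Def_CaseTheorems
import Mathlib.GroupTheory.SpecificGroups.Quaternion
import Mathlib.Data.ZMod.Basic
import Mathlib.Tactic

/-!
# Semidihedral and quaternion groups as subgroups

A group of order `4 h` with a cyclic subgroup generated by `r` of order `2 h`; the elements outside
act on it by `κ` and square to one or to the central involution.
-/

set_option autoImplicit false
set_option linter.unusedSectionVars false

namespace Cfsg.Agent.BC84.Tame

universe u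

variable {G : Type u} [Group G]

/-- The group data. -/
structure TameData (D : Subgroup G) (r : G) (h : ℕ) (κ : ZMod (2 * h)) : Prop where
  mem : r ∈ D
  order : orderOf r = 2 * h
  pow : ∃ a : ℕ, 1 ≤ a ∧ h = 2 ^ a
  card : Nat.card D = 4 * h
  kappa_sq : κ * κ = 1
  kappa_two : ∃ v : ZMod (2 * h), (κ - 1) * v = 2
  kappa_half : κ * (h : ℕ) = (h : ℕ)
  flip : ∀ x ∈ D, x ∉ Subgroup.zpowers r →
    x * r * x⁻¹ = r ^ κ.val ∧ (x * x = 1 ∨ x * x = r ^ h)

/-- Quaternion data. -/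
def IsQuat (D : Subgroup G) (r : G) (h : ℕ) (κ : ZMod (2 * h)) : Prop :=
  TameData D r h κ ∧ ∀ x ∈ D, x ∉ Subgroup.zpowers r → x * x = r ^ h

/-- Semidihedral data with an involution `y` outside the cyclic subgroup. -/
def IsSemi (D : Subgroup G) (r : G) (h : ℕ) (κ : ZMod (2 * h)) (y : G) : Prop :=
  TameData D r h κ ∧ 4 ≤ h ∧ y ∈ D ∧ y ∉ Subgroup.zpowers r ∧ y * y = 1 ∧
    r * y * (r * y) = r ^ h

theorem natCast_val_pow {r : G} {N : ℕ} [NeZero N] (hr : orderOf r = N) (i : ℕ) :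
    r ^ ((i : ZMod N)).val = r ^ i := by
  rw [ZMod.val_natCast, ← hr, pow_mod_orderOf]

theorem exists_quat {D : Subgroup G} {n : ℕ} (hn : 3 ≤ n)
    (hq : Nonempty (D ≃* QuaternionGroup (2 ^ (n - 2)))) :
    ∃ r, IsQuat D r (2 ^ (n - 2)) (-1) := by
  obtain ⟨φ⟩ := hq
  set h := 2 ^ (n - 2) with hh
  haveI : NeZero h := ⟨pow_ne_zero _ two_ne_zero⟩
  haveI : NeZero (2 * h) := ⟨mul_ne_zero two_ne_zero (NeZero.ne h)⟩
  set s : D := φ.symm (QuaternionGroup.a 1) with hs
  have hord : orderOf (s : G) = 2 * h := by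
    rw [Subgroup.orderOf_coe, hs, φ.symm.orderOf_eq, QuaternionGroup.orderOf_a_one]
  have hrot : ∀ i : ZMod (2 * h), φ.symm (QuaternionGroup.a i) = s ^ i.val := fun i => by
    rw [hs, ← map_pow, QuaternionGroup.a_one_pow, ZMod.natCast_zmod_val]
  have hx : ∀ x ∈ D, x ∉ Subgroup.zpowers (s : G) →
      x * (s : G) * x⁻¹ = (s : G) ^ (-1 : ZMod (2 * h)).val ∧ x * x = (s : G) ^ h := by
    intro x hx hxr
    cases hy : φ ⟨x, hx⟩ with
    | a i =>
      refine absurd ?_ hxr
      have he : (⟨x, hx⟩ : D) = s ^ i.val := by rw [← hrot, ← hy, φ.symm_apply_apply]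
      have := congrArg Subtype.val he
      rw [Subgroup.coe_pow] at this
      show (⟨x, hx⟩ : D).val ∈ _
      rw [this]
      exact Subgroup.pow_mem _ (Subgroup.mem_zpowers _) _
    | xa i =>
      have h1 : (⟨x, hx⟩ : D) * s * (⟨x, hx⟩ : D)⁻¹ = s ^ (-1 : ZMod (2 * h)).val := φ.injective (by
        rw [map_mul, map_mul, map_inv, map_pow, hy, hs, φ.apply_symm_apply,
          QuaternionGroup.a_one_pow, ZMod.natCast_zmod_val, mul_inv_eq_iff_eq_mul,
          QuaternionGroup.xa_mul_a, QuaternionGroup.a_mul_xa]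
        congr 1; ring)
      have h2 : (⟨x, hx⟩ : D) * ⟨x, hx⟩ = s ^ h := φ.injective (by
        rw [map_mul, map_pow, hy, hs, φ.apply_symm_apply, QuaternionGroup.a_one_pow,
          QuaternionGroup.xa_mul_xa]
        congr 1; ring)
      exact ⟨congrArg Subtype.val h1, congrArg Subtype.val h2⟩
  refine ⟨(s : G), ⟨s.2, hord, ⟨n - 2, by omega, hh⟩, ?_, by ring, ⟨-1, by ring⟩, ?_,
    fun x hm hxr => ⟨(hx x hm hxr).1, Or.inr (hx x hm hxr).2⟩⟩, fun x hm hxr => (hx x hm hxr).2⟩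
  · rw [Nat.card_congr φ.toEquiv, Nat.card_eq_fintype_card, QuaternionGroup.card]
  · rw [neg_one_mul, neg_eq_iff_add_eq_zero, ← Nat.cast_add, ← two_mul, ZMod.natCast_self]

theorem exists_semi {D : Subgroup G} {n : ℕ} (hn : 4 ≤ n) (hcard : Nat.card D = 2 ^ n)
    (hsd : Cfsg.IsQuasiDihedral D) :
    ∃ r y, IsSemi D r (2 ^ (n - 2)) (((2 ^ (n - 2) - 1 : ℕ) : ZMod (2 * 2 ^ (n - 2)))) y := by
  obtain ⟨m, hm, hc, x, y, hxo, hyo, hrel⟩ := hsd
  obtain rfl : n = m + 1 := Nat.pow_right_injective le_rfl (hcard.symm.trans hc)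
  rw [show m + 1 - 2 = m - 1 from by omega]
  generalize hh : 2 ^ (m - 1) = h at *
  set κ : ZMod (2 * h) := ((h - 1 : ℕ) : ZMod (2 * h)) with hκ
  have h4 : 4 ≤ h := hh ▸ le_trans (by norm_num) (Nat.pow_le_pow_right two_pos (show 2 ≤ m - 1 by omega))
  haveI : NeZero (2 * h) := ⟨by omega⟩
  have h2m : 2 ^ m = 2 * h := by rw [← hh, ← pow_succ']; congr 1; omega
  have hxG : orderOf (x : G) = 2 * h := by rw [Subgroup.orderOf_coe, hxo, h2m]
  have hyy : (y : G) * y = 1 := by
    rw [← pow_two]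
    exact orderOf_dvd_iff_pow_eq_one.mp (by rw [Subgroup.orderOf_coe, hyo])
  have hflip : (y : G) * x * (y : G)⁻¹ = (x : G) ^ (h - 1) := by
    have := congrArg Subtype.val hrel
    simpa using this
  have hyn : (y : G) ∉ Subgroup.zpowers (x : G) := by
    intro hm'
    obtain ⟨c, hc'⟩ := Subgroup.mem_zpowers_iff.mp hm'
    have h1 : (y : G) * x * (y : G)⁻¹ = x := by
      rw [← hc']
      exact mul_inv_eq_iff_eq_mul.mpr ((Commute.refl (x : G)).zpow_left c).eq
    rw [h1] at hflip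
    have hd : (x : G) ^ (h - 1 - 1) = 1 := by
      refine mul_right_cancel (b := (x : G)) ?_
      rw [← pow_succ, Nat.sub_add_cancel (by omega), one_mul]
      exact hflip.symm
    have := Nat.le_of_dvd (by omega) (orderOf_dvd_of_pow_eq_one hd)
    omega
  have heven : 2 ∣ h := hh ▸ dvd_pow_self 2 (show m - 1 ≠ 0 by omega)
  obtain ⟨q, hq⟩ := heven
  have hper : (x : G) ^ (2 * h) = 1 := by rw [← hxG, pow_orderOf_eq_one]
  have hcz : ∀ k : ℕ, (2 * h ∣ k) → (x : G) ^ k = 1 := fun k hk =>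
    orderOf_dvd_iff_pow_eq_one.mp (hxG ▸ hk)
  have hsq : (x : G) * y * ((x : G) * y) = (x : G) ^ h := by
    calc (x : G) * y * ((x : G) * y) = (x : G) * ((y : G) * x * (y : G)⁻¹) * ((y : G) * y) := by group
      _ = (x : G) ^ h := by rw [hflip, hyy, mul_one, ← pow_succ', Nat.sub_add_cancel (by omega)]
  have hcast : ((2 * h : ℕ) : ZMod (2 * h)) = 0 := ZMod.natCast_self _
  have hκ1 : κ * κ = 1 := by
    rw [hκ, ← Nat.cast_mul, show (h - 1) * (h - 1) = 2 * h * (q - 1) + 1 by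
      obtain ⟨q', rfl⟩ : ∃ q', q = q' + 1 := ⟨q - 1, by omega⟩
      subst hq
      have : 2 * (q' + 1) - 1 = 2 * q' + 1 := by omega
      rw [this, Nat.add_sub_cancel]; ring, Nat.cast_add, Nat.cast_mul, hcast, zero_mul, zero_add,
      Nat.cast_one]
  refine ⟨x, y, ⟨x.2, hxG, ⟨m - 1, by omega, hh.symm⟩, ?_, hκ1, ⟨(q : ZMod (2 * h)) - 1, ?_⟩, ?_, ?_⟩,
    h4, y.2, hyn, hyy, hsq⟩
  · rw [hc, pow_succ, h2m]; ring
  · -- twice the half minus one
    rw [hκ, Nat.cast_sub (by omega), Nat.cast_one]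
    obtain ⟨s, hs⟩ : 2 ∣ q := by
      rw [← hh, show m - 1 = m - 2 + 1 from by omega, pow_succ'] at hq
      rw [← mul_left_cancel₀ two_ne_zero hq]
      exact dvd_pow_self 2 (show m - 2 ≠ 0 by omega)
    subst hq
    have h0 : (2 : ZMod (2 * (2 * q))) * (2 * q) = 0 := by exact_mod_cast hcast
    subst hs
    push_cast at h0 ⊢
    linear_combination ((s : ZMod (2 * (2 * (2 * s)))) - 1) * h0
  · rw [hκ, ← Nat.cast_mul, show (h - 1) * h = 2 * h * (q - 1) + h by
      obtain ⟨q', rfl⟩ : ∃ q', q = q' + 1 := ⟨q - 1, by omega⟩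
      subst hq
      have : 2 * (q' + 1) - 1 = 2 * q' + 1 := by omega
      rw [this, Nat.add_sub_cancel]; ring, Nat.cast_add, Nat.cast_mul, hcast, zero_mul, zero_add]
  · intro w hw hwr
    have hD : Nat.card (Subgroup.zpowers (x : G)) * 2 = Nat.card D := by
      rw [Nat.card_zpowers, hxG, hc, pow_succ, h2m]
    -- every element outside is a multiple of `y`
    have hidx : ((Subgroup.zpowers (x : G)).subgroupOf D).index = 2 := by
      have h1 := Subgroup.index_mul_card ((Subgroup.zpowers (x : G)).subgroupOf D)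
      rw [Nat.card_congr (Subgroup.subgroupOfEquivOfLe (Subgroup.zpowers_le.mpr x.2)).toEquiv,
        ← hD, mul_comm] at h1
      exact mul_left_cancel₀ (by rw [Nat.card_zpowers, hxG]; omega) h1
    have hwy : w * (y : G) ∈ Subgroup.zpowers (x : G) := by
      have h1 := (Subgroup.mul_mem_iff_of_index_two hidx (a := ⟨w, hw⟩) (b := y)).mpr
        (iff_of_false hwr hyn)
      exact h1
    have hfo : IsOfFinOrder (x : G) := orderOf_pos_iff.mp (by omega)
    obtain ⟨k, hk⟩ := hfo.mem_powers_iff_mem_zpowers.mpr hwy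
    have hk' : (x : G) ^ k = w * y := hk
    have hw' : w = (x : G) ^ k * y := by rw [hk', mul_assoc, hyy, mul_one]
    have hyk : ∀ j : ℕ, (y : G) * (x : G) ^ j * (y : G)⁻¹ = (x : G) ^ ((h - 1) * j) := fun j => by
      rw [← conj_pow, hflip, ← pow_mul]
    refine ⟨?_, ?_⟩
    · rw [hw', hκ, natCast_val_pow hxG]
      calc (x : G) ^ k * y * x * ((x : G) ^ k * y)⁻¹
          = (x : G) ^ k * ((y : G) * x * (y : G)⁻¹) * ((x : G) ^ k)⁻¹ := by group
        _ = (x : G) ^ (h - 1) := by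
            rw [hflip, mul_inv_eq_iff_eq_mul, ← pow_add, ← pow_add, add_comm]
    · have h1 : w * w = (x : G) ^ (h * k) := by
        rw [hw']
        calc (x : G) ^ k * y * ((x : G) ^ k * y)
            = (x : G) ^ k * ((y : G) * (x : G) ^ k * (y : G)⁻¹) * ((y : G) * y) := by group
          _ = (x : G) ^ (h * k) := by
              rw [hyk, hyy, mul_one, ← pow_add]
              congr 1
              obtain ⟨h', rfl⟩ : ∃ h', h = h' + 1 := ⟨h - 1, by omega⟩
              rw [Nat.add_sub_cancel]; ring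
      rcases Nat.even_or_odd' k with ⟨j, rfl | rfl⟩
      · exact Or.inl (h1.trans (hcz _ ⟨j, by ring⟩))
      · refine Or.inr (h1.trans ?_)
        rw [show h * (2 * j + 1) = 2 * h * j + h by ring, pow_add, pow_mul, hper, one_pow, one_mul]

namespace TameData

variable {D : Subgroup G} {r : G} {h : ℕ} {κ : ZMod (2 * h)} (S : TameData D r h κ)
include S

theorem two_le : 2 ≤ h := by
  obtain ⟨a, ha, rfl⟩ := S.pow
  calc 2 = 2 ^ 1 := rfl
    _ ≤ _ := Nat.pow_le_pow_right (by norm_num) ha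

theorem neZero : NeZero (2 * h) := ⟨by have := S.two_le; omega⟩

theorem zpowers_le : Subgroup.zpowers r ≤ D := Subgroup.zpowers_le.mpr S.mem

theorem pow_period : r ^ (2 * h) = 1 := by rw [← S.order, pow_orderOf_eq_one]

theorem card_rot : Nat.card (Subgroup.zpowers r) = 2 * h := by rw [Nat.card_zpowers, S.order]

theorem pow_mul_self : r ^ h * r ^ h = 1 := by rw [← pow_add, ← two_mul, S.pow_period]

/-- The rotation with a given exponent. -/
def rot (c : ZMod (2 * h)) : D := ⟨r ^ c.val, D.pow_mem S.mem _⟩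

theorem rot_add (a b : ZMod (2 * h)) : S.rot (a + b) = S.rot a * S.rot b := by
  have := S.neZero
  refine Subtype.ext ?_
  show r ^ (a + b).val = r ^ a.val * r ^ b.val
  rw [← pow_add, pow_eq_pow_iff_modEq, S.order, ZMod.val_add]
  exact Nat.mod_modEq _ _

theorem rot_zero : S.rot 0 = 1 := by
  have := S.neZero
  exact Subtype.ext (by simp [rot])

theorem rot_natCast (i : ℕ) : (S.rot (i : ZMod (2 * h)) : G) = r ^ i := by
  have := S.neZero
  exact natCast_val_pow S.order i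

theorem rot_half : (S.rot ((h : ℕ) : ZMod (2 * h)) : G) = r ^ h := S.rot_natCast h

theorem rot_one : (S.rot (1 : ZMod (2 * h)) : G) = r := by
  rw [← Nat.cast_one, S.rot_natCast, pow_one]

theorem rot_neg (a : ZMod (2 * h)) : S.rot (-a) = (S.rot a)⁻¹ :=
  eq_inv_of_mul_eq_one_left (by rw [← S.rot_add, neg_add_cancel, S.rot_zero])

theorem rot_mem (a : ZMod (2 * h)) : (S.rot a : G) ∈ Subgroup.zpowers r :=
  Subgroup.pow_mem _ (Subgroup.mem_zpowers r) _

theorem rot_injective : Function.Injective S.rot := by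
  have := S.neZero
  intro a b hab
  have h1 : r ^ a.val = r ^ b.val := congrArg Subtype.val hab
  rw [pow_eq_pow_iff_modEq, S.order] at h1
  refine ZMod.val_injective _ ?_
  rwa [Nat.ModEq, Nat.mod_eq_of_lt (ZMod.val_lt a), Nat.mod_eq_of_lt (ZMod.val_lt b)] at h1

theorem rot_ne_one {a : ZMod (2 * h)} (ha : a ≠ 0) : S.rot a ≠ 1 := fun he =>
  ha (S.rot_injective (he.trans S.rot_zero.symm))

theorem exists_rot {y : G} (hy : y ∈ Subgroup.zpowers r) : ∃ c, (S.rot c : G) = y := by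
  obtain ⟨c, rfl⟩ := Subgroup.mem_zpowers_iff.mp hy
  refine ⟨((c % (2 * h : ℕ)).toNat : ℕ), ?_⟩
  have := S.two_le
  rw [S.rot_natCast, ← zpow_natCast,
    Int.toNat_of_nonneg (Int.emod_nonneg _ (by omega)), ← S.order, zpow_mod_orderOf]

theorem half_ne_zero : ((h : ℕ) : ZMod (2 * h)) ≠ 0 := fun he => by
  rw [ZMod.natCast_eq_zero_iff] at he
  have := S.two_le
  have := Nat.le_of_dvd (by omega) he
  omega

theorem two_mul_eq_zero {c : ZMod (2 * h)} (hc : 2 * c = 0) :
    c = 0 ∨ c = ((h : ℕ) : ZMod (2 * h)) := by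
  have := S.neZero
  rw [← ZMod.natCast_zmod_val c, show (2 : ZMod (2 * h)) = ((2 : ℕ) : ZMod (2 * h)) from rfl,
    ← Nat.cast_mul, ZMod.natCast_eq_zero_iff] at hc
  obtain ⟨k, hk⟩ := Nat.dvd_of_mul_dvd_mul_left two_pos hc
  have hlt := ZMod.val_lt c
  have := S.two_le
  rcases k with _ | _ | k
  · left; rw [← ZMod.natCast_zmod_val c, hk, mul_zero, Nat.cast_zero]
  · right; rw [← ZMod.natCast_zmod_val c, hk, zero_add, mul_one]
  · exfalso
    have : h * 2 ≤ h * (k + 1 + 1) := Nat.mul_le_mul_left _ (by omega)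
    omega

theorem two_mul_half : 2 * ((h : ℕ) : ZMod (2 * h)) = 0 := by
  rw [show (2 : ZMod (2 * h)) = ((2 : ℕ) : ZMod (2 * h)) from rfl, ← Nat.cast_mul, ZMod.natCast_self]

theorem neg_half : -((h : ℕ) : ZMod (2 * h)) = ((h : ℕ) : ZMod (2 * h)) := by
  rw [neg_eq_iff_add_eq_zero, ← two_mul, S.two_mul_half]

theorem kappa_fix {c : ZMod (2 * h)} (hc : κ * c = c) :
    c = 0 ∨ c = ((h : ℕ) : ZMod (2 * h)) := by
  obtain ⟨v, hv⟩ := S.kappa_two
  exact S.two_mul_eq_zero (by rw [← hv]; linear_combination v * hc)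

theorem kappa_kappa (c : ZMod (2 * h)) : κ * (κ * c) = c := by
  rw [← mul_assoc, S.kappa_sq, one_mul]

theorem kappa_odd : κ.val % 2 = 1 := by
  have := S.neZero
  by_contra hne
  obtain ⟨k, hk⟩ : 2 ∣ κ.val := by omega
  have hkap := S.kappa_half
  rw [← ZMod.natCast_zmod_val κ, hk, Nat.cast_mul, mul_assoc, mul_comm (k : ZMod (2 * h)),
    ← mul_assoc, Nat.cast_ofNat, S.two_mul_half, zero_mul] at hkap
  exact S.half_ne_zero hkap.symm

theorem kappa_par (c : ZMod (2 * h)) : (κ * c).val % 2 = c.val % 2 := by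
  have := S.neZero
  rw [ZMod.val_mul, Nat.mod_mod_of_dvd _ (dvd_mul_right 2 h), Nat.mul_mod, S.kappa_odd, one_mul,
    Nat.mod_mod]

theorem conj_rot_refl {x : G} (hx : x ∈ D) (hxr : x ∉ Subgroup.zpowers r) (c : ZMod (2 * h)) :
    x * (S.rot c : G) * x⁻¹ = (S.rot (κ * c) : G) := by
  have := S.neZero
  show x * r ^ c.val * x⁻¹ = _
  rw [← conj_pow, (S.flip x hx hxr).1, ← pow_mul, ← S.rot_natCast, Nat.cast_mul,
    ZMod.natCast_zmod_val, ZMod.natCast_zmod_val]

theorem conj_rot_rot {x : G} (hx : x ∈ Subgroup.zpowers r) (c : ZMod (2 * h)) :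
    x * (S.rot c : G) * x⁻¹ = (S.rot c : G) := by
  obtain ⟨d, rfl⟩ := Subgroup.mem_zpowers_iff.mp hx
  obtain ⟨e, he⟩ := Subgroup.mem_zpowers_iff.mp (S.rot_mem c)
  rw [← he]
  exact mul_inv_eq_iff_eq_mul.mpr ((Commute.refl r).zpow_zpow d e).eq

theorem conj_rot {x : G} (hx : x ∈ D) (c : ZMod (2 * h)) :
    x * (S.rot c : G) * x⁻¹ = (S.rot c : G) ∨ x * (S.rot c : G) * x⁻¹ = (S.rot (κ * c) : G) := by
  by_cases hxr : x ∈ Subgroup.zpowers r
  · exact Or.inl (S.conj_rot_rot hxr c)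
  · exact Or.inr (S.conj_rot_refl hx hxr c)

theorem commute_half {x : G} (hx : x ∈ D) : Commute x (r ^ h) := by
  rw [← S.rot_half]
  rcases S.conj_rot hx ((h : ℕ) : ZMod (2 * h)) with he | he
  · exact mul_inv_eq_iff_eq_mul.mp he
  · rw [S.kappa_half] at he; exact mul_inv_eq_iff_eq_mul.mp he

theorem le_centralizer : D ≤ Subgroup.centralizer ((Subgroup.zpowers (r ^ h) : Subgroup G) : Set G) := by
  intro x hx
  refine Subgroup.mem_centralizer_iff.mpr fun y hy => ?_
  obtain ⟨c, rfl⟩ := Subgroup.mem_zpowers_iff.mp hy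
  exact ((S.commute_half hx).zpow_right c).eq.symm

theorem centralizer_inf {c : ZMod (2 * h)} (h0 : c ≠ 0) (hh : c ≠ ((h : ℕ) : ZMod (2 * h))) :
    D ⊓ Subgroup.centralizer ({(S.rot c : G)} : Set G) = Subgroup.zpowers r := by
  refine le_antisymm (fun x hx => by_contra fun hxr => ?_) (le_inf S.zpowers_le fun x hx => ?_)
  · have h1 := S.conj_rot_refl hx.1 hxr c
    rw [mul_inv_eq_iff_eq_mul.mpr (Subgroup.mem_centralizer_singleton_iff.mp hx.2)] at h1
    exact (S.kappa_fix (S.rot_injective (Subtype.ext h1)).symm).elim h0 hh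
  · exact Subgroup.mem_centralizer_singleton_iff.mpr
      (mul_inv_eq_iff_eq_mul.mp (S.conj_rot_rot hx c))

theorem exists_refl : ∃ t ∈ D, t ∉ Subgroup.zpowers r := by
  by_contra hn
  push Not at hn
  have : D = Subgroup.zpowers r := le_antisymm hn S.zpowers_le
  have h1 := S.card
  rw [this, S.card_rot] at h1
  have := S.two_le
  omega

/-- The product of two elements outside is a rotation. -/
theorem refl_mul_refl {x y : G} (hx : x ∈ D) (hy : y ∈ D) (hxr : x ∉ Subgroup.zpowers r)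
    (hyr : y ∉ Subgroup.zpowers r) : x * y ∈ Subgroup.zpowers r := by
  have := S.neZero
  have h1 : (1 : ZMod (2 * h)) ≠ ((h : ℕ) : ZMod (2 * h)) := fun he => by
    have := congrArg ZMod.val he
    have := S.two_le
    rw [← Nat.cast_one, ZMod.val_natCast_of_lt (by omega), ZMod.val_natCast_of_lt (by omega)] at *
    omega
  have h10 : (1 : ZMod (2 * h)) ≠ 0 := fun he => by
    have hz := congrArg ZMod.val he
    have := S.two_le
    rw [← Nat.cast_one, ZMod.val_natCast_of_lt (by omega), ZMod.val_zero] at hz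
    omega
  refine ((S.centralizer_inf h10 h1).le ⟨D.mul_mem hx hy,
    Subgroup.mem_centralizer_singleton_iff.mpr (mul_inv_eq_iff_eq_mul.mp ?_)⟩)
  calc x * y * (S.rot 1 : G) * (x * y)⁻¹ = x * (y * (S.rot 1 : G) * y⁻¹) * x⁻¹ := by group
    _ = _ := by rw [S.conj_rot_refl hy hyr, S.conj_rot_refl hx hxr, S.kappa_kappa]

/-- Every element outside is a rotation times a given one. -/
theorem exists_rot_mul {x y : G} (hx : x ∈ D) (hy : y ∈ D) (hxr : x ∉ Subgroup.zpowers r)
    (hyr : y ∉ Subgroup.zpowers r) : ∃ c, (S.rot c : G) * y = x := by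
  obtain ⟨c, hc⟩ := S.exists_rot (S.refl_mul_refl hx (inv_mem hy) hxr fun hm =>
    hyr (by simpa using inv_mem hm))
  exact ⟨c, by rw [hc]; group⟩

/-- The conjugates under the rotations of an element outside. -/
theorem exists_conj {y : G} (hy : y ∈ D) (hyr : y ∉ Subgroup.zpowers r) {c : ZMod (2 * h)}
    (hc : c.val % 2 = 0) : ∃ t ∈ D, t * y * t⁻¹ = (S.rot c : G) * y := by
  have := S.neZero
  obtain ⟨v, hv⟩ := S.kappa_two
  obtain ⟨b, hb⟩ : ∃ b, c = 2 * b := ⟨((c.val / 2 : ℕ) : ZMod (2 * h)), by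
    conv_lhs => rw [← ZMod.natCast_zmod_val c, show c.val = 2 * (c.val / 2) by omega]
    push_cast; rfl⟩
  set a := -(v * b) with ha
  refine ⟨(S.rot a : G), (S.rot a).2, ?_⟩
  have h1 := S.conj_rot_refl hy hyr (-a)
  rw [S.rot_neg, Subgroup.coe_inv, mul_inv_eq_iff_eq_mul] at h1
  rw [mul_assoc, h1, ← mul_assoc, ← Subgroup.coe_mul, ← S.rot_add]
  congr 3
  rw [hb, ha]
  linear_combination b * hv

theorem pow_half_ne_one : r ^ h ≠ 1 := fun he =>
  S.rot_ne_one S.half_ne_zero (Subtype.ext (by rw [S.rot_half]; exact he))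

/-- An involution in the rotations is the central one. -/
theorem eq_of_sq {y : G} (hy : y ∈ Subgroup.zpowers r) (h2 : y * y = 1) (h1 : y ≠ 1) :
    y = r ^ h := by
  obtain ⟨c, rfl⟩ := S.exists_rot hy
  have hc : 2 * c = 0 := S.rot_injective (Subtype.ext (by
    rw [two_mul, S.rot_add, S.rot_zero]; exact h2))
  rcases S.two_mul_eq_zero hc with rfl | rfl
  · exact absurd (by rw [S.rot_zero]; rfl) h1
  · exact S.rot_half

theorem subgroupOf {H : Subgroup G} (hle : D ≤ H) :
    TameData (D.subgroupOf H) (⟨r, hle S.mem⟩ : H) h κ where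
  mem := S.mem
  order := by rw [← Subgroup.orderOf_coe]; exact S.order
  pow := S.pow
  card := by rw [Nat.card_congr (Subgroup.subgroupOfEquivOfLe hle).toEquiv]; exact S.card
  kappa_sq := S.kappa_sq
  kappa_two := S.kappa_two
  kappa_half := S.kappa_half
  flip := fun x hx hxr => by
    obtain ⟨h1, h2⟩ := S.flip (x : G) hx fun hm => hxr <| by
      obtain ⟨c, hc⟩ := Subgroup.mem_zpowers_iff.mp hm
      exact Subgroup.mem_zpowers_iff.mpr ⟨c, Subtype.ext (by rw [Subgroup.coe_zpow]; exact hc)⟩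
    refine ⟨Subtype.ext ?_, h2.imp (fun e => Subtype.ext e) fun e => Subtype.ext ?_⟩
    · rw [Subgroup.coe_mul, Subgroup.coe_mul, Subgroup.coe_inv, Subgroup.coe_pow]; exact h1
    · rw [Subgroup.coe_mul, Subgroup.coe_pow]; exact e

end TameData

end Cfsg.Agent.BC84.Tame
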