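import Cfsg.Agent.BC84.Tame.Classes
import Mathlib.LinearAlgebra.Trace
import Mathlib.RingTheory.Nilpotent.Lemmas
import Mathlib.LinearAlgebra.Charpoly.ToMatrix

/-!
# The coordinates of a subsection

When the projections at a subsection are integral combinations of as many functions as its rank,
the scalar products of the coefficient columns invert those of the functions.
-/

set_option autoImplicit false
set_option linter.unusedSectionVars false

namespace Cfsg.Agent.BC84.Tame

open BlocksCore BlocksDefect BC85 BC85.Star BC84.Dihedral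
open scoped Classical ComplexConjugate Matrix

universe u

theorem eq_one_of_trace {m : ℕ} {A : Matrix (Fin m) (Fin m) ℂ}
    (h3 : A * A * A = A * A) (ht : A.trace = m) : A = 1 := by
  have hnil : IsNilpotent (A * A - A) := ⟨2, by
    rw [pow_two, sub_mul, mul_sub, mul_sub, show A * A * (A * A) = A * A * A * A by
      simp only [mul_assoc], h3, h3, show A * (A * A) = A * A * A by simp only [mul_assoc], h3]
    abel⟩
  have h0 : (A * A - A).trace = 0 := (Matrix.isNilpotent_trace_of_isNilpotent hnil).eq_zero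
  have ht2 : (A * A).trace = m := by rwa [Matrix.trace_sub, sub_eq_zero, ht] at h0
  have hid : IsIdempotentElem (1 - A * A) := by
    show (1 - A * A) * (1 - A * A) = 1 - A * A
    rw [sub_mul, mul_sub, mul_sub, one_mul, one_mul, mul_one,
      show A * A * (A * A) = A * A * A * A by simp only [mul_assoc], h3, h3]
    abel
  have htr : (1 - A * A).trace = 0 := by
    rw [Matrix.trace_sub, Matrix.trace_one, Fintype.card_fin, ht2, sub_self]
  have hE : 1 - A * A = 0 := by
    set f := Matrix.toLin' (1 - A * A) with hf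
    have hfi : IsIdempotentElem f := by
      show f * f = f
      rw [hf, Module.End.mul_eq_comp, ← Matrix.toLin'_mul, hid.eq]
    have hproj := LinearMap.IsIdempotentElem.isProj_range _ hfi
    have h1 := hproj.trace
    rw [hf, LinearMap.trace_eq_matrix_trace ℂ (Pi.basisFun ℂ (Fin m)), LinearMap.toMatrix_eq_toMatrix',
      LinearMap.toMatrix'_toLin', htr] at h1
    have h2 : Module.finrank ℂ (LinearMap.range f) = 0 := by exact_mod_cast h1.symm
    have h3' := LinearMap.range_eq_bot.mp (Submodule.finrank_eq_zero.mp h2)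
    exact Matrix.toLin'.injective (by rw [← hf, h3', map_zero])
  have h2' : A * A = 1 := (sub_eq_zero.mp hE).symm
  rwa [h2', one_mul] at h3

variable {G : Type u} [Group G] [Fintype G] {p : ℕ} [Fact p.Prime] {M : Ideal AlgInt}
  [hP : M.IsPrime] (hM : IsPModular p M) {B : Set (IrrCharacter G)} {P : Subgroup G}
  {e : Set (IrrCharacter (Subgroup.centralizer (P : Set G)))}
  (hmax : IsMaximalBrauerPair p M B P e)

include hM hmax

/-- The scalar products of the functions at the section of `v`. -/
noncomputable def sectGram {m : ℕ} (p : ℕ) (v : G) (φ : Fin m → G → ℂ) : Matrix (Fin m) (Fin m) ℂ :=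
  Matrix.of fun a b => (Nat.card (Subgroup.centralizer ({v} : Set G)) : ℂ)⁻¹ *
    ∑ s ∈ sect p v, φ a s * conj (φ b s)

/-- The scalar products of the coefficient columns. -/
noncomputable def colGram {m : ℕ} (B : Set (IrrCharacter G)) (d : IrrCharacter G → Fin m → ℤ) :
    Matrix (Fin m) (Fin m) ℂ :=
  Matrix.of fun a b => ∑ χ ∈ CharCore.SubContrib.mems B, (d χ a : ℂ) * (d χ b : ℂ)

theorem sectGram_mul_colGram (v : P) {m : ℕ} (φ : Fin m → G → ℂ) (d : IrrCharacter G → Fin m → ℤ)
    (hproj : ∀ χ ∈ B, ∀ s ∈ sect p (v : G),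
      proj (atBelow hM hmax v) (v : G) (χ : G → ℂ) s = ∑ a, (d χ a : ℂ) * φ a s)
    (hm : blockRank p (atBelow hM hmax v).2 = m) :
    sectGram p (v : G) φ * colGram B d = 1 := by
  set C : ℂ := (Nat.card (Subgroup.centralizer ({(v : G)} : Set G)) : ℂ) with hC
  have hC0 : C ≠ 0 := Nat.cast_ne_zero.mpr Nat.card_pos.ne'
  have hG : (Nat.card G : ℂ) ≠ 0 := Nat.cast_ne_zero.mpr Nat.card_pos.ne'
  set X := sectGram p (v : G) φ with hX
  set Γ := colGram B d with hΓ
  let Q : IrrCharacter G → IrrCharacter G → ℂ := fun χ ψ =>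
    classInner (starMul p M P e (classOf hM hmax v) (χ : G → ℂ)) (ψ : G → ℂ)
  have hQ : ∀ χ ∈ B, ∀ ψ ∈ B, Q χ ψ = ∑ a, ∑ b, (d χ a : ℂ) * X a b * (d ψ b : ℂ) := by
    intro χ hχ ψ hψ
    simp only [Q]
    rw [starMul, classInner_starFun_eq hM,
      sum_classOf hM hmax v (fun a u => contribAt p a u (χ : G → ℂ) (ψ : G → ℂ))
        fun t => contribAt_conjPair (irr_class χ) (irr_class ψ) _ t _,
      contribAt_eq_sum hM (orderOf_pow_of_mem hmax.1.1.1 v.2) (atBelow_mem hM hmax v)
        (irr_class χ) (irr_class ψ), Finset.sum_congr rfl fun s hs => by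
          rw [hproj χ hχ s hs, hproj ψ hψ s hs, map_sum, Finset.sum_mul_sum],
      Finset.sum_comm, show (classCount hM hmax v) = (Nat.card G : ℂ) / C by
        rw [eq_div_iff hC0]; exact classCount_mul hM hmax v,
      ← mul_assoc, div_eq_mul_inv, inv_mul_cancel_left₀ hG, Finset.mul_sum]
    refine Finset.sum_congr rfl fun a _ => ?_
    rw [Finset.sum_comm, Finset.mul_sum]
    refine Finset.sum_congr rfl fun b _ => ?_
    simp only [hX, sectGram, Matrix.of_apply, Finset.mul_sum, Finset.sum_mul, map_mul, map_intCast]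
    exact Finset.sum_congr rfl fun s _ => by rw [hC]; ring
  have hreal : (fun x => conj (classOf hM hmax v x) * classOf hM hmax v x) = classOf hM hmax v :=
    funext fun x => by rw [classOf]; split_ifs <;> simp
  have hexp : ∀ χ ∈ B, starMul p M P e (classOf hM hmax v) (χ : G → ℂ) =
      ∑ ψ ∈ CharCore.SubContrib.mems B, Q χ ψ • (ψ : G → ℂ) := by
    intro χ hχ
    have hcl := starMul_isClassFunction hM hmax (isPairStable_classOf hM hmax v) (irr_class χ)
    conv_lhs => rw [CharCore.eq_sum_classInner hcl]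
    refine (Finset.sum_subset (Finset.subset_univ _) fun ψ _ hψ => ?_).symm
    rw [classInner_starMul_of_notMem hM hmax fun h => hψ (CharCore.SubContrib.mem_mems.mpr h),
      zero_smul]
  have hidem : ∀ χ ∈ B, ∀ ω ∈ B,
      ∑ ψ ∈ CharCore.SubContrib.mems B, Q χ ψ * conj (Q ω ψ) = Q χ ω := by
    intro χ hχ ω hω
    have h1 : classInner (starMul p M P e (classOf hM hmax v) (χ : G → ℂ))
        (starMul p M P e (classOf hM hmax v) (ω : G → ℂ)) = Q χ ω := by
      have hst := isPairStable_classOf hM hmax v
      rw [classInner_starMul_starMul hM hmax hst hst (irr_class χ) (irr_class ω), hreal]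
    rw [← h1]
    conv_rhs =>
      arg 2
      rw [hexp ω hω]
    rw [CharCore.classInner_sum_right]
    refine Finset.sum_congr rfl fun ψ _ => ?_
    rw [CharCore.classInner_smul_right, mul_comm]
  have hXs : ∀ a b, conj (X a b) = X b a := fun a b => by
    simp only [hX, sectGram, Matrix.of_apply, map_mul, map_inv₀, Complex.conj_natCast, map_sum,
      Complex.conj_conj]
    congr 1
    exact Finset.sum_congr rfl fun s _ => mul_comm _ _
  -- the matrices
  let D : Matrix B (Fin m) ℂ := Matrix.of fun χ a => (d (χ : IrrCharacter G) a : ℂ)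
  haveI := Fintype.ofFinite B
  have hDD : D.transpose * D = Γ := by
    ext a b
    simp only [Matrix.mul_apply, Matrix.transpose_apply, hΓ, colGram, Matrix.of_apply, D]
    exact (Finset.sum_subtype (CharCore.SubContrib.mems B) (fun _ => CharCore.SubContrib.mem_mems)
      fun χ : IrrCharacter G => (d χ a : ℂ) * (d χ b : ℂ)).symm
  have hP0 : ∀ χ ψ : B, (D * X * D.transpose) χ ψ = Q χ ψ := by
    intro χ ψ
    rw [hQ _ χ.2 _ ψ.2]
    simp only [Matrix.mul_apply, Matrix.transpose_apply, Finset.sum_mul, D, Matrix.of_apply]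
    exact Finset.sum_comm
  have hPH : ∀ χ ψ : B, conj (Q (χ : IrrCharacter G) ψ) = Q (ψ : IrrCharacter G) χ := by
    intro χ ψ
    rw [hQ _ χ.2 _ ψ.2, hQ _ ψ.2 _ χ.2, map_sum, Finset.sum_comm]
    refine Finset.sum_congr rfl fun a _ => ?_
    rw [map_sum]
    refine Finset.sum_congr rfl fun b _ => ?_
    rw [map_mul, map_mul, map_intCast, map_intCast, hXs]
    ring
  have hP2 : D * X * D.transpose * (D * X * D.transpose) = D * X * D.transpose := by
    ext χ ω
    rw [Matrix.mul_apply, hP0]
    rw [← hidem _ χ.2 _ ω.2, Finset.sum_subtype (CharCore.SubContrib.mems B)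
      (fun _ => CharCore.SubContrib.mem_mems)
      fun ψ : IrrCharacter G => Q χ ψ * conj (Q ω ψ)]
    refine Finset.sum_congr rfl fun ψ _ => ?_
    rw [hP0, hP0, hPH]
  have htr : (X * Γ).trace = m := by
    rw [← hDD, ← Matrix.mul_assoc, Matrix.trace_mul_comm, ← Matrix.mul_assoc,
      show (m : ℂ) = (blockRank p (atBelow hM hmax v).2 : ℂ) by rw [hm],
      ← trace_classOf hM hmax v, Finset.sum_subtype (CharCore.SubContrib.mems B)
        (fun _ => CharCore.SubContrib.mem_mems) fun χ : IrrCharacter G => Q χ χ]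
    exact Finset.sum_congr rfl fun χ _ => hP0 χ χ
  refine eq_one_of_trace ?_ htr
  have h := congrArg (fun Z => X * (D.transpose * Z * D)) hP2
  simp only [← hDD]
  simp only [Matrix.mul_assoc] at h ⊢
  exact h

end Cfsg.Agent.BC84.Tame
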