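import Cfsg.Agent.BC84.Dihedral.LocalColumns

/-!
# Columns through a nilpotent local block, with the values of all its members
-/

set_option autoImplicit false
set_option linter.unusedSectionVars false
set_option linter.style.haveILetI false

namespace Cfsg.Agent.BC84.Tame

open BlocksCore BlocksDefect BC85 BC85.Star BC84.Dihedral
open scoped Classical ComplexConjugate

universe u

variable {G : Type u} [Group G] [Fintype G] {p : ℕ} [Fact p.Prime] {M : Ideal AlgInt}
  [hP : M.IsPrime] (hM : IsPModular p M) {B : Set (IrrCharacter G)} {D : Subgroup G}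
  {e : Set (IrrCharacter (Subgroup.centralizer (D : Set G)))}
  (hmax : IsMaximalBrauerPair p M B D e)

include hM hmax

/-- The columns through a nilpotent local block. -/
theorem exists_local_columns' (u : D)
    {e' : Set (IrrCharacter (Subgroup.centralizer ((locD D (u : G)) : Set
        (Subgroup.centralizer ((Subgroup.zpowers (u : G) : Subgroup G) : Set G)))))}
    (hmax' : IsMaximalBrauerPair p M (locB hM hmax u) (locD D (u : G)) e')
    (hlift : ∀ x : locD D (u : G), (u : G) ∈ Subgroup.zpowers (toD x : G) →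
      IsExactLift (atBelow hM hmax' x) (atBelow hM hmax (toD x)))
    (hnil : IsNilpotentBlock p M (locB hM hmax u)) :
    ∃ (η₀ : IrrCharacter (Subgroup.centralizer ((Subgroup.zpowers (u : G) : Subgroup G) : Set G)))
      (Θ : IrrCharacter G → locD D (u : G) → ℂ) (Q : locD D (u : G) → G → ℂ),
      η₀ ∈ (locB hM hmax u) ∧ blockHeight p (locB hM hmax u) (η₀ : Subgroup.centralizer ((Subgroup.zpowers (u : G) : Subgroup G) : Set G) → ℂ) = 0 ∧
      (∀ χ, IsCharacter (locD D (u : G)) (Θ χ)) ∧
      (∀ x : locD D (u : G), (u : G) ∈ Subgroup.zpowers (toD x : G) →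
        IsColumn hM hmax (toD x) (fun χ => Θ χ x) (Q x)
          (Nat.card (Subgroup.centralizer ({x} : Set (locD D (u : G)))))) ∧
      (∀ η ∈ locB hM hmax u, ∃ θ : IrrCharacter (locD D (u : G)), ∀ (x : locD D (u : G))
          (s : Subgroup.centralizer ((Subgroup.zpowers (u : G) : Subgroup G) : Set G)),
          s ∈ sect p (x : Subgroup.centralizer ((Subgroup.zpowers (u : G) : Subgroup G) : Set G)) →
          proj (atBelow hM hmax' x) (x : Subgroup.centralizer ((Subgroup.zpowers (u : G) : Subgroup G) : Set G))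
            (η : Subgroup.centralizer ((Subgroup.zpowers (u : G) : Subgroup G) : Set G) → ℂ) s =
            (θ : locD D (u : G) → ℂ) x * Q x (s : G)) ∧
      (∀ (x : locD D (u : G)) (s : Subgroup.centralizer ((Subgroup.zpowers (u : G) : Subgroup G) : Set G)),
          s ∈ sect p (x : Subgroup.centralizer ((Subgroup.zpowers (u : G) : Subgroup G) : Set G)) →
          Q x (s : G) = proj (atBelow hM hmax' x) (x : Subgroup.centralizer ((Subgroup.zpowers (u : G) : Subgroup G) : Set G))
            (η₀ : Subgroup.centralizer ((Subgroup.zpowers (u : G) : Subgroup G) : Set G) → ℂ) s) ∧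
      ∀ x : locD D (u : G), toD x = u → ∀ s : Subgroup.centralizer ((Subgroup.zpowers (u : G) : Subgroup G) : Set G),
        (s : G) ∈ sect p (u : G) →
        Q x (s : G) = cval η₀ (x : Subgroup.centralizer ((Subgroup.zpowers (u : G) : Subgroup G) : Set G)) * (η₀ : Subgroup.centralizer ((Subgroup.zpowers (u : G) : Subgroup G) : Set G) → ℂ) s := by
  set K := Subgroup.centralizer ((Subgroup.zpowers (u : G) : Subgroup G) : Set G) with hK
  set b : Set (IrrCharacter K) := (locB hM hmax u) with hbdef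
  have hb : IsPBlock M b := hnil.1
  obtain ⟨η₀, hη₀, h0⟩ := exists_height_zero hM hb
  obtain ⟨Ψ, hΨ⟩ := exists_nilEquiv hM hmax' hnil hη₀ h0
  have hres : ∀ χ : IrrCharacter G, IsCharacter K (fun k : K => (χ : G → ℂ) k) :=
    fun χ => CharCore.isCharacter_restrict (CharCore.irr_isCharacter χ) K
  choose n hn using fun (χ : IrrCharacter G) (η : IrrCharacter K) =>
    CharCore.IsCharacter.exists_classInner_irr_eq_natCast (hres χ) η
  let Θ : IrrCharacter G → (locD D (u : G)) → ℂ := fun χ x =>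
    ∑ θ : IrrCharacter (locD D (u : G)), (n χ (Ψ θ : b) : ℂ) * (θ : (locD D (u : G)) → ℂ) x
  let Q : (locD D (u : G)) → G → ℂ := fun x s =>
    if hs : s ∈ K then proj (atBelow hM hmax' x) (x : K) (η₀ : K → ℂ) ⟨s, hs⟩ else 0
  have hΘ : ∀ χ, IsCharacter (locD D (u : G)) (Θ χ) := fun χ => by
    rw [show Θ χ = ∑ θ : IrrCharacter (locD D (u : G)), (fun x => (n χ (Ψ θ : b) : ℂ) * (θ : (locD D (u : G)) → ℂ) x) from
      funext fun x => by simp [Θ, Finset.sum_apply]]
    exact CharCore.isCharacter_sum _ _ fun θ _ =>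
      CharCore.isCharacter_natCast_smul (CharCore.irr_isCharacter θ) _
  refine ⟨η₀, Θ, Q, hη₀, h0, hΘ, fun x hx => ?_, fun η hη => ?_, fun x s _ => ?_, fun x hxu s hs => ?_⟩
  rotate_left
  · refine ⟨Ψ.symm ⟨η, hη⟩, fun x s hs => ?_⟩
    have hxo : ∃ k : ℕ, orderOf (x : K) = p ^ k := orderOf_pow_of_mem hmax'.1.1.1 x.2
    have hst := isPairStable_class hM hmax' hnil (irr_class (Ψ.symm ⟨η, hη⟩))
    have h1 := hΨ (Ψ.symm ⟨η, hη⟩)
    rw [Equiv.apply_symm_apply] at h1
    show proj (atBelow hM hmax' x) (x : K) (η : K → ℂ) s = _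
    rw [h1, proj_starMul hM hmax' hst (irr_class η₀) hxo (atBelow_mem hM hmax' x)
      (mem_sect.mp hs).1 (mem_sect.mp hs).2, etaOf_atBelow hM hmax' hst]
    congr 1
    show _ = (if hs : (s : G) ∈ K then proj (atBelow hM hmax' x) (x : K) (η₀ : K → ℂ) ⟨s, hs⟩ else 0)
    rw [dif_pos (show (s : G) ∈ K from s.2)]
  · exact dif_pos (show (s : G) ∈ K from s.2)
  · show Q x (s : G) = _
    refine (dif_pos (show (s : G) ∈ K from s.2)).trans ?_
    have hx : (x : K).1 = u := congrArg Subtype.val hxu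
    refine proj_central hM (b := b) (fun k => ?_) (Subgroup.mem_center_iff.mpr fun k =>
      Subtype.ext ?_) hη₀ _
    · have h1 := (hlift x (by rw [hxu]; exact Subgroup.mem_zpowers _)).1.coeff k
      rw [← h1, hxu]
      exact bp_apply_coe _ _ k
    · show (k : G) * (x : K).1 = (x : K).1 * (k : G)
      rw [hx]
      exact (Subgroup.mem_centralizer_iff.mp k.2 _ (Subgroup.mem_zpowers _)).symm
  have hl := hlift x hx
  set m := Nat.card (Subgroup.centralizer ({x} : Set (locD D (u : G))))
  have hxord : ∃ k : ℕ, orderOf (x : K) = p ^ k := orderOf_pow_of_mem hmax'.1.1.1 x.2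
  have hxG : ∃ k : ℕ, orderOf ((x : K) : G) = p ^ k := orderOf_pow_of_mem hmax.1.1.1 (toD x).2
  have hCx : Subgroup.centralizer ({((x : K) : G)} : Set G) ≤ K := by
    rw [← BlocksCore.centralizer_zpowers]
    exact centralizer_anti (Subgroup.zpowers_le.mpr hx)
  have hmemK : ∀ s : K, (s : G) ∈ sect p ((x : K) : G) ↔ s ∈ sect p (x : K) := fun s => by
    simp only [mem_sect, Subgroup.orderOf_coe, Subgroup.mem_centralizer_singleton_iff]
    refine and_congr_left fun _ => ⟨fun h => Subtype.ext h, fun h => congrArg Subtype.val h⟩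
  have hstθ : ∀ θ : IrrCharacter (locD D (u : G)), IsPairStable p M (locD D (u : G)) e' (θ : (locD D (u : G)) → ℂ) := fun θ =>
    isPairStable_class hM hmax' hnil (irr_class θ)
  have hprojΨ : ∀ (θ : IrrCharacter (locD D (u : G))) (s : K), s ∈ sect p (x : K) →
      proj (atBelow hM hmax' x) (x : K) (((Ψ θ : b) : IrrCharacter K) : K → ℂ) s =
        (θ : (locD D (u : G)) → ℂ) x * proj (atBelow hM hmax' x) (x : K) (η₀ : K → ℂ) s := by
    intro θ s hs
    rw [hΨ θ, proj_starMul hM hmax' (hstθ θ) (irr_class η₀) hxord (atBelow_mem hM hmax' x)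
      (mem_sect.mp hs).1 (mem_sect.mp hs).2, etaOf_atBelow hM hmax' (hstθ θ)]
  have hexp : ∀ (χ : IrrCharacter G) (s : K), s ∈ sect p (x : K) →
      proj (atBelow hM hmax (toD x)) ((x : K) : G) (χ : G → ℂ) (s : G) =
        Θ χ x * proj (atBelow hM hmax' x) (x : K) (η₀ : K → ℂ) s := by
    intro χ s hs
    have e1 : (fun k : K => (χ : G → ℂ) k) =
        fun k => ∑ η : IrrCharacter K, (n χ η : ℂ) * (η : K → ℂ) k := by
      funext k
      have h1 := congrFun (CharCore.IsCharacter.eq_sum_classInner (hres χ)) k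
      simp only [Finset.sum_apply, Pi.smul_apply, smul_eq_mul, hn] at h1
      exact h1
    rw [proj_restrict hl.1, e1, proj_sum,
      ← Finset.sum_subset (Finset.subset_univ (Finset.univ.filter (· ∈ b))) fun η _ hη => by
        rw [proj_eq_zero_of_not_pairOf hM (isPBlock_blockOf η) (mem_blockOf_self η) hxord
          (atBelow_mem hM hmax' x) (fun hp => hη ?_)
          (s := ⟨s, (mem_sect.mp hs).1⟩) (by rw [← Subgroup.orderOf_coe]; exact (mem_sect.mp hs).2),
          mul_zero]
        refine Finset.mem_filter.mpr ⟨Finset.mem_univ _, ?_⟩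
        obtain ⟨B₀, -, huniq⟩ := existsUnique_block_of_pair hM hp.1
        rw [huniq b (atBelow_pairOf hM hmax' x), ← huniq _ hp]
        exact mem_blockOf_self η]
    show _ = (∑ θ : IrrCharacter (locD D (u : G)), (n χ (Ψ θ : b) : ℂ) * (θ : (locD D (u : G)) → ℂ) x) * _
    rw [Finset.sum_mul]
    refine (Finset.sum_bij (fun θ _ => ((Ψ θ : b) : IrrCharacter K))
      (fun θ _ => Finset.mem_filter.mpr ⟨Finset.mem_univ _, (Ψ θ).2⟩)
      (fun θ _ θ' _ h => Ψ.injective (Subtype.ext h))
      (fun η hη => ⟨Ψ.symm ⟨η, (Finset.mem_filter.mp hη).2⟩, Finset.mem_univ _, by simp⟩)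
      fun θ _ => ?_).symm
    rw [hprojΨ θ s hs]; ring
  -- the sum over the section, read in `K`
  have hsect : ∀ f : G → ℂ, ∑ s ∈ sect p ((x : K) : G), f s = ∑ s ∈ sect p (x : K), f (s : G) := by
    intro f
    refine (Finset.sum_bij (fun (s : K) _ => (s : G)) (fun s hs => (hmemK s).mpr hs)
      (fun _ _ _ _ h => Subtype.ext h)
      (fun s hs => ⟨⟨s, hCx (mem_sect.mp hs).1⟩, (hmemK _).mp hs, rfl⟩) fun s _ => rfl).symm
  set X : ℂ := ∑ s ∈ sect p (x : K),
    proj (atBelow hM hmax' x) (x : K) (η₀ : K → ℂ) s *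
      conj (proj (atBelow hM hmax' x) (x : K) (η₀ : K → ℂ) s) with hX
  have hnilx : blockRank p (atBelow hM hmax' x).2 = 1 :=
    (nilpotent_rank_one hM (nilpotent_of_pairOf hM hnil (atBelow_pairOf hM hmax' x))).1
  have hcardC : Nat.card (Subgroup.centralizer ({(x : K)} : Set K)) =
      Nat.card (Subgroup.centralizer ({((x : K) : G)} : Set G)) := by
    refine Nat.card_congr
      { toFun := fun c => ⟨((c : K) : G), Subgroup.mem_centralizer_singleton_iff.mpr
          (congrArg Subtype.val (Subgroup.mem_centralizer_singleton_iff.mp c.2))⟩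
        invFun := fun c => ⟨⟨c.1, hCx c.2⟩, Subgroup.mem_centralizer_singleton_iff.mpr
          (Subtype.ext (Subgroup.mem_centralizer_singleton_iff.mp c.2))⟩
        left_inv := fun _ => rfl
        right_inv := fun _ => rfl }
  have hweight : (m : ℂ) * X =
      (Nat.card (Subgroup.centralizer ({((x : K) : G)} : Set G)) : ℂ) := by
    have h1 := trace_contribAt hM hb hxord (atBelow_mem hM hmax' x) (atBelow_pairOf hM hmax' x)
    rw [hnilx, Nat.cast_one, mul_one, hcardC] at h1
    rw [← h1, ← show ∑ θ : IrrCharacter (locD D (u : G)), (θ : (locD D (u : G)) → ℂ) x * conj ((θ : (locD D (u : G)) → ℂ) x) = (m : ℂ) by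
      rw [CharCore.sum_apply_mul_conj, if_pos (IsConj.refl x)], Finset.sum_mul]
    refine Finset.sum_bij (fun θ _ => ((Ψ θ : b) : IrrCharacter K))
      (fun θ _ => CharCore.SubContrib.mem_mems.mpr (Ψ θ).2)
      (fun θ _ θ' _ h => Ψ.injective (Subtype.ext h))
      (fun η hη => ⟨Ψ.symm ⟨η, CharCore.SubContrib.mem_mems.mp hη⟩, Finset.mem_univ _, by simp⟩)
      fun θ _ => ?_
    rw [contribAt_eq_sum hM hxord (atBelow_mem hM hmax' x) (irr_class _) (irr_class _), hX,
      Finset.mul_sum]
    refine Finset.sum_congr rfl fun s hs => ?_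
    rw [hprojΨ θ s hs, map_mul]
    ring
  have hQ : ∀ s ∈ sect p (x : K),
      Q x (s : G) = proj (atBelow hM hmax' x) (x : K) (η₀ : K → ℂ) s := fun s _ =>
    dif_pos (show (s : G) ∈ K from s.2)
  refine ⟨fun χ hχ s hs => ?_, ?_, ?_⟩
  · have hs' : (⟨s, hCx (mem_sect.mp hs).1⟩ : K) ∈ sect p (x : K) := (hmemK _).mp hs
    have h1 := hexp χ _ hs'
    rw [← hQ _ hs'] at h1
    exact h1
  · have hrank : blockRank p (atBelow hM hmax (toD x)).2 = 1 := by
      rw [hl.1.snd_eq]
      exact (BlkChar.SubsectionSum.blockRank_pullIrr _ _).trans hnilx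
    have h1 := trace_contribAt hM hmax.1.2.1 hxG (atBelow_mem hM hmax (toD x))
      (atBelow_pairOf hM hmax (toD x))
    rw [hrank, Nat.cast_one, mul_one, ← hweight] at h1
    have hX0 : X ≠ 0 := fun h0 => by
      rw [h0, mul_zero] at hweight
      exact Nat.card_pos.ne' (Nat.cast_eq_zero.mp hweight.symm)
    refine mul_right_cancel₀ hX0 (Eq.trans ?_ h1)
    rw [Finset.sum_mul]
    refine Finset.sum_congr rfl fun χ _ => ?_
    rw [contribAt_eq_sum hM hxG (atBelow_mem hM hmax (toD x)) (irr_class χ) (irr_class χ),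
      hsect, hX, Finset.mul_sum]
    refine Finset.sum_congr rfl fun s hs => ?_
    rw [hexp χ s hs, map_mul]
    ring
  · show _ * ∑ s ∈ sect p ((x : K) : G), _ = ((Nat.card (Subgroup.centralizer ({((x : K) : G)} : Set G)) : ℂ))
    rw [hsect, ← hweight, hX]
    congr 1
    exact Finset.sum_congr rfl fun s hs => by rw [hQ s hs]

end Cfsg.Agent.BC84.Tame
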