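import Cfsg.Agent.BC84.Tame.Count2

/-!
# The invariants of blocks with semidihedral or quaternion defect group
-/

set_option autoImplicit false
set_option linter.unusedSectionVars false
set_option linter.style.haveILetI false

namespace Cfsg.Agent.BC84.Tame

open BlocksCore BlocksDefect BC85 BC85.Star BC84.Dihedral
open scoped Classical ComplexConjugate

universe u

variable {G : Type u} [Group G] [Fintype G] [Fact (Nat.Prime 2)] {M : Ideal AlgInt} [hP : M.IsPrime]
  (hM : IsPModular 2 M) {B : Set (IrrCharacter G)} {D : Subgroup G}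
  {e : Set (IrrCharacter (Subgroup.centralizer (D : Set G)))}
  (hmax : IsMaximalBrauerPair 2 M B D e) {r : G} {h : ℕ} {κ : ZMod (2 * h)} (S : TameData D r h κ)

include hM hmax S

/-- The number of members when the involution is central, through two elements outside. -/
theorem central_count (hzc : r ^ h ∈ Subgroup.center G) [Fintype B] :
    Fintype.card B = h + 2 + blockRank 2 B ∧
      blockRank 2 (atBelow hM hmax (S.rot ((h : ℕ) : ZMod (2 * h)))).2 = blockRank 2 B := by
  have hr : blockRank 2 (atBelow hM hmax (S.rot ((h : ℕ) : ZMod (2 * h)))).2 = blockRank 2 B :=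
    blockRank_atBelow_central (by rw [S.rot_half]; exact hzc)
  obtain ⟨C, hht, hl, hu⟩ := exists_data (hM := hM) (hmax := hmax) S
  rw [hr] at hl
  obtain ⟨hnum, -⟩ := C.numbers fun hl1 => Or.inr fun x hx => by
    obtain ⟨H, hH4, hH⟩ := (zshape_central hM hmax S hzc).2 (hl ▸ hl1)
    have hsub : H ⊆ C.H0.image (fun x : B => (x : IrrCharacter G)) := fun χ hχ =>
      Finset.mem_image.mpr ⟨⟨χ, (hH χ hχ).1⟩, C.mem_H0.mpr (by rw [hht]; exact (hH χ hχ).2.1), rfl⟩
    have heq := Finset.eq_of_subset_of_card_le hsub (by rw [hH4]; exact le_trans Finset.card_image_le C.four.1.le)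
    have hxH : (x : IrrCharacter G) ∈ H := heq ▸ Finset.mem_image_of_mem _ hx
    have h1 := (hu x hl1).symm.trans (hH _ hxH).2.2
    have hC : (Nat.card (Subgroup.centralizer ({((S.rot ((h : ℕ) : ZMod (2 * h)) : D) : G)} : Set G)) : ℂ) ≠ 0 :=
      Nat.cast_ne_zero.mpr Nat.card_pos.ne'
    have h2 := mul_left_cancel₀ hC (h1.trans (mul_one _).symm)
    exact_mod_cast h2
  exact ⟨by rw [← hl]; exact hnum, hr⟩

/-- The invariants follow once there are enough members when the rank at the involution is one. -/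
theorem numbers_of [Fintype B]
    (hk : blockRank 2 (atBelow hM hmax (S.rot ((h : ℕ) : ZMod (2 * h)))).2 = 1 → h + 2 ≤ Fintype.card B) :
    Fintype.card B = h + 2 + blockRank 2 (atBelow hM hmax (S.rot ((h : ℕ) : ZMod (2 * h)))).2 ∧
      1 ≤ blockRank 2 (atBelow hM hmax (S.rot ((h : ℕ) : ZMod (2 * h)))).2 ∧
      blockRank 2 (atBelow hM hmax (S.rot ((h : ℕ) : ZMod (2 * h)))).2 ≤ 3 ∧
      Nat.card {χ : IrrCharacter G // χ ∈ B ∧ blockHeight 2 B (χ : G → ℂ) = 0} = 4 ∧
      (∀ e' : ℕ, h = 2 ^ e' → ∀ χ ∈ B, blockHeight 2 B (χ : G → ℂ) = 0 ∨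
        blockHeight 2 B (χ : G → ℂ) = 1 ∨ blockHeight 2 B (χ : G → ℂ) = e') ∧
      (4 ≤ h → Nat.card {χ : IrrCharacter G // χ ∈ B ∧ blockHeight 2 B (χ : G → ℂ) = 1} = h - 1) := by
  obtain ⟨C, hht, hl, -⟩ := exists_data (hM := hM) (hmax := hmax) S
  obtain ⟨hnum, h4, -, hhts, hone⟩ := C.numbers fun hl1 => Or.inl (hk (hl ▸ hl1))
  have hsh : C.l = 1 ∨ C.l = 2 ∨ C.l = 3 := by
    rcases C.shape with ⟨q, -⟩ | ⟨q, -⟩ | ⟨q, -⟩
    exacts [Or.inl q, Or.inr (Or.inl q), Or.inr (Or.inr q)]
  have hsub : ∀ j, Nat.card {χ : IrrCharacter G // χ ∈ B ∧ blockHeight 2 B (χ : G → ℂ) = j} =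
      (Finset.univ.filter fun x : B => C.ht x = j).card := fun j => by
    rw [Nat.card_congr (Equiv.subtypeSubtypeEquivSubtypeInter (· ∈ B)
        (fun χ => blockHeight 2 B (χ : G → ℂ) = j)).symm, Nat.card_eq_fintype_card, Fintype.card_subtype]
    simp only [hht]
  rw [← hl]
  refine ⟨hnum, by omega, by omega, ?_, fun e' he χ hχ => ?_, fun h4' => by rw [hsub]; exact hone h4'⟩
  · rw [hsub]; exact h4
  · rw [← hht ⟨χ, hχ⟩]; exact hhts e' he _

omit S

/-- Fusion in the centralizer of `u` gives fusion, and conversely for conjugators fixing `u`. -/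
theorem fused_local (u : D)
    {e' : Set (IrrCharacter (Subgroup.centralizer ((locD D (u : G)) : Set
        (Subgroup.centralizer ((Subgroup.zpowers (u : G) : Subgroup G) : Set G)))))}
    (hmax' : IsMaximalBrauerPair 2 M (locB hM hmax u) (locD D (u : G)) e')
    (hlift : ∀ x : locD D (u : G), (u : G) ∈ Subgroup.zpowers (toD x : G) →
      IsExactLift (atBelow hM hmax' x) (atBelow hM hmax (toD x)))
    (a b : locD D (u : G)) (ha : (u : G) ∈ Subgroup.zpowers (toD a : G))
    (hb : (u : G) ∈ Subgroup.zpowers (toD b : G)) :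
    (Fused hM hmax' a b → Fused hM hmax (toD a) (toD b)) ∧
    ((∀ g : G, g * (toD b : G) * g⁻¹ = (toD a : G) → g * (u : G) = (u : G) * g) →
      Fused hM hmax (toD a) (toD b) → Fused hM hmax' a b) := by
  have la := (hlift a ha).1
  have lb := (hlift b hb).1
  constructor
  · rintro ⟨g, hg, hg'⟩
    refine ⟨(g : G), congrArg Subtype.val hg, pair_ext ?_ (funext fun k => ?_)⟩
    · rw [conjPair_fst]
      show (Subgroup.zpowers ((toD b : G))).map _ = Subgroup.zpowers (toD a : G)
      rw [map_conj_zpowers]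
      exact congrArg Subgroup.zpowers (congrArg Subtype.val hg)
    · rw [bp_conjPair]
      by_cases hk : k ∈ Subgroup.centralizer ((Subgroup.zpowers (u : G) : Subgroup G) : Set G)
      · have h1 := congrArg (fun p => bp p ⟨k, hk⟩) hg'
        simp only [bp_conjPair] at h1
        rw [← la.coeff, ← lb.coeff] at h1
        exact h1
      · rw [bp_of_notMem (atBelow hM hmax (toD a)).1 (atBelow hM hmax (toD a)).2 fun q => hk (la.centLe q),
          bp_of_notMem (atBelow hM hmax (toD b)).1 (atBelow hM hmax (toD b)).2 fun q => hk ?_]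
        have := lb.centLe q
        have h2 := Subgroup.mul_mem _ (Subgroup.mul_mem _ g.2 this) (inv_mem g.2)
        rwa [show (g : G) * ((g : G)⁻¹ * k * g) * (g : G)⁻¹ = k by group] at h2
  · rintro hfix ⟨g, hg, hg'⟩
    have hgK : g ∈ Subgroup.centralizer ((Subgroup.zpowers (u : G) : Subgroup G) : Set G) := by
      rw [BlocksCore.centralizer_zpowers]; exact Subgroup.mem_centralizer_singleton_iff.mpr (hfix g hg)
    refine ⟨⟨g, hgK⟩, Subtype.ext hg, pair_ext ?_ (funext fun k => ?_)⟩
    · rw [conjPair_fst]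
      show (Subgroup.zpowers (b : Subgroup.centralizer ((Subgroup.zpowers (u : G) : Subgroup G) : Set G))).map _ =
        Subgroup.zpowers (a : Subgroup.centralizer ((Subgroup.zpowers (u : G) : Subgroup G) : Set G))
      rw [map_conj_zpowers]
      exact congrArg Subgroup.zpowers (Subtype.ext hg)
    · rw [bp_conjPair, ← la.coeff, ← lb.coeff, ← hg', bp_conjPair]
      rfl

end Cfsg.Agent.BC84.Tame

namespace Cfsg.Agent.BC84.Tame

open BlocksCore BlocksDefect BC85 BC85.Star BC84.Dihedral
open scoped Classical ComplexConjugate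

universe u

variable {G : Type u} [Group G] [Fintype G] [Fact (Nat.Prime 2)] {M : Ideal AlgInt} [hP : M.IsPrime]
  (hM : IsPModular 2 M) {B : Set (IrrCharacter G)} {D : Subgroup G}
  {e : Set (IrrCharacter (Subgroup.centralizer (D : Set G)))}
  (hmax : IsMaximalBrauerPair 2 M B D e) {r : G} {h : ℕ} {κ : ZMod (2 * h)} (S : TameData D r h κ)

omit hM hmax in
theorem card_le_of_rel {α β : Type*} (R : α → β → Prop) (s : Finset α) (t : Finset β)
    (hex : ∀ a ∈ s, ∃ b ∈ t, R a b) (huniq : ∀ a ∈ s, ∀ a' ∈ s, ∀ b ∈ t, R a b → R a' b → a = a') :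
    s.card ≤ t.card := by
  rcases s.eq_empty_or_nonempty with rfl | ⟨a₀, ha₀⟩
  · simp
  obtain ⟨b₀, -, -⟩ := hex a₀ ha₀
  haveI : Nonempty β := ⟨b₀⟩
  choose! f hf hfR using hex
  exact Finset.card_le_card_of_injOn f (fun a ha => hf a ha) fun a ha a' ha' q =>
    huniq a ha a' ha' (f a) (hf a ha) (hfR a ha) (q ▸ hfR a' ha')

include hM hmax S

/-- The count in the centralizer of the involution, read in `D`. -/
theorem local_count (y : D) (hy : (y : G) ∉ Subgroup.zpowers r) :
    ∃ (U' : Finset D) (F : D → D → Prop), U' ⊆ {y, S.rot 1 * y} ∧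
      U'.card + blockRank 2 (atBelow hM hmax (S.rot ((h : ℕ) : ZMod (2 * h)))).2 = 3 ∧
      (∀ v ∈ U', ∀ c, ¬ F (S.rot c) v) ∧ (∀ v ∈ U', ∀ w ∈ U', F v w → v = w) ∧
      (∀ v, (v = y ∨ v = S.rot 1 * y) → (∃ c, F (S.rot c) v) ∨ ∃ w ∈ U', F w v) ∧
      (∀ v w : D, (r ^ h ∈ Subgroup.zpowers (v : G)) → (r ^ h ∈ Subgroup.zpowers (w : G)) →
        F v w → Fused hM hmax v w) ∧
      (∀ v w : D, (v : G) * v = r ^ h → (w : G) * w = r ^ h → Fused hM hmax v w → F v w) ∧
      (∀ v w : D, F v w → orderOf (v : G) = orderOf (w : G)) ∧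
      (∀ v : D, F (S.rot ((h : ℕ) : ZMod (2 * h))) v → v = S.rot ((h : ℕ) : ZMod (2 * h))) := by
  set u := S.rot ((h : ℕ) : ZMod (2 * h)) with hu
  obtain ⟨e', hmax', hlift⟩ := exists_local_max hM hmax u (fullyCentralized_half hM hmax S)
  have hle : D ≤ Subgroup.centralizer ((Subgroup.zpowers (u : G) : Subgroup G) : Set G) := by
    rw [hu, S.rot_half]; exact S.le_centralizer
  set K := Subgroup.centralizer ((Subgroup.zpowers (u : G) : Subgroup G) : Set G) with hK
  have hloc : locD D (u : G) = D.subgroupOf K := by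
    rw [locD, inf_eq_left.mpr hle]
  have hS' : TameData (locD D (u : G)) (⟨r, hle S.mem⟩ : K) h κ := hloc ▸ S.subgroupOf hle
  have huG : (u : G) = r ^ h := S.rot_half
  have hzc : (⟨r, hle S.mem⟩ : K) ^ h ∈ Subgroup.center K := Subgroup.mem_center_iff.mpr fun k => Subtype.ext (by
    simp only [Subgroup.coe_mul, Subgroup.coe_pow]
    have h1 := Subgroup.mem_centralizer_iff.mp k.2 _ (Subgroup.mem_zpowers (u : G))
    rw [hu, S.rot_half] at h1
    exact h1.symm)
  let lift : D → locD D (u : G) := fun v => ⟨⟨v, hle v.2⟩, v.2, hle v.2⟩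
  have hlrot : ∀ c, hS'.rot c = lift (S.rot c) := fun c => Subtype.ext (Subtype.ext (by
    show (((⟨r, hle S.mem⟩ : K) ^ c.val : K) : G) = r ^ c.val
    rw [Subgroup.coe_pow]))
  have hpi : ∀ v, toD (lift v) = v := fun v => rfl
  have hlinj : Function.Injective lift := fun a b q => by rw [← hpi a, q, hpi b]
  have hy' : ((lift y : locD D (u : G)) : K) ∉ Subgroup.zpowers (⟨r, hle S.mem⟩ : K) := fun hm => hy (by
    obtain ⟨k, hk⟩ := Subgroup.mem_zpowers_iff.mp hm
    exact Subgroup.mem_zpowers_iff.mpr ⟨k, by rw [← Subgroup.coe_zpow _ (⟨r, hle S.mem⟩ : K) k]; exact congrArg Subtype.val hk⟩)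
  haveI := Fintype.ofFinite (locB hM hmax u)
  obtain ⟨hk, hr'⟩ := central_count hM hmax' hS' hzc
  obtain ⟨U, hsub, hne, hsep, hcov, hcard⟩ := card_eq_classes hM hmax' hS' (lift y) hy'
  rw [Nat.card_eq_fintype_card, hk, hr'] at hcard
  have hy2 : hS'.rot 1 * lift y = lift (S.rot 1 * y) := by rw [hlrot]; rfl
  rw [hy2] at hsub hcov
  refine ⟨({y, S.rot 1 * y} : Finset D).filter (fun v => lift v ∈ U),
    fun v w => Fused hM hmax' (lift v) (lift w), Finset.filter_subset _ _, ?_, fun v hv c hf => ?_,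
    fun v hv w hw hf => ?_, fun v hv => ?_, fun v w hv hw => ?_, fun v w hv hw hf => ?_,
    fun v w hf => ?_, fun v hf => ?_⟩
  · have hU : U = (({y, S.rot 1 * y} : Finset D).filter (fun v => lift v ∈ U)).image lift := by
      ext x
      simp only [Finset.mem_image, Finset.mem_filter, Finset.mem_insert, Finset.mem_singleton]
      constructor
      · intro hx
        have := hsub hx
        simp only [Finset.mem_insert, Finset.mem_singleton] at this
        rcases this with rfl | rfl
        · exact ⟨y, ⟨Or.inl rfl, hx⟩, rfl⟩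
        · exact ⟨_, ⟨Or.inr rfl, hx⟩, rfl⟩
      · rintro ⟨v, ⟨-, hv⟩, rfl⟩; exact hv
    rw [← Finset.card_image_of_injective _ hlinj, ← hU]
    have := hS'.two_le
    show U.card + blockRank 2 (locB hM hmax u) = 3
    omega
  · exact hne _ (Finset.mem_filter.mp hv).2 c (by rw [hlrot]; exact hf)
  · exact hlinj (hsep _ (Finset.mem_filter.mp hv).2 _ (Finset.mem_filter.mp hw).2 hf)
  · rcases hcov (lift v) (hv.imp (congrArg lift) (congrArg lift)) with ⟨c, hc⟩ | ⟨w, hw, hwv⟩
    · exact Or.inl ⟨c, by rw [hlrot] at hc; exact hc⟩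
    · have := hsub hw
      simp only [Finset.mem_insert, Finset.mem_singleton] at this
      rcases this with rfl | rfl
      · exact Or.inr ⟨y, Finset.mem_filter.mpr ⟨by simp, hw⟩, hwv⟩
      · exact Or.inr ⟨_, Finset.mem_filter.mpr ⟨by simp, hw⟩, hwv⟩
  · intro hf
    exact (fused_local hM hmax u hmax' hlift (lift v) (lift w)
      (show (u : G) ∈ Subgroup.zpowers (v : G) from huG.symm ▸ hv)
      (show (u : G) ∈ Subgroup.zpowers (w : G) from huG.symm ▸ hw)).1 hf
  · refine (fused_local hM hmax u hmax' hlift (lift v) (lift w) ?_ ?_).2 (fun g hg => ?_) hf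
    · show (u : G) ∈ Subgroup.zpowers (v : G)
      rw [huG, ← hv, ← pow_two]; exact Subgroup.pow_mem _ (Subgroup.mem_zpowers _) _
    · show (u : G) ∈ Subgroup.zpowers (w : G)
      rw [huG, ← hw, ← pow_two]; exact Subgroup.pow_mem _ (Subgroup.mem_zpowers _) _
    · refine mul_inv_eq_iff_eq_mul.mp ?_
      rw [huG]
      conv_lhs => rw [← hw]
      rw [← hv]
      have hg' : g * (w : G) * g⁻¹ = (v : G) := hg
      rw [← hg']
      group
  · have := hf.orderOf_eq hM hmax'
    rwa [← Subgroup.orderOf_coe, ← Subgroup.orderOf_coe] at this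
  · obtain ⟨g, hg, -⟩ := hf
    refine Subtype.ext ?_
    have h1 : (g : G) * (v : G) * (g : G)⁻¹ = (u : G) := congrArg Subtype.val hg
    have h2 : (g : G) * (u : G) = (u : G) * g :=
      (Subgroup.mem_centralizer_iff.mp g.2 _ (Subgroup.mem_zpowers (u : G))).symm
    have h3 : (v : G) = (g : G)⁻¹ * ((g : G) * (v : G) * (g : G)⁻¹) * g := by group
    rw [h1, mul_assoc, ← h2, inv_mul_cancel_left] at h3
    exact h3

omit hM hmax in
theorem rot_half_mem {c : ZMod (2 * h)} (hc : c ≠ 0) : r ^ h ∈ Subgroup.zpowers (S.rot c : G) := by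
  by_cases hch : c = ((h : ℕ) : ZMod (2 * h))
  · rw [hch, S.rot_half]; exact Subgroup.mem_zpowers _
  · have h1 := S.quarter_mem hc hch
    have h2 := Subgroup.mul_mem _ h1 h1
    rwa [← Subgroup.coe_mul, ← S.rot_add, ← two_mul, mul_comm, S.half_mul_two, S.rot_half] at h2

omit hM hmax in
theorem rot_sq_of_order {c : ZMod (2 * h)} (hc : orderOf (S.rot c : G) = 4) :
    (S.rot c : G) * (S.rot c : G) = r ^ h := by
  refine S.eq_of_sq (Subgroup.mul_mem _ (S.rot_mem c) (S.rot_mem c)) ?_ fun q => ?_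
  · rw [← pow_two, ← pow_two, ← pow_mul, show 2 * 2 = orderOf (S.rot c : G) by rw [hc], pow_orderOf_eq_one]
  · have := Nat.le_of_dvd two_pos (orderOf_dvd_of_pow_eq_one (show (S.rot c : G) ^ 2 = 1 by rw [pow_two]; exact q))
    omega

omit hM hmax in
theorem order_four {v : G} (hv : v * v = r ^ h) : orderOf v = 4 := by
  have h4 : v ^ 4 = 1 := by
    rw [show (4 : ℕ) = 2 * 2 from rfl, pow_mul, pow_two, pow_two, hv, S.pow_mul_self]
  exact orderOf_eq_prime_pow (p := 2) (n := 1) (by rw [pow_one, pow_two, hv]; exact S.pow_half_ne_one) h4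

/-- The quaternion case. -/
theorem quat_invariants [Fintype B] (hQ : ∀ x ∈ D, x ∉ Subgroup.zpowers r → x * x = r ^ h) :
    blockRank 2 B = blockRank 2 (atBelow hM hmax (S.rot ((h : ℕ) : ZMod (2 * h)))).2 ∧
      (blockRank 2 (atBelow hM hmax (S.rot ((h : ℕ) : ZMod (2 * h)))).2 = 1 → h + 2 ≤ Fintype.card B) := by
  haveI := S.neZero
  obtain ⟨y0, hy0, hy0r⟩ := S.exists_refl
  set y : D := ⟨y0, hy0⟩ with hy
  have hy2r : ((S.rot 1 * y : D) : G) ∉ Subgroup.zpowers r := fun hm => hy0r (by
    have h2 := Subgroup.mul_mem _ (inv_mem (S.rot_mem 1)) hm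
    rwa [Subgroup.coe_mul, inv_mul_cancel_left] at h2)
  have hrefl : ∀ v : D, v ∈ ({y, S.rot 1 * y} : Finset D) → (v : G) ∉ Subgroup.zpowers r := fun v hv => by
    simp only [Finset.mem_insert, Finset.mem_singleton] at hv
    rcases hv with rfl | rfl <;> assumption
  have hsq : ∀ v : D, v ∈ ({y, S.rot 1 * y} : Finset D) → (v : G) * v = r ^ h := fun v hv =>
    hQ v v.2 (hrefl v hv)
  have hzm : ∀ v : D, (v : G) * v = r ^ h → r ^ h ∈ Subgroup.zpowers (v : G) := fun v hv => by
    rw [← hv, ← pow_two]; exact Subgroup.pow_mem _ (Subgroup.mem_zpowers _) _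
  obtain ⟨U', F, hsub', hcard', hne', hsep', hcov', hfwd, hbwd, hFord, -⟩ := local_count hM hmax S y hy0r
  obtain ⟨U, hsub, hne, hsep, hcov, hcard⟩ := card_eq_classes hM hmax S y hy0r
  have hin : ∀ v, v ∈ ({y, S.rot 1 * y} : Finset D) ↔ (v = y ∨ v = S.rot 1 * y) := fun v => by simp
  have h1 : U.card ≤ U'.card := by
    refine card_le_of_rel (fun v w => F w v) U U' (fun v hv => ?_) fun v hv v' hv' w hw f f' => ?_
    · rcases hcov' v ((hin v).mp (hsub hv)) with ⟨c, hc⟩ | ⟨w, hw, hwv⟩
      · exfalso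
        have ho := (hFord _ _ hc).trans (order_four S (hsq v (hsub hv)))
        exact hne v hv c (hfwd _ _ (hzm _ (rot_sq_of_order S ho)) (hzm v (hsq v (hsub hv))) hc)
      · exact ⟨w, hw, hwv⟩
    · have s1 := hfwd _ _ (hzm w (hsq w (hsub' hw))) (hzm v (hsq v (hsub hv))) f
      have s2 := hfwd _ _ (hzm w (hsq w (hsub' hw))) (hzm v' (hsq v' (hsub hv'))) f'
      exact hsep v hv v' hv' ((Fused.symm hM hmax s1).trans hM hmax s2)
  have h2 : U'.card ≤ U.card := by
    refine card_le_of_rel (fun v w => Fused hM hmax w v) U' U (fun v hv => ?_) fun v hv v' hv' w hw f f' => ?_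
    · rcases hcov v ((hin v).mp (hsub' hv)) with ⟨c, hc⟩ | ⟨w, hw, hwv⟩
      · exfalso
        have ho := (hc.orderOf_eq hM hmax).trans (order_four S (hsq v (hsub' hv)))
        exact hne' v hv c (hbwd _ _ (rot_sq_of_order S ho) (hsq v (hsub' hv)) hc)
      · exact ⟨w, hw, hwv⟩
    · exact hsep' v hv v' hv' (hbwd _ _ (hsq v (hsub' hv)) (hsq v' (hsub' hv'))
        ((Fused.symm hM hmax f).trans hM hmax f'))
  have hl1 := one_le_blockRank hM hmax
  rw [Nat.card_eq_fintype_card] at hcard
  have hk : blockRank 2 (atBelow hM hmax (S.rot ((h : ℕ) : ZMod (2 * h)))).2 = 1 → h + 2 ≤ Fintype.card B := by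
    intro hz
    have := S.two_le
    omega
  refine ⟨?_, hk⟩
  obtain ⟨hnum, -⟩ := numbers_of hM hmax S hk
  have := S.two_le
  omega

/-- The semidihedral case. -/
theorem semi_invariants [Fintype B] (y : D) (hy : (y : G) ∉ Subgroup.zpowers r) (hyy : (y : G) * y = 1)
    (hxx : ((S.rot 1 * y : D) : G) * ((S.rot 1 * y : D) : G) = r ^ h) :
    (blockRank 2 (atBelow hM hmax (S.rot ((h : ℕ) : ZMod (2 * h)))).2 = 1 → h + 2 ≤ Fintype.card B) ∧
    blockRank 2 (atBelow hM hmax (S.rot ((h : ℕ) : ZMod (2 * h)))).2 ≤ 2 ∧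
    blockRank 2 B ≤ 3 ∧
    (blockRank 2 B = 3 → blockRank 2 (atBelow hM hmax (S.rot ((h : ℕ) : ZMod (2 * h)))).2 = 2 ∧
      Fused hM hmax (S.rot ((h : ℕ) : ZMod (2 * h))) y ∧
      ∃ c, orderOf (S.rot c : G) = 4 ∧ Fused hM hmax (S.rot c) (S.rot 1 * y)) ∧
    (blockRank 2 B = 1 → blockRank 2 (atBelow hM hmax (S.rot ((h : ℕ) : ZMod (2 * h)))).2 = 1) := by
  haveI := S.neZero
  set z := S.rot ((h : ℕ) : ZMod (2 * h)) with hz
  set x : D := S.rot 1 * y with hx
  have hy1 : (y : G) ≠ 1 := fun q => hy (by rw [q]; exact one_mem _)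
  have hoy : orderOf (y : G) = 2 := orderOf_eq_prime (by rw [pow_two, hyy]) hy1
  have hox : orderOf (x : G) = 4 := order_four S hxx
  have hxy : x ≠ y := fun q => by rw [q] at hox; omega
  have hzm : ∀ v : D, (v : G) * v = r ^ h → r ^ h ∈ Subgroup.zpowers (v : G) := fun v hv => by
    rw [← hv, ← pow_two]; exact Subgroup.pow_mem _ (Subgroup.mem_zpowers _) _
  obtain ⟨U', F, hsub', hcard', hne', hsep', hcov', hfwd, hbwd, hFord, hFz⟩ := local_count hM hmax S y hy
  obtain ⟨U, hsub, hne, hsep, hcov, hcard⟩ := card_eq_classes hM hmax S y hy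
  have hrot2 : ∀ c, orderOf (S.rot c : G) = 2 → S.rot c = z := fun c hc => by
    refine Subtype.ext ((S.eq_of_sq (S.rot_mem c) (by rw [← pow_two, ← hc, pow_orderOf_eq_one]) ?_).trans
      S.rot_half.symm)
    intro q; rw [q, orderOf_one] at hc; omega
  -- membership in the two sets
  have hxU' : x ∈ U' ↔ x ∈ U := by
    constructor
    · intro hmem
      rcases hcov x (Or.inr rfl) with ⟨c, hc⟩ | ⟨w, hw, hwx⟩
      · exfalso
        exact hne' x hmem c (hbwd _ _ (rot_sq_of_order S ((hc.orderOf_eq hM hmax).trans hox)) hxx hc)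
      · have := hsub hw
        simp only [Finset.mem_insert, Finset.mem_singleton] at this
        rcases this with rfl | rfl
        · exact absurd (hwx.orderOf_eq hM hmax) (by rw [hox, hoy]; norm_num)
        · exact hw
    · intro hmem
      rcases hcov' x (Or.inr rfl) with ⟨c, hc⟩ | ⟨w, hw, hwx⟩
      · exfalso
        exact hne x hmem c (hfwd _ _ (hzm _ (rot_sq_of_order S ((hFord _ _ hc).trans hox))) (hzm x hxx) hc)
      · have := hsub' hw
        simp only [Finset.mem_insert, Finset.mem_singleton] at this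
        rcases this with rfl | rfl
        · exact absurd (hFord _ _ hwx) (by rw [hox, hoy]; norm_num)
        · exact hw
  have hyU' : y ∈ U' := by
    rcases hcov' y (Or.inl rfl) with ⟨c, hc⟩ | ⟨w, hw, hwy⟩
    · exfalso
      have h1 : S.rot c = z := hrot2 c ((hFord _ _ hc).trans hoy)
      have h2 := hFz y (show F z y by rw [← h1]; exact hc)
      exact hy (h2 ▸ S.rot_mem _)
    · have := hsub' hw
      simp only [Finset.mem_insert, Finset.mem_singleton] at this
      rcases this with rfl | rfl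
      · exact hw
      · exact absurd (hFord _ _ hwy) (by rw [hox, hoy]; norm_num)
  have hcU' : U'.card = 1 + if x ∈ U then 1 else 0 := by
    have : U' = if x ∈ U then {y, x} else {y} := by
      ext v
      constructor
      · intro hv
        have := hsub' hv
        simp only [Finset.mem_insert, Finset.mem_singleton] at this
        rcases this with rfl | rfl
        · split_ifs <;> simp
        · rw [if_pos (hxU'.mp hv)]; simp [hx]
      · split_ifs with q
        · simp only [Finset.mem_insert, Finset.mem_singleton]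
          rintro (rfl | rfl)
          exacts [hyU', hxU'.mpr q]
        · simp only [Finset.mem_singleton]
          rintro rfl
          exact hyU'
    rw [this]
    split_ifs
    · rw [Finset.card_pair hxy.symm]
    · simp
  have hcU : U.card = (if y ∈ U then 1 else 0) + if x ∈ U then 1 else 0 := by
    have : U = ({y, x} : Finset D).filter (· ∈ U) := by
      ext v
      simp only [Finset.mem_filter]
      exact ⟨fun hv => ⟨hsub hv, hv⟩, fun hv => hv.2⟩
    conv_lhs => rw [this, Finset.card_filter, Finset.sum_pair hxy.symm]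
  rw [Nat.card_eq_fintype_card, ← hz] at hcard
  have hl1 := one_le_blockRank hM hmax
  have := S.two_le
  have hk : blockRank 2 (atBelow hM hmax z).2 = 1 → h + 2 ≤ Fintype.card B := by
    intro hz1
    rw [hz1] at hcard hcard'
    split_ifs at hcU hcU' <;> omega
  obtain ⟨hnum, -⟩ := numbers_of hM hmax S hk
  change Fintype.card B = h + 2 + blockRank 2 (atBelow hM hmax z).2 at hnum
  change U'.card + blockRank 2 (atBelow hM hmax z).2 = 3 at hcard'
  refine ⟨hk, ?_, ?_, fun h3 => ?_, fun h1 => ?_⟩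
  · split_ifs at hcU hcU' <;> omega
  · split_ifs at hcU hcU' <;> omega
  · have hyn : y ∉ U := fun q => by
      rw [if_pos q] at hcU
      split_ifs at hcU hcU' <;> omega
    have hxn : x ∉ U := fun q => by
      rw [if_pos q] at hcU hcU'
      split_ifs at hcU <;> omega
    refine ⟨by rw [if_neg hxn] at hcU'; omega, ?_, ?_⟩
    · rcases hcov y (Or.inl rfl) with ⟨c, hc⟩ | ⟨w, hw, hwy⟩
      · rw [hrot2 c ((hc.orderOf_eq hM hmax).trans hoy)] at hc
        exact hc
      · exfalso
        have := hsub hw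
        simp only [Finset.mem_insert, Finset.mem_singleton] at this
        rcases this with rfl | rfl
        exacts [hyn hw, hxn hw]
    · rcases hcov x (Or.inr rfl) with ⟨c, hc⟩ | ⟨w, hw, hwx⟩
      · exact ⟨c, (hc.orderOf_eq hM hmax).trans hox, hc⟩
      · exfalso
        have := hsub hw
        simp only [Finset.mem_insert, Finset.mem_singleton] at this
        rcases this with rfl | rfl
        exacts [hyn hw, hxn hw]
  · split_ifs at hcU hcU' <;> omega

end Cfsg.Agent.BC84.Tame
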