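import Cfsg.Agent.BC84.Tame.Families

/-!
# The numbers of members of each height
-/

set_option autoImplicit false
set_option linter.unusedSectionVars false

namespace Cfsg.Agent.BC84.Tame

open scoped Classical

namespace Data

variable {ι : Type*} [Fintype ι] {h : ℕ} (S : Data ι h)

include S

/-- A vector of norm two orthogonal to `g`: its partner on `H0` carries the same coordinates. -/
theorem partner {w : ι → ℤ} (hw : ∑ x, w x ^ 2 = 2) (hg : ∑ x, S.g x * w x = 0) {x : ι}
    (hx : x ∈ S.H0) (hwx : w x ≠ 0) :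
    ∃ y ∈ S.H0, y ≠ x ∧ S.g y * w y = -(S.g x * w x) ∧ (∀ z, z ≠ x → z ≠ y → w z = 0) ∧
      ∀ c : ι → ℤ, ∑ z, w z * c z = 0 → S.g x * c x = S.g y * c y := by
  obtain ⟨p, q, hpq, hp, hq, hz⟩ := norm_two hw
  obtain ⟨y, hxy, hyv, hz'⟩ : ∃ y, y ≠ x ∧ (w y = 1 ∨ w y = -1) ∧
      ∀ z, z ≠ x → z ≠ y → w z = 0 := by
    by_cases hxp : x = p
    · exact ⟨q, hxp ▸ hpq.symm, hq, fun z h1 h2 => hz z (hxp ▸ h1) h2⟩
    · have hxq : x = q := by_contra fun hne => hwx (hz x hxp hne)
      exact ⟨p, hxq ▸ hpq, hp, fun z h1 h2 => hz z h2 (hxq ▸ h1)⟩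
  have hsum : ∀ c : ι → ℤ, ∑ z, c z * w z = c x * w x + c y * w y := fun c =>
    Finset.sum_eq_add x y hxy.symm (fun z _ hz'' => by rw [hz' z hz''.1 hz''.2, mul_zero])
      (fun hn => absurd (Finset.mem_univ _) hn) (fun hn => absurd (Finset.mem_univ _) hn)
  rw [hsum] at hg
  have hy : y ∈ S.H0 := (S.g_ne_zero_iff y).mp fun h0 => by
    rw [h0, zero_mul, add_zero] at hg
    exact mul_ne_zero ((S.g_ne_zero_iff x).mpr hx) hwx hg
  refine ⟨y, hy, hxy, by linarith, hz', fun c hc => ?_⟩
  have hc' : c x * w x + c y * w y = 0 := by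
    rw [← hsum c, ← hc]
    exact Finset.sum_congr rfl fun z _ => mul_comm _ _
  have gx := S.four.2.1 x hx
  have gy := S.four.2.1 y hy
  have hwx' : w x = 1 ∨ w x = -1 := by
    refine sq_one_of_le hwx ?_
    have := Finset.single_le_sum (f := fun z => w z ^ 2) (fun z _ => sq_nonneg _) (Finset.mem_univ x)
    simp only [hw] at this
    linarith
  rcases hwx' with a | a <;> rcases hyv with b | b <;> rcases gx with e | e <;>
    rcases gy with e' | e' <;> rw [a, b] at hg hc' <;> rw [e, e'] at hg ⊢ <;> omega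

/-- Either the second coordinates or the first has an odd entry at a member of height zero. -/
theorem not_both_zero (hl : S.l ≠ 1) {x : ι} (hx : x ∈ S.H0) : ¬ (S.u x = 0 ∧ S.v x = 0) := by
  rintro ⟨hu, hv⟩
  have ho := (S.odd_t x).mpr (S.mem_H0.mp hx)
  rcases S.shape with ⟨h1, -⟩ | ⟨-, -, -, -, -, hp⟩ | ⟨-, -, -, -, hp⟩
  · exact hl h1
  · have := hp x; omega
  · have := hp x; omega

variable [NeZero (2 * h)] (h4 : 4 ≤ h)

include h4

theorem one_mem_reps : (1 : ZMod (2 * h)) ∈ S.reps 1 := by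
  have h1 : ((1 : ℕ) : ZMod (2 * h)) = 1 := Nat.cast_one
  rw [← h1]
  refine S.mem_reps.mpr ⟨by rw [S.nat_par (by omega)], ?_⟩
  have hne := S.fix_iff (S.nat_ne_zero (i := 1) (by omega) (by norm_num))
    (S.nat_ne_half (by omega) (by omega))
  have hp := S.kappa_par ((1 : ℕ) : ZMod (2 * h))
  rw [S.nat_par (by omega)] at hp
  rw [S.val_nat (by omega)]
  by_contra hle
  exact hne (ZMod.val_injective _ (by rw [S.val_nat (i := 1) (by omega)]; omega))

theorem two_mem_reps : ((2 : ℕ) : ZMod (2 * h)) ∈ S.reps 0 := by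
  refine S.mem_reps.mpr ⟨by rw [S.nat_par (by omega)], ?_⟩
  have t0 := S.nat_ne_zero (i := 2) (by omega) (by norm_num)
  have hne := S.fix_iff t0 (S.nat_ne_half (by omega) (by omega))
  have hp := S.kappa_par ((2 : ℕ) : ZMod (2 * h))
  rw [S.nat_par (by omega)] at hp
  have hk0 : (S.κ * ((2 : ℕ) : ZMod (2 * h))).val ≠ 0 := fun he =>
    t0 (S.kappa_zero_iff.mp ((ZMod.val_eq_zero _).mp he))
  rw [S.val_nat (by omega)]
  by_contra hle
  exact hne (ZMod.val_injective _ (by rw [S.val_nat (i := 2) (by omega)]; omega))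

theorem ne_two {c : ZMod (2 * h)} (hc : c ∈ S.reps 1) : c ≠ ((2 : ℕ) : ZMod (2 * h)) := fun he => by
  have := (S.mem_reps.mp hc).1
  rw [he, S.nat_par (by omega)] at this
  omega

/-- The scalar product of a family with the difference of the fixed column to the column two. -/
theorem sum_fam_two {e : ℕ} {b i : ZMod (2 * h)} (hb : b ∈ S.reps e)
    (hi : i ∈ (S.reps e).erase b) :
    ∑ x, S.d i b x * S.d 0 ((2 : ℕ) : ZMod (2 * h)) x =
      if b = ((2 : ℕ) : ZMod (2 * h)) then 1 else (if i = ((2 : ℕ) : ZMod (2 * h)) then -1 else 0) := by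
  obtain ⟨hib, hi⟩ := Finset.mem_erase.mp hi
  obtain ⟨b0, -, -⟩ := S.reps_facts hb
  obtain ⟨i0, -, -⟩ := S.reps_facts hi
  have tp : ((2 : ℕ) : ZMod (2 * h)).val % 2 = (0 : ZMod (2 * h)).val % 2 := by
    rw [S.nat_par (by omega), ZMod.val_zero]
  rw [S.sum_d_mul ((S.mem_reps.mp hi).1.trans (S.mem_reps.mp hb).1.symm) tp.symm]
  have key : ∀ c ∈ S.reps e, br S.κ c ((2 : ℕ) : ZMod (2 * h)) = if c = ((2 : ℕ) : ZMod (2 * h)) then 1 else 0 := by
    intro c hc
    have h2 := S.two_mem_reps h4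
    by_cases hpar : e = 0
    · subst hpar; exact S.br_reps hc h2
    · have hc' := (S.mem_reps.mp hc).1
      have hne : c.val % 2 ≠ ((2 : ℕ) : ZMod (2 * h)).val % 2 := by
        rw [(S.mem_reps.mp h2).1, hc']; exact hpar
      have a : S.κ * c ≠ ((2 : ℕ) : ZMod (2 * h)) := fun he => hne (by rw [← S.kappa_par c, he])
      have a' : c ≠ ((2 : ℕ) : ZMod (2 * h)) := fun he => hne (by rw [he])
      unfold br
      rw [if_neg a', if_neg a]
      rfl
  have z1 : br S.κ i 0 = 0 := by simp [br, i0, mt S.kappa_zero_iff.mp i0]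
  have z2 : br S.κ b 0 = 0 := by simp [br, b0, mt S.kappa_zero_iff.mp b0]
  rw [z1, z2, key i hi, key b hb]
  by_cases hb2 : b = ((2 : ℕ) : ZMod (2 * h))
  · simp only [if_pos hb2, if_neg (fun hi2 : i = _ => hib (hi2.trans hb2.symm))]
    norm_num
  · simp only [if_neg hb2]
    split_ifs <;> norm_num

variable {E : ι} {ε : ℤ} (hs : S.Split E ε)

include hs

/-- The scalar product with the difference, on the height zero members. -/
theorem prod_two {w : ι → ℤ} {x y : ι} (hx : x ∈ S.H0) (hy : y ∈ S.H0) (hxy : y ≠ x)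
    (hgy : S.g y * w y = -(S.g x * w x)) (hz : ∀ z, z ≠ x → z ≠ y → w z = 0) :
    ∑ z, w z * S.d 0 ((2 : ℕ) : ZMod (2 * h)) z =
      (S.g x * w x) * ((if S.d 0 ((2 : ℕ) : ZMod (2 * h)) x ≠ 0 then 1 else 0) -
        (if S.d 0 ((2 : ℕ) : ZMod (2 * h)) y ≠ 0 then 1 else 0)) := by
  rw [Finset.sum_eq_add x y hxy.symm (fun z _ hz' => by rw [hz z hz'.1 hz'.2, zero_mul])
    (fun hn => absurd (Finset.mem_univ _) hn) (fun hn => absurd (Finset.mem_univ _) hn)]
  have e : ∀ z ∈ S.H0, w z * S.d 0 ((2 : ℕ) : ZMod (2 * h)) z =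
      (S.g z * w z) * if S.d 0 ((2 : ℕ) : ZMod (2 * h)) z ≠ 0 then 1 else 0 := fun z hz' => by
    rcases hs.on z hz' with ⟨a, -⟩ | ⟨a, -⟩
    · rw [a, if_pos ((S.g_ne_zero_iff z).mpr hz'), mul_one, mul_comm]
    · rw [a, if_neg (by simp), mul_zero, mul_zero]
  rw [e x hx, e y hy, hgy]
  ring

/-- The families do not touch the members of height zero. -/
theorem fam_off (hcase : S.l ≠ 1 ∨ ((∀ x ∈ S.H0, S.t x ^ 2 = 1) ∧ 8 ≤ h)) {e : ℕ}
    {b : ZMod (2 * h)} (hb : b ∈ S.reps e) (he : e = 0 ∧ b = ((2 : ℕ) : ZMod (2 * h)) ∨ e = 1)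
    {i : ZMod (2 * h)} (hi : i ∈ (S.reps e).erase b) {x : ι} (hx : x ∈ S.H0) :
    S.d i b x = 0 := by
  by_contra hwx
  set A := S.H0.filter fun x => S.d 0 ((2 : ℕ) : ZMod (2 * h)) x ≠ 0 with hA
  set Ac := S.H0.filter fun x => ¬ S.d 0 ((2 : ℕ) : ZMod (2 * h)) x ≠ 0 with hAc
  have hip := (S.mem_reps.mp (Finset.mem_erase.mp hi).2).1.trans (S.mem_reps.mp hb).1.symm
  obtain ⟨y, hy, hxy, hgy, hz, hcoord⟩ := S.partner (S.norm_fam hb hi) (S.g_fam hb hi) hx hwx
  have hprod := S.sum_fam_two h4 hb hi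
  rw [S.prod_two h4 hs hx hy hxy hgy hz] at hprod
  have hgx : S.g x * S.d i b x ≠ 0 := mul_ne_zero ((S.g_ne_zero_iff x).mpr hx) hwx
  have hEp := S.E_pure hs h4
  obtain ⟨-, hEu, hEv⟩ := S.mem_pure.mp hEp
  have hsame : ∀ c : ι → ℤ, S.Coord c → S.g x * c x = S.g y * c y := fun c hc =>
    hcoord c (hc.orth i b hip)
  -- a second vector of the family
  have hsecond : (e = 0 ∨ (e = 1 ∧ 8 ≤ h)) → ((S.reps e).erase b).card ≥ 2 → False := by
    intro _ hcard
    obtain ⟨j, hj, hji⟩ := Finset.exists_mem_ne hcard i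
    have hjp := (S.mem_reps.mp (Finset.mem_erase.mp hj).2).1.trans (S.mem_reps.mp hb).1.symm
    have hij : ∑ z, S.d i b z * S.d j b z = 1 := by
      rw [S.sum_fam hb hi hj, if_neg hji.symm, zero_add]
    rw [Finset.sum_eq_add x y hxy.symm (fun z _ hz' => by rw [hz z hz'.1 hz'.2, zero_mul])
      (fun hn => absurd (Finset.mem_univ _) hn) (fun hn => absurd (Finset.mem_univ _) hn)] at hij
    obtain ⟨p, hp, hjp'⟩ : ∃ p, (p = x ∨ p = y) ∧ S.d j b p ≠ 0 := by
      by_contra hn
      push Not at hn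
      rw [hn x (Or.inl rfl), hn y (Or.inr rfl)] at hij
      simp at hij
    have hpH : p ∈ S.H0 := by rcases hp with rfl | rfl <;> assumption
    obtain ⟨q, hq, hqp, hgq, hzq, hcoord'⟩ := S.partner (S.norm_fam hb hj) (S.g_fam hb hj) hpH hjp'
    have hprod' := S.sum_fam_two h4 hb hj
    rw [S.prod_two h4 hs hpH hq hqp hgq hzq] at hprod'
    have hjne : S.g p * S.d j b p ≠ 0 := mul_ne_zero ((S.g_ne_zero_iff p).mpr hpH) hjp'
    have hsame' : ∀ c : ι → ℤ, S.Coord c → S.g p * c p = S.g q * c q := fun c hc =>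
      hcoord' c (hc.orth j b hjp)
    -- the second vector is not on the same pair
    have hq' : q ≠ x ∧ q ≠ y := by
      have hone : ∀ k (hk : k ∈ (S.reps e).erase b) z, S.d k b z ≠ 0 →
          S.d k b z = 1 ∨ S.d k b z = -1 := fun k hk z h0 => sq_one_of_le h0 (by
        have := Finset.single_le_sum (f := fun z => S.d k b z ^ 2) (fun z _ => sq_nonneg _)
          (Finset.mem_univ z)
        simp only [S.norm_fam hb hk] at this
        linarith)
      have hwy : S.d i b y ≠ 0 := fun h0 => hgx (by rw [h0, mul_zero] at hgy; linarith)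
      have hqne : S.d j b q ≠ 0 := fun h0 => hjne (by rw [h0, mul_zero] at hgq; linarith)
      have hboth : S.d j b x ≠ 0 → S.d j b y ≠ 0 → False := fun c1 c2 => by
        rcases hone i hi x hwx with a | a <;> rcases hone i hi y hwy with b' | b' <;>
          rcases hone j hj x c1 with a' | a' <;> rcases hone j hj y c2 with c | c <;>
          rw [a, b', a', c] at hij <;> omega
      refine ⟨fun hqx => hboth (hqx ▸ hqne) ?_, fun hqy => hboth ?_ (hqy ▸ hqne)⟩
      · exact (hp.resolve_left fun hpx => hqp (hqx.trans hpx.symm)) ▸ hjp'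
      · exact (hp.resolve_right fun hpy => hqp (hqy.trans hpy.symm)) ▸ hjp'
    rcases he with ⟨rfl, hb2⟩ | rfl
    · -- two members of the same part and the third share their coordinates
      rw [if_pos hb2] at hprod hprod'
      have hsplit : (x ∈ A ∧ y ∈ Ac) ∨ (x ∈ Ac ∧ y ∈ A) := by
        simp only [hA, hAc, Finset.mem_filter]
        by_cases a : S.d 0 ((2 : ℕ) : ZMod (2 * h)) x ≠ 0 <;>
          by_cases b' : S.d 0 ((2 : ℕ) : ZMod (2 * h)) y ≠ 0
        · rw [if_pos a, if_pos b'] at hprod; simp at hprod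
        · exact Or.inl ⟨⟨hx, a⟩, hy, b'⟩
        · exact Or.inr ⟨⟨hx, a⟩, hy, b'⟩
        · rw [if_neg a, if_neg b'] at hprod; simp at hprod
      have hsplit' : (p ∈ A ∧ q ∈ Ac) ∨ (p ∈ Ac ∧ q ∈ A) := by
        simp only [hA, hAc, Finset.mem_filter]
        by_cases a : S.d 0 ((2 : ℕ) : ZMod (2 * h)) p ≠ 0 <;>
          by_cases b' : S.d 0 ((2 : ℕ) : ZMod (2 * h)) q ≠ 0
        · rw [if_pos a, if_pos b'] at hprod'; simp at hprod'
        · exact Or.inl ⟨⟨hpH, a⟩, hq, b'⟩
        · exact Or.inr ⟨⟨hpH, a⟩, hq, b'⟩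
        · rw [if_neg a, if_neg b'] at hprod'; simp at hprod'
      obtain ⟨T, hT, r, s', hr, hs', hrs, hcc⟩ : ∃ (T : Finset ι), (T = A ∨ T = Ac) ∧ ∃ r s', r ∈ T ∧ s' ∈ T ∧
          r ≠ s' ∧ ∀ c : ι → ℤ, S.Coord c → S.g r * c r = S.g s' * c s' := by
        rcases hp with rfl | rfl
        · -- shared `x`
          have hh : ∀ c : ι → ℤ, S.Coord c → S.g y * c y = S.g q * c q := fun c hc =>
            (hsame c hc).symm.trans (hsame' c hc)
          rcases hsplit with ⟨a, b'⟩ | ⟨a, b'⟩ <;> rcases hsplit' with ⟨a', c⟩ | ⟨a', c⟩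
          · exact ⟨Ac, Or.inr rfl, y, q, b', c, hq'.2.symm, hh⟩
          · exact absurd (Finset.mem_filter.mp a).2 (Finset.mem_filter.mp a').2
          · exact absurd (Finset.mem_filter.mp a').2 (Finset.mem_filter.mp a).2
          · exact ⟨A, Or.inl rfl, y, q, b', c, hq'.2.symm, hh⟩
        · -- shared `y`
          have hh : ∀ c : ι → ℤ, S.Coord c → S.g x * c x = S.g q * c q := fun c hc =>
            (hsame c hc).trans (hsame' c hc)
          rcases hsplit with ⟨a, b'⟩ | ⟨a, b'⟩ <;> rcases hsplit' with ⟨a', c⟩ | ⟨a', c⟩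
          · exact absurd (Finset.mem_filter.mp a').2 (Finset.mem_filter.mp b').2
          · exact ⟨A, Or.inl rfl, x, q, a, c, hq'.1.symm, hh⟩
          · exact ⟨Ac, Or.inr rfl, x, q, a, c, hq'.1.symm, hh⟩
          · exact absurd (Finset.mem_filter.mp b').2 (Finset.mem_filter.mp a').2
      have hTcard : T.card = 2 := by rcases hT with rfl | rfl
                                     · exact hs.card
                                     · exact S.card_part hs h4
      have hTe : T = {r, s'} := (Finset.eq_of_subset_of_card_le (by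
        intro z hz'; rcases Finset.mem_insert.mp hz' with rfl | hz'
        · exact hr
        · rw [Finset.mem_singleton.mp hz']; exact hs') (by rw [hTcard, Finset.card_pair hrs])).symm
      have hzero : ∀ c : ι → ℤ, S.Coord c → (c E = 0) → S.g r * c r = 0 := by
        intro c hc hcE
        have h2 := hcc c hc
        have hp' := S.sum_part hs h4 hc
        rcases hT with rfl | rfl
        · have := hp'.1; rw [← hA, hTe, Finset.sum_pair hrs, hcE, mul_zero] at this; omega
        · have := hp'.2; rw [← hAc, hTe, Finset.sum_pair hrs, hcE, mul_zero] at this; omega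
      have hrH : r ∈ S.H0 := by rcases hT with rfl | rfl <;> exact (Finset.mem_filter.mp hr).1
      have hgr := (S.g_ne_zero_iff r).mpr hrH
      rcases hcase with hl | ⟨ht, -⟩
      · exact S.not_both_zero hl hrH ⟨(mul_eq_zero.mp (hzero _ S.coord_u hEu)).resolve_left hgr,
          (mul_eq_zero.mp (hzero _ S.coord_v hEv)).resolve_left hgr⟩
      · -- the values of `t` on the two parts differ
        have hp' := S.sum_part hs h4 S.coord_t
        have hA2 := hs.card
        have hAc2 := S.card_part hs h4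
        obtain ⟨a1, a2, a12, hAe⟩ := Finset.card_eq_two.mp hA2
        obtain ⟨c1, c2, c12, hCe⟩ := Finset.card_eq_two.mp hAc2
        rw [hAe, Finset.sum_pair a12] at hp'
        rw [hCe, Finset.sum_pair c12] at hp'
        obtain ⟨k, hk⟩ := S.t_even hs.notMem
        have hk0 : k ≠ 0 := fun h0 => by
          have := S.pure_t hEp; rw [hk, h0] at this; norm_num at this
        have hv : ∀ z ∈ S.H0, S.g z * S.t z = 1 ∨ S.g z * S.t z = -1 := fun z hz' => by
          rcases sq_eq_one_iff.mp (ht z hz') with a | a <;> rcases S.four.2.1 z hz' with g | g <;>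
            simp [a, g]
        have hmA : ∀ z, z = a1 ∨ z = a2 → z ∈ S.H0 := fun z hz' => (Finset.mem_filter.mp
          (show z ∈ A by rw [hA, hAe]; rcases hz' with rfl | rfl <;> simp)).1
        have hmC : ∀ z, z = c1 ∨ z = c2 → z ∈ S.H0 := fun z hz' => (Finset.mem_filter.mp
          (show z ∈ Ac by rw [hAc, hCe]; rcases hz' with rfl | rfl <;> simp)).1
        have v1 := hv a1 (hmA _ (Or.inl rfl)); have v2 := hv a2 (hmA _ (Or.inr rfl))
        have v3 := hv c1 (hmC _ (Or.inl rfl)); have v4 := hv c2 (hmC _ (Or.inr rfl))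
        have hxy' := hsame _ S.coord_t
        rw [hk] at hp'
        rcases hsplit with ⟨a, b'⟩ | ⟨a, b'⟩ <;>
          (rw [hA, hAe, Finset.mem_insert, Finset.mem_singleton] at *
           rw [hAc, hCe, Finset.mem_insert, Finset.mem_singleton] at *
           rcases a with rfl | rfl <;> rcases b' with rfl | rfl <;>
             rcases hs.sign with rfl | rfl <;> omega)
    · -- two vectors on one part
      rw [if_neg (S.ne_two h4 hb), if_neg (S.ne_two h4 (Finset.mem_erase.mp hi).2)] at hprod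
      rw [if_neg (S.ne_two h4 hb), if_neg (S.ne_two h4 (Finset.mem_erase.mp hj).2)] at hprod'
      have h1 := (mul_eq_zero.mp hprod).resolve_left hgx
      have h2 := (mul_eq_zero.mp hprod').resolve_left hjne
      have hthree : ∀ (T : Finset ι), T.card = 2 → ∀ a b c : ι, a ∈ T → b ∈ T → c ∈ T →
          a ≠ b → c ≠ a → c ≠ b → False := fun T hT a b c ha hb' hc hab hca hcb => by
        have hsub : ({a, b, c} : Finset ι) ⊆ T := by
          intro z hz'; simp only [Finset.mem_insert, Finset.mem_singleton] at hz'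
          rcases hz' with rfl | rfl | rfl <;> assumption
        have := Finset.card_le_card hsub
        rw [hT, Finset.card_insert_of_notMem (by simp [hab, hca.symm]), Finset.card_pair hcb.symm] at this
        omega
      by_cases a : S.d 0 ((2 : ℕ) : ZMod (2 * h)) x ≠ 0
      · have b' : S.d 0 ((2 : ℕ) : ZMod (2 * h)) y ≠ 0 := by
          by_contra b'; rw [if_pos a, if_neg (not_not.mpr b')] at h1; omega
        have c : S.d 0 ((2 : ℕ) : ZMod (2 * h)) q ≠ 0 := by
          by_contra c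
          rw [if_neg (not_not.mpr c), if_pos (by rcases hp with rfl | rfl <;> assumption)] at h2; omega
        exact hthree A hs.card x y q (Finset.mem_filter.mpr ⟨hx, a⟩) (Finset.mem_filter.mpr ⟨hy, b'⟩)
          (Finset.mem_filter.mpr ⟨hq, c⟩) hxy.symm hq'.1 hq'.2
      · have b' : ¬ S.d 0 ((2 : ℕ) : ZMod (2 * h)) y ≠ 0 := by
          intro b'; rw [if_neg a, if_pos b'] at h1; omega
        have c : ¬ S.d 0 ((2 : ℕ) : ZMod (2 * h)) q ≠ 0 := by
          intro c
          rw [if_pos c, if_neg (by rcases hp with rfl | rfl <;> assumption)] at h2; omega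
        exact hthree Ac (S.card_part hs h4) x y q (Finset.mem_filter.mpr ⟨hx, a⟩)
          (Finset.mem_filter.mpr ⟨hy, b'⟩) (Finset.mem_filter.mpr ⟨hq, c⟩) hxy.symm hq'.1 hq'.2
  rcases he with ⟨rfl, hb2⟩ | rfl
  · -- there is a second vector as soon as there is one
    refine hsecond (Or.inl rfl) ?_
    have hc := S.card_reps (e := 0) (by norm_num)
    rw [if_pos rfl] at hc
    rw [Finset.card_erase_of_mem hb]
    have h1 : 1 ≤ ((S.reps 0).erase b).card := Finset.card_pos.mpr ⟨i, hi⟩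
    rw [Finset.card_erase_of_mem hb] at h1
    obtain ⟨a, ha, rfl⟩ := S.pow
    rcases (by omega : a = 1 ∨ a = 2 ∨ 3 ≤ a) with rfl | rfl | h3
    · omega
    · omega
    · have : 2 ^ 3 ≤ 2 ^ a := Nat.pow_le_pow_right two_pos h3
      omega
  · rcases hcase with hl | ⟨ht, h8⟩
    · -- both in one part, where the coordinates cancel
      rw [if_neg (S.ne_two h4 hb), if_neg (S.ne_two h4 (Finset.mem_erase.mp hi).2)] at hprod
      have h1 := (mul_eq_zero.mp hprod).resolve_left hgx
      have hzero : ∀ c : ι → ℤ, S.Coord c → c E = 0 → S.g x * c x = 0 := by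
        intro c hc hcE
        have h2 := hsame c hc
        obtain ⟨p1, p2⟩ := S.sum_part hs h4 hc
        rw [hcE, mul_zero, neg_zero] at p1
        rw [hcE, mul_zero] at p2
        by_cases a : S.d 0 ((2 : ℕ) : ZMod (2 * h)) x ≠ 0
        · have b' : S.d 0 ((2 : ℕ) : ZMod (2 * h)) y ≠ 0 := by
            by_contra b'; rw [if_pos a, if_neg (not_not.mpr b')] at h1; omega
          rw [show S.H0.filter (fun x => S.d 0 ((2 : ℕ) : ZMod (2 * h)) x ≠ 0) = {x, y} from
            (Finset.eq_of_subset_of_card_le (by exact Finset.insert_subset_iff.mpr ⟨Finset.mem_filter.mpr ⟨hx, a⟩, Finset.singleton_subset_iff.mpr (Finset.mem_filter.mpr ⟨hy, b'⟩)⟩)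
              (by rw [hs.card, Finset.card_pair hxy.symm])).symm, Finset.sum_pair hxy.symm] at p1
          omega
        · have b' : ¬ S.d 0 ((2 : ℕ) : ZMod (2 * h)) y ≠ 0 := by
            intro b'; rw [if_neg a, if_pos b'] at h1; omega
          rw [show S.H0.filter (fun x => ¬ S.d 0 ((2 : ℕ) : ZMod (2 * h)) x ≠ 0) = {x, y} from
            (Finset.eq_of_subset_of_card_le (by exact Finset.insert_subset_iff.mpr ⟨Finset.mem_filter.mpr ⟨hx, a⟩, Finset.singleton_subset_iff.mpr (Finset.mem_filter.mpr ⟨hy, b'⟩)⟩)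
              (by rw [S.card_part hs h4, Finset.card_pair hxy.symm])).symm, Finset.sum_pair hxy.symm] at p2
          omega
      have hgx' := (S.g_ne_zero_iff x).mpr hx
      exact S.not_both_zero hl hx ⟨(mul_eq_zero.mp (hzero _ S.coord_u hEu)).resolve_left hgx',
        (mul_eq_zero.mp (hzero _ S.coord_v hEv)).resolve_left hgx'⟩
    · refine hsecond (Or.inr ⟨rfl, h8⟩) ?_
      have hc := S.card_reps (e := 1) (by norm_num)
      rw [if_neg (by norm_num)] at hc
      rw [Finset.card_erase_of_mem hb]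
      omega

/-- The families live on the members without part in the second coordinates. -/
theorem fam_pure (hcase : S.l ≠ 1 ∨ ((∀ x ∈ S.H0, S.t x ^ 2 = 1) ∧ 8 ≤ h)) {e : ℕ}
    {b : ZMod (2 * h)} (hb : b ∈ S.reps e) (he : e = 0 ∧ b = ((2 : ℕ) : ZMod (2 * h)) ∨ e = 1)
    {i : ZMod (2 * h)} (hi : i ∈ (S.reps e).erase b) {x : ι} (hx : S.d i b x ≠ 0) :
    x ∈ S.pureSet := by
  have hoff : ∀ z ∈ S.H0, S.d i b z = 0 := fun z hz => S.fam_off h4 hs hcase hb he hi hz
  have hxH : x ∉ S.H0 := fun hm => hx (hoff x hm)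
  refine S.mem_pure.mpr ⟨hxH, ?_⟩
  by_contra hne
  have hX : x ∈ S.extra := S.mem_extra.mpr ⟨hxH, hne⟩
  have hip := (S.mem_reps.mp (Finset.mem_erase.mp hi).2).1.trans (S.mem_reps.mp hb).1.symm
  obtain ⟨p, q, hpq, hp, hq, hz⟩ := norm_two (S.norm_fam hb hi)
  obtain ⟨y, hxy, hy, hz'⟩ : ∃ y, y ≠ x ∧ (S.d i b y = 1 ∨ S.d i b y = -1) ∧
      ∀ z, z ≠ x → z ≠ y → S.d i b z = 0 := by
    by_cases hxp : x = p
    · exact ⟨q, hxp ▸ hpq.symm, hq, fun z h1 h2 => hz z (hxp ▸ h1) h2⟩
    · have hxq : x = q := by_contra fun hne' => hx (hz x hxp hne')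
      exact ⟨p, hxq ▸ hpq, hp, fun z h1 h2 => hz z h2 (hxq ▸ h1)⟩
  have hyH : y ∉ S.H0 := fun hm => by have := hoff y hm; omega
  have hsum : ∀ c : ι → ℤ, S.Coord c → S.d i b x * c x + S.d i b y * c y = 0 := by
    intro c hc
    have := hc.orth i b hip
    rwa [Finset.sum_eq_add x y hxy.symm (fun z _ hz'' => by rw [hz' z hz''.1 hz''.2, zero_mul])
      (fun hn => absurd (Finset.mem_univ _) hn) (fun hn => absurd (Finset.mem_univ _) hn)] at this
  obtain ⟨hcard, h2, h3⟩ := S.card_extra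
  have su := hsum _ S.coord_u
  have sv := hsum _ S.coord_v
  rcases S.shape with ⟨-, hu, hv⟩ | ⟨hl, -, -, -, hv, -⟩ | ⟨hl, -, -, -, -⟩
  · exact hne ⟨hu x, hv x⟩
  · have h1 : S.extra.card ≤ 1 := by omega
    have hyX : y ∉ S.extra := fun hm => hxy (Finset.card_le_one.mp h1 y hm x hX)
    have : S.u y = 0 := by_contra fun h0 => hyX (S.mem_extra.mpr ⟨hyH, fun h' => h0 h'.1⟩)
    rw [this, mul_zero, add_zero] at su
    exact hne ⟨(mul_eq_zero.mp su).resolve_left hx, hv x⟩
  · obtain ⟨hu1, hv1, hone, hboth⟩ := h3 hl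
    obtain ⟨hux, hvx⟩ := hboth x hX
    have huy : S.u y ≠ 0 := fun h0 => by
      rw [h0, mul_zero, add_zero] at su; exact mul_ne_zero hx hux su
    obtain ⟨-, hvy⟩ := hboth y (S.mem_extra.mpr ⟨hyH, fun h' => huy h'.1⟩)
    have hex : S.extra = {x, y} := (Finset.eq_of_subset_of_card_le (by
      intro z hz''
      simp only [Finset.mem_insert, Finset.mem_singleton] at hz''
      rcases hz'' with rfl | rfl
      · exact hX
      · exact S.mem_extra.mpr ⟨hyH, fun h' => huy h'.1⟩)
      (by rw [Finset.card_pair hxy.symm]; omega)).symm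
    have huv := S.u_v
    rw [← Finset.sum_subset (Finset.subset_univ S.extra) fun z _ hz'' => by
      by_cases hm : z ∈ S.H0
      · by_cases hu0 : S.u z = 0
        · rw [hu0, zero_mul]
        · rw [show S.v z = 0 from by_contra fun h0 => hu0 ((hone z hm).mpr h0), mul_zero]
      · rw [show S.u z = 0 from by_contra fun h0 =>
          hz'' (S.mem_extra.mpr ⟨hm, fun h' => h0 h'.1⟩), zero_mul], hex,
      Finset.sum_pair hxy.symm] at huv
    have hwx : S.d i b x = 1 ∨ S.d i b x = -1 := sq_one_of_le hx (by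
      have := Finset.single_le_sum (f := fun z => S.d i b z ^ 2) (fun z _ => sq_nonneg _)
        (Finset.mem_univ x)
      simp only [S.norm_fam hb hi] at this
      linarith)
    rcases hwx with a | a <;> rcases hy with b' | b' <;>
      rcases (hu1 x).resolve_left hux with c1 | c1 <;> rcases (hu1 y).resolve_left huy with c2 | c2 <;>
      rcases (hv1 x).resolve_left hvx with c3 | c3 <;> rcases (hv1 y).resolve_left hvy with c4 | c4 <;>
      rw [a, b', c1, c2] at su <;> rw [a, b', c3, c4] at sv <;> rw [c1, c2, c3, c4] at huv <;> omega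

/-- There are at least `h - 1` members without part in the second coordinates. -/
theorem pure_ge (hcase : S.l ≠ 1 ∨ ((∀ x ∈ S.H0, S.t x ^ 2 = 1) ∧ 8 ≤ h)) :
    h ≤ S.pureSet.card + 1 := by
  set two : ZMod (2 * h) := ((2 : ℕ) : ZMod (2 * h)) with htwo
  have h1 := S.one_mem_reps h4
  have h2 := S.two_mem_reps h4
  have hc0 := S.card_reps (e := 0) (by norm_num)
  have hc1 := S.card_reps (e := 1) (by norm_num)
  rw [if_pos rfl] at hc0
  rw [if_neg (by norm_num)] at hc1
  set I1 := (S.reps 1).erase 1 with hI1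
  set I0 := (S.reps 0).erase two with hI0
  set s1 := S.pureSet.filter fun x => ∃ i ∈ I1, S.d i 1 x ≠ 0 with hs1
  set s0 := S.pureSet.filter fun x => x = E ∨ ∃ i ∈ I0, S.d i two x ≠ 0 with hs0
  have hne1 : two ≠ 1 := fun he => by
    have := (S.mem_reps.mp h1).1; rw [← he, (S.mem_reps.mp h2).1] at this; omega
  have hoff1 : ∀ i ∈ I1, ∀ x ∉ s1, S.d i 1 x = 0 := fun i hi x hx => by_contra fun h0 =>
    hx (Finset.mem_filter.mpr ⟨S.fam_pure h4 hs hcase h1 (Or.inr rfl) hi h0, i, hi, h0⟩)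
  have hoff0 : ∀ i ∈ I0, ∀ x ∉ s0, S.d i two x = 0 := fun i hi x hx => by_contra fun h0 =>
    hx (Finset.mem_filter.mpr ⟨S.fam_pure h4 hs hcase h2 (Or.inl ⟨rfl, rfl⟩) hi h0, Or.inr ⟨i, hi, h0⟩⟩)
  have hEs : E ∈ s0 := Finset.mem_filter.mpr ⟨S.E_pure hs h4, Or.inl rfl⟩
  -- the odd indices
  have hodd : Fintype.card I1 + 1 ≤ s1.card := by
    have hne : I1.Nonempty := by
      rw [← Finset.card_pos, hI1, Finset.card_erase_of_mem h1]; omega
    obtain ⟨i₀, hi₀⟩ := hne
    obtain ⟨x₀, -, hx₀⟩ := Finset.exists_ne_zero_of_sum_ne_zero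
      (show ∑ x, S.d i₀ 1 x ^ 2 ≠ 0 by rw [S.norm_fam h1 hi₀]; norm_num)
    have hx₀' : S.d i₀ 1 x₀ ≠ 0 := fun h0 => hx₀ (by rw [h0]; norm_num)
    refine card_ge_of_gram s1 (fun i : I1 => S.d i 1) S.deg 0 (∑ x ∈ s1, S.deg x * S.deg x)
      (Or.inl ⟨rfl, ?_⟩) (fun m k => ?_) (fun m => ?_) rfl
    · refine Finset.sum_pos (fun x _ => mul_pos (S.deg_pos x) (S.deg_pos x)) ⟨x₀, ?_⟩
      exact by_contra fun hn => hx₀' (hoff1 i₀ hi₀ x₀ hn)
    · rw [Finset.sum_subset (Finset.subset_univ s1) fun x _ hx => by rw [hoff1 _ m.2 x hx, zero_mul],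
        S.sum_fam h1 m.2 k.2]
      by_cases hmk : m = k <;> simp [hmk]
    · rw [Finset.sum_subset (Finset.subset_univ s1) fun x _ hx => by rw [hoff1 _ m.2 x hx, zero_mul]]
      exact S.orth_deg _ _ ((S.mem_reps.mp (Finset.mem_erase.mp m.2).2).1.trans (S.mem_reps.mp h1).1.symm)
  -- the even indices
  have heE : ∀ i ∈ I0, S.d i two E = ε := by
    intro i hi
    have hp := S.sum_fam_two h4 h2 hi
    rw [if_pos rfl, Finset.sum_eq_single E (fun x _ hx => by
      by_cases hm : x ∈ S.H0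
      · rw [S.fam_off h4 hs hcase h2 (Or.inl ⟨rfl, rfl⟩) hi hm, zero_mul]
      · rw [(hs.off x hm hx).1, mul_zero]) (by simp), hs.atE.1] at hp
    rcases hs.sign with rfl | rfl <;> (rw [← htwo] at hp; omega)
  have heven : Fintype.card I0 + 1 ≤ s0.card := by
    refine card_ge_of_gram s0 (fun i : I0 => S.d i two) (fun x => if x = E then ε else 0) 1 1
      (Or.inr ⟨rfl, rfl⟩) (fun m k => ?_) (fun m => ?_) ?_
    · rw [Finset.sum_subset (Finset.subset_univ s0) fun x _ hx => by rw [hoff0 _ m.2 x hx, zero_mul],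
        S.sum_fam h2 m.2 k.2]
      by_cases hmk : m = k <;> simp [hmk]
    · simp only [mul_ite, mul_zero, Finset.sum_ite_eq', hEs, if_true, heE _ m.2]
      rcases hs.sign with rfl | rfl <;> norm_num
    · simp only [mul_ite, mul_zero, Finset.sum_ite_eq', hEs, if_true]
      rcases hs.sign with rfl | rfl <;> norm_num
  -- they are disjoint
  have hdisj : Disjoint s1 s0 := Finset.disjoint_left.mpr fun x hx hx' => by
    obtain ⟨-, i, hi, hix⟩ := Finset.mem_filter.mp hx
    have hiE : S.d i 1 E = 0 := by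
      have hp := S.sum_fam_two h4 h1 hi
      rw [if_neg hne1.symm, if_neg (fun he => by
        have := (S.mem_reps.mp (Finset.mem_erase.mp hi).2).1; rw [he, (S.mem_reps.mp h2).1] at this
        omega), Finset.sum_eq_single E (fun x _ hx => by
        by_cases hm : x ∈ S.H0
        · rw [S.fam_off h4 hs hcase h1 (Or.inr rfl) hi hm, zero_mul]
        · rw [(hs.off x hm hx).1, mul_zero]) (by simp), hs.atE.1] at hp
      rcases hs.sign with rfl | rfl <;> omega
    have hxE : x ≠ E := fun he => hix (he ▸ hiE)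
    obtain ⟨j, hj, hjx⟩ := (Finset.mem_filter.mp hx').2.resolve_left hxE
    have hz0 : ∀ z, z ≠ x → z ≠ E → S.d j two z = 0 := by
      obtain ⟨p, q, -, -, -, hz⟩ := norm_two (S.norm_fam h2 hj)
      intro z h1' h2'
      by_cases hpx : p = x
      · have hqE : q = E := by_contra fun hne => by
          have := hz E (by rw [hpx]; exact hxE.symm) (Ne.symm hne)
          rw [heE j hj] at this; rcases hs.sign with rfl | rfl <;> omega
        exact hz z (hpx ▸ h1') (hqE ▸ h2')
      · have hqx : q = x := by_contra fun hne => hjx (hz x (Ne.symm hpx) (Ne.symm hne))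
        have hpE : p = E := by_contra fun hne => by
          have := hz E (Ne.symm hne) (by rw [hqx]; exact hxE.symm)
          rw [heE j hj] at this; rcases hs.sign with rfl | rfl <;> omega
        exact hz z (hpE ▸ h2') (hqx ▸ h1')
    have hcross : ∑ z, S.d i 1 z * S.d j two z = 0 := by
      have hi' := (Finset.mem_erase.mp hi).2
      have hj' := (Finset.mem_erase.mp hj).2
      have key : ∀ a ∈ S.reps 1, ∀ c ∈ S.reps 0, br S.κ a c = 0 := fun a ha c hc => by
        have ha' := (S.mem_reps.mp ha).1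
        have hc' := (S.mem_reps.mp hc).1
        have n1 : a ≠ c := fun he => by rw [he] at ha'; omega
        have n2 : S.κ * a ≠ c := fun he => by
          have := S.kappa_par a; rw [he] at this; omega
        simp [br, n1, n2]
      rw [S.sum_d_mul ((S.mem_reps.mp hi').1.trans (S.mem_reps.mp h1).1.symm)
        ((S.mem_reps.mp hj').1.trans (S.mem_reps.mp h2).1.symm), key i hi' j hj', key i hi' two h2,
        key 1 h1 j hj', key 1 h1 two h2]
      ring
    rw [Finset.sum_eq_single x (fun z _ hzx => by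
      by_cases hzE : z = E
      · rw [hzE, hiE, zero_mul]
      · rw [hz0 z hzx hzE, mul_zero]) (by simp)] at hcross
    exact mul_ne_zero hix hjx hcross
  have := Finset.card_le_card
    (show s1 ∪ s0 ⊆ S.pureSet from Finset.union_subset (Finset.filter_subset _ _) (Finset.filter_subset _ _))
  rw [Finset.card_union_of_disjoint hdisj] at this
  rw [Fintype.card_coe, hI1, Finset.card_erase_of_mem h1] at hodd
  rw [Fintype.card_coe, hI0, Finset.card_erase_of_mem h2] at heven
  omega

omit hs h4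

end Data

end Cfsg.Agent.BC84.Tame
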