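import Cfsg.Agent.BC84.Tame.Group
import Cfsg.Agent.BC84.Tame.Classes
import Cfsg.Agent.BC85.Pairs.NilpotentFusion
import Cfsg.Agent.BC85.Pairs.AbelianInertia
import Cfsg.Agent.BC85.Star.Nilpotent
import Cfsg.Agent.ZStar.DihedralBlock.Sections
import Cfsg.Agent.Lib.Fusion.Saturation
import Mathlib.GroupTheory.SpecificGroups.Cyclic

/-!
# The rotations of a semidihedral or quaternion defect group
-/

set_option autoImplicit false
set_option linter.unusedSectionVars false

namespace Cfsg.Agent.BC84.Tame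

open BlocksCore BlocksDefect BC85 BC85.Star BC84.Dihedral

universe u

variable {G : Type u} [Group G]

theorem isPGroup_aut_zpowers [Finite G] {y : G} {m : ℕ} (hy : orderOf y ∣ 2 ^ m) :
    IsPGroup 2 (MulAut (Subgroup.zpowers y)) := by
  obtain ⟨k, -, hk⟩ := (Nat.dvd_prime_pow Nat.prime_two).mp hy
  rcases k with _ | k
  · refine IsPGroup.of_card (n := 0) ?_
    rw [Nat.card_congr (IsCyclic.mulAutMulEquiv (Subgroup.zpowers y)).toEquiv, Nat.card_zpowers, hk,
      pow_zero]
    simp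
  · refine IsPGroup.of_card (n := k) ?_
    rw [Nat.card_congr (IsCyclic.mulAutMulEquiv (Subgroup.zpowers y)).toEquiv, Nat.card_zpowers, hk]
    have : NeZero (2 ^ (k + 1)) := ⟨pow_ne_zero _ two_ne_zero⟩
    rw [Nat.card_eq_fintype_card, ZMod.card_units_eq_totient,
      Nat.totient_prime_pow Nat.prime_two (Nat.succ_pos k)]
    simp

/-- An element of odd order normalizing a cyclic two-group centralizes it. -/
theorem centralizes_of_cyclic [Finite G] {Q : Subgroup G} (hQ : IsPGroup 2 Q) (hc : IsCyclic Q)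
    {x : G} (hxN : x ∈ Subgroup.normalizer (Q : Set G)) (hx : ¬ 2 ∣ orderOf x) :
    x ∈ Subgroup.centralizer (Q : Set G) := by
  obtain ⟨⟨y, hy⟩, hgen⟩ := hc.exists_generator
  have hQy : Q = Subgroup.zpowers y := le_antisymm (fun w hw => by
    obtain ⟨k, hk⟩ := Subgroup.mem_zpowers_iff.mp (hgen ⟨w, hw⟩)
    exact Subgroup.mem_zpowers_iff.mpr ⟨k, congrArg Subtype.val hk⟩) (Subgroup.zpowers_le.mpr hy)
  obtain ⟨m, hm⟩ := IsPGroup.iff_orderOf.mp hQ ⟨y, hy⟩
  rw [Subgroup.orderOf_mk] at hm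
  subst hQy
  have := Fintype.ofFinite G
  set A := Subgroup.zpowers y
  have hsame : A.map (MulAut.conj x).toMonoidHom = A :=
    BC85.map_conj_of_mem_normalizer hxN
  let α : MulAut A := ((MulAut.conj x).subgroupMap A).trans (MulEquiv.subgroupCongr hsame)
  have hpow : ∀ (i : ℕ) (a : A), (((α ^ i) a : A) : G) = x ^ i * a * (x ^ i)⁻¹ := by
    intro i
    induction i with
    | zero => intro a; simp
    | succ i ih =>
      intro a
      rw [pow_succ', MulAut.mul_apply]
      show x * ((α ^ i) a : G) * x⁻¹ = _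
      rw [ih, pow_succ']; group
  have hα1 : α ^ orderOf x = 1 := MulEquiv.ext fun a => Subtype.ext (by
    rw [hpow, pow_orderOf_eq_one]; simp)
  obtain ⟨k, hk⟩ := IsPGroup.iff_orderOf.mp (isPGroup_aut_zpowers (y := y) (m := m) hm.dvd) α
  have hαone : α = 1 := by
    rw [← orderOf_eq_one_iff]
    refine Nat.Coprime.eq_one_of_dvd ?_ (orderOf_dvd_of_pow_eq_one hα1)
    rw [hk]
    exact Nat.Coprime.pow_left _ ((Nat.prime_two.coprime_iff_not_dvd).mpr hx)
  refine Subgroup.mem_centralizer_iff.mpr fun w hw => ?_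
  have := hpow 1 ⟨w, hw⟩
  rw [hαone, one_pow, pow_one] at this
  exact (mul_inv_eq_iff_eq_mul.mp this.symm).symm

namespace TameData

variable {D : Subgroup G} {r : G} {h : ℕ} {κ : ZMod (2 * h)} (S : TameData D r h κ)
include S

theorem isPGroup : IsPGroup 2 D := by
  obtain ⟨a, -, ha⟩ := S.pow
  refine IsPGroup.of_card (n := a + 2) ?_
  rw [S.card, ha]; ring

theorem half_mul_two : ((h / 2 : ℕ) : ZMod (2 * h)) * 2 = ((h : ℕ) : ZMod (2 * h)) := by
  obtain ⟨a, ha, hh⟩ := S.pow
  have h2 : 2 ∣ h := hh ▸ dvd_pow_self 2 (show a ≠ 0 by omega)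
  rw [show (2 : ZMod (2 * h)) = ((2 : ℕ) : ZMod (2 * h)) from rfl, ← Nat.cast_mul,
    Nat.div_mul_cancel h2]

theorem quarter_ne : ((h / 2 : ℕ) : ZMod (2 * h)) ≠ 0 ∧
    ((h / 2 : ℕ) : ZMod (2 * h)) ≠ ((h : ℕ) : ZMod (2 * h)) := by
  refine ⟨fun he => S.half_ne_zero ?_, fun he => S.half_ne_zero ?_⟩
  · rw [← S.half_mul_two, he, zero_mul]
  · rw [← S.half_mul_two, he, mul_comm _ (2 : ZMod (2 * h)), S.two_mul_half]

/-- Every rotation of order more than two generates a group containing the one of order four. -/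
theorem quarter_mem {c : ZMod (2 * h)} (h0 : c ≠ 0) (hh : c ≠ ((h : ℕ) : ZMod (2 * h))) :
    (S.rot ((h / 2 : ℕ) : ZMod (2 * h)) : G) ∈ Subgroup.zpowers (S.rot c : G) := by
  have := S.neZero
  obtain ⟨a, ha, hha⟩ := S.pow
  have hc0 : c.val ≠ 0 := fun he => h0 ((ZMod.val_eq_zero c).mp he)
  obtain ⟨k, o, ho, hko⟩ := Nat.exists_eq_two_pow_mul_odd hc0
  have hpow : c.val < 2 ^ (a + 1) := by
    have := ZMod.val_lt c
    rw [pow_succ', ← hha]; exact this
  have hk : k ≤ a - 1 := by
    by_contra hlt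
    have hka : k = a ∨ a + 1 ≤ k := by omega
    rcases hka with hka | hka
    · refine hh ?_
      have ho1 : o = 1 := by
        obtain ⟨w, hw⟩ := ho
        rcases w with _ | w
        · simpa using hw
        · exfalso
          rw [hko, hka, hw, pow_succ] at hpow
          have : 2 ^ a * 2 ≤ 2 ^ a * (2 * (w + 1) + 1) := Nat.mul_le_mul_left _ (by omega)
          omega
      rw [← ZMod.natCast_zmod_val c, hko, hka, ho1, mul_one, ← hha]
    · have h1 : 2 ^ (a + 1) ≤ c.val := by
        rw [hko]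
        exact le_trans (Nat.pow_le_pow_right two_pos hka) (Nat.le_mul_of_pos_right _ ho.pos)
      omega
  have hcop : Nat.Coprime o (2 ^ (a + 1)) :=
    (ho.coprime_two_right).pow_right _
  obtain ⟨i, -, hi⟩ := Nat.exists_mul_mod_eq_one_of_coprime hcop (by
    rw [pow_succ]; have := Nat.one_le_two_pow (n := a); omega)
  refine Subgroup.mem_zpowers_iff.mpr ⟨((i * 2 ^ (a - 1 - k) : ℕ) : ℤ), ?_⟩
  show (r ^ c.val) ^ (((i * 2 ^ (a - 1 - k) : ℕ) : ℤ)) = _
  rw [zpow_natCast, ← pow_mul, S.rot_natCast, pow_eq_pow_iff_modEq, S.order, hko,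
    show h / 2 = 2 ^ (a - 1) by
      rw [hha, show a = a - 1 + 1 by omega, pow_succ, Nat.mul_div_cancel _ two_pos]; simp,
    show 2 ^ k * o * (i * 2 ^ (a - 1 - k)) = 2 ^ (a - 1) * (o * i) by
      rw [show 2 ^ (a - 1) = 2 ^ k * 2 ^ (a - 1 - k) by rw [← pow_add]; congr 1; omega]; ring,
    show 2 * h = 2 ^ (a + 1) by rw [hha, pow_succ'], Nat.ModEq, Nat.mul_mod, hi, mul_one,
    Nat.mod_mod]

/-- An element of order more than two that is central in `D` does not exist. -/
theorem centralizer_lt {v : G} (hv : v ∈ D) (h2 : v * v ≠ 1) :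
    2 * Nat.card (D ⊓ Subgroup.centralizer ({v} : Set G) : Subgroup G) ≤ Nat.card D := by
  have hdvd := Subgroup.card_dvd_of_le
    (inf_le_left : D ⊓ Subgroup.centralizer ({v} : Set G) ≤ D)
  obtain ⟨k, hk⟩ := hdvd
  rcases k with _ | _ | k
  · have := S.card; have := S.two_le; omega
  · exfalso
    have hne : D ⊓ Subgroup.centralizer ({v} : Set G) = D := by
      have := finite_of_card_pos S
      exact Subgroup.eq_of_le_of_card_ge inf_le_left (le_of_eq (by rw [hk]; simp))
    have hcomm : ∀ x ∈ D, x * v * x⁻¹ = v := fun x hx => by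
      rw [← hne] at hx
      exact mul_inv_eq_iff_eq_mul.mpr (Subgroup.mem_centralizer_singleton_iff.mp hx.2)
    obtain ⟨t, ht, htr⟩ := S.exists_refl
    by_cases hvr : v ∈ Subgroup.zpowers r
    · obtain ⟨c, rfl⟩ := S.exists_rot hvr
      have h1 := (S.conj_rot_refl ht htr c).symm.trans (hcomm t ht)
      rcases S.kappa_fix (S.rot_injective (Subtype.ext h1)) with rfl | rfl
      · exact h2 (by rw [S.rot_zero]; simp)
      · exact h2 (by rw [S.rot_half]; exact S.pow_mul_self)
    · have h1 := S.conj_rot_refl hv hvr 1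
      have hr := hcomm _ (S.rot (1 : ZMod (2 * h))).2
      rw [mul_inv_eq_iff_eq_mul] at hr
      rw [mul_inv_eq_iff_eq_mul.mpr hr.symm, mul_one] at h1
      have hk1 : κ = 1 := (S.rot_injective (Subtype.ext h1)).symm
      obtain ⟨w, hw⟩ := S.kappa_two
      rw [hk1, sub_self, zero_mul] at hw
      exact S.half_ne_zero (by rw [← S.half_mul_two, ← hw, mul_zero])
  · rw [hk, mul_comm 2]
    exact Nat.mul_le_mul_left _ (by omega)
where
  finite_of_card_pos {D : Subgroup G} {r : G} {h : ℕ} {κ : ZMod (2 * h)}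
      (S : TameData D r h κ) : Finite D :=
    Nat.finite_of_card_ne_zero (by rw [S.card]; have := S.two_le; omega)

end TameData

variable [Fintype G] [Fact (Nat.Prime 2)] {M : Ideal AlgInt} [hP : M.IsPrime]
  (hM : IsPModular 2 M) {B : Set (IrrCharacter G)} {D : Subgroup G}
  {e : Set (IrrCharacter (Subgroup.centralizer (D : Set G)))}
  (hmax : IsMaximalBrauerPair 2 M B D e) {r : G} {h : ℕ} {κ : ZMod (2 * h)}
  (S : TameData D r h κ)
include hM hmax S

theorem fullyCentralized_quarter :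
    (blockFusion hM hmax.1.1).IsFullyCentralized
      (Subgroup.zpowers (S.rot ((h / 2 : ℕ) : ZMod (2 * h)) : G)) := by
  set u : G := (S.rot ((h / 2 : ℕ) : ZMod (2 * h)) : G) with hu
  obtain ⟨hu0, huh⟩ := S.quarter_ne
  have huu : u * u ≠ 1 := fun he => S.half_ne_zero <| S.rot_injective <| Subtype.ext <| by
    rw [← S.half_mul_two, mul_two, S.rot_add, Subgroup.coe_mul, ← hu, he, S.rot_zero]; rfl
  refine ⟨Subgroup.zpowers_le.mpr (S.rot _).2, fun R hR => ?_⟩
  obtain ⟨φ, hφ, rfl⟩ := hR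
  have hinj := (blockFusion hM hmax.1.1).injective_of_mem hφ
  set g : Subgroup.zpowers u := ⟨u, Subgroup.mem_zpowers u⟩
  have hg2 : φ g * φ g ≠ 1 := fun he => huu (congrArg Subtype.val
    (hinj (by rw [map_mul, map_one]; exact he) : g * g = 1))
  have hle := S.centralizer_lt (((blockFusion hM hmax.1.1).le_of_mem hφ).2 g) hg2
  rw [FusionSystem.centralizerIn, FusionSystem.centralizerIn]
  have h1 : D ⊓ Subgroup.centralizer ((φ.range : Subgroup G) : Set G) ≤
      D ⊓ Subgroup.centralizer ({φ g} : Set G) :=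
    inf_le_inf_left _ (Subgroup.centralizer_le (by rintro _ rfl; exact ⟨g, rfl⟩))
  have h2 : D ⊓ Subgroup.centralizer ((Subgroup.zpowers u : Subgroup G) : Set G) =
      Subgroup.zpowers r := by
    rw [BlocksCore.centralizer_zpowers]; exact S.centralizer_inf hu0 huh
  rw [h2, S.card_rot]
  have h3 := Subgroup.card_le_of_le h1
  have := S.card
  omega

/-- The rotations are only fused to their images under the action. -/
theorem not_fused_rot {c c' : ZMod (2 * h)} (hc : c ≠ 0) (hne : c' ≠ c) (hne' : c' ≠ κ * c) :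
    ¬ Fused hM hmax (S.rot c) (S.rot c') := by
  rintro ⟨g, hg, hg'⟩
  set y := (S.rot c : G) with hy
  set y' := (S.rot c' : G) with hy'
  have hyr : y ∈ Subgroup.zpowers r := S.rot_mem c
  have hyr' : y' ∈ Subgroup.zpowers r := S.rot_mem c'
  have hord : orderOf y = orderOf y' := by rw [← hg, orderOf_conjugate]
  have heq : Subgroup.zpowers y' = Subgroup.zpowers y :=
    ZStar.Dih.zpowers_eq_of_orderOf_eq hyr' hyr hord.symm
  have hsame : atBelow hM hmax (S.rot c') = atBelow hM hmax (S.rot c) :=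
    below_ext hM hmax (atBelow_le hM hmax _) (atBelow_le hM hmax _) heq
  rw [hsame] at hg'
  have hstab : g ∈ stabT (Subgroup.zpowers y) (atBelow hM hmax (S.rot c)).2 :=
    conjPair_eq_self_iff.mp hg'
  have hF := isBlockFusionSystemOn_blockFusion hM hmax
  have hQD : Subgroup.zpowers y ≤ D := Subgroup.zpowers_le.mpr (S.rot c).2
  have hnorm : D ≤ Subgroup.normalizer ((Subgroup.zpowers y : Subgroup G) : Set G) := by
    intro x hx
    refine Subgroup.mem_normalizer_iff.mpr fun w => ?_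
    have hconj : ∀ v : G, v ∈ D → ∀ w ∈ Subgroup.zpowers y, v * w * v⁻¹ ∈ Subgroup.zpowers y := by
      intro v hv w hw
      obtain ⟨k, rfl⟩ := Subgroup.mem_zpowers_iff.mp hw
      rw [← conj_zpow]
      refine Subgroup.zpow_mem _ ?_ k
      rcases S.conj_rot hv c with he | he
      · rw [he]; exact Subgroup.mem_zpowers y
      · rw [he, show Subgroup.zpowers y = Subgroup.zpowers ((S.rot (κ * c) : G)) from ?_]
        · exact Subgroup.mem_zpowers _
        · refine (ZStar.Dih.zpowers_eq_of_orderOf_eq (S.rot_mem _) hyr ?_).symm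
          rw [← he, orderOf_conjugate]
    refine ⟨hconj x hx w, fun hw => ?_⟩
    have := hconj x⁻¹ (inv_mem hx) _ hw
    simpa [mul_assoc] using this
  have hfn : (blockFusion hM hmax.1.1).IsFullyNormalized (Subgroup.zpowers y) := by
    refine ⟨hQD, fun R _ => ?_⟩
    rw [FusionSystem.normalizerIn, FusionSystem.normalizerIn, inf_eq_left.mpr hnorm]
    exact Subgroup.card_le_of_le inf_le_left
  obtain ⟨-, R, hR⟩ := Fusion.fullyAutomized_of_fullyNormalized hmax.1.1.1
    (blockFusion_isSaturated hM hF) hfn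
  have hgN : g ∈ Subgroup.normalizer ((Subgroup.zpowers y : Subgroup G) : Set G) := hstab.1
  set α := Fusion.conjAutHom ⊤ (Subgroup.zpowers y) ⟨g, trivial, hgN⟩ with hα
  have hαmem : α ∈ (blockFusion hM hmax.1.1).autGroup (Subgroup.zpowers y) := by
    rw [autGroup_eq hM hF (Q := Subgroup.zpowers y) (f := (atBelow hM hmax (S.rot c)).2)
      (atBelow_le hM hmax (S.rot c)), Fusion.mem_autInducedBy]
    exact ⟨g, hstab, fun q => rfl⟩
  obtain ⟨a, -, ha⟩ := S.pow
  have haut : IsPGroup 2 (MulAut (Subgroup.zpowers y)) := isPGroup_aut_zpowers (m := a + 1) <| by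
    rw [pow_succ', ← ha, ← S.card_rot, ← Nat.card_zpowers]
    exact Subgroup.card_dvd_of_le (Subgroup.zpowers_le.mpr hyr)
  have htop : (R : Subgroup ((blockFusion hM hmax.1.1).autGroup (Subgroup.zpowers y))) = ⊤ :=
    (R.is_maximal' ((haut.to_subgroup _).to_subgroup ⊤) le_top).symm
  have hin : (⟨α, hαmem⟩ : (blockFusion hM hmax.1.1).autGroup (Subgroup.zpowers y)) ∈
      (R : Subgroup ((blockFusion hM hmax.1.1).autGroup (Subgroup.zpowers y))) := by
    rw [htop]; exact Subgroup.mem_top _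
  rw [hR, Subgroup.mem_subgroupOf] at hin
  obtain ⟨t, ht, htt⟩ := Fusion.mem_autInducedBy.mp hin
  have h1 : g * y' * g⁻¹ = t * y' * t⁻¹ := htt ⟨y', heq ▸ Subgroup.mem_zpowers y'⟩
  rw [show g * y' * g⁻¹ = y from hg] at h1
  rcases S.conj_rot ht c' with he | he
  · rw [he] at h1
    exact hne (S.rot_injective (Subtype.ext h1.symm))
  · rw [he] at h1
    refine hne' ?_
    rw [S.rot_injective (Subtype.ext h1 : S.rot c = S.rot (κ * c')), S.kappa_kappa]

end Cfsg.Agent.BC84.Tame
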