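import Cfsg.Agent.BC84.Tame.LocalColumns
import Cfsg.Agent.BC84.Tame.Rotations
import Cfsg.Agent.BC84.Tame.Fourier
import Cfsg.Agent.BC84.Dihedral.CentralDefect
import Cfsg.Agent.BC84.MajorTwo

/-!
# The columns at the rotations
-/

set_option autoImplicit false
set_option linter.unusedSectionVars false
set_option linter.style.haveILetI false

namespace Cfsg.Agent.BC84.Tame

open BlocksCore BlocksDefect BC85 BC85.Star BC84.Dihedral
open scoped Classical ComplexConjugate
open ZMod (stdAddChar)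

universe u

/-- An irreducible character of an abelian group has degree one and is multiplicative. -/
theorem irr_mul_of_comm {A : Type*} [Group A] [Fintype A] (hA : ∀ a b : A, a * b = b * a)
    (θ : IrrCharacter A) : (θ : A → ℂ) 1 = 1 ∧
      ∀ a b, (θ : A → ℂ) (a * b) = (θ : A → ℂ) a * (θ : A → ℂ) b := by
  have hcen : ∀ a : A, a ∈ Subgroup.center A := fun a => Subgroup.mem_center_iff.mpr fun b => hA b a
  have hd := irr_one_ne_zero θ
  have hmul : ∀ a b, (θ : A → ℂ) (a * b) * (θ : A → ℂ) 1 = (θ : A → ℂ) a * (θ : A → ℂ) b :=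
    fun a b => by rw [apply_mul_of_center θ (hcen b), cval]; field_simp
  have h1 : (θ : A → ℂ) 1 = 1 := by
    have hN : (Nat.card A : ℂ) ≠ 0 := Nat.cast_ne_zero.mpr Nat.card_pos.ne'
    have h := CharCore.classInner_irr_self θ
    rw [classInner, inv_mul_eq_one₀ hN, Finset.sum_congr rfl fun a _ => by
      rw [← CharCore.IsCharacter.apply_inv (CharCore.irr_isCharacter θ), ← hmul, mul_inv_cancel],
      Finset.sum_const, Finset.card_univ, nsmul_eq_mul, Nat.card_eq_fintype_card] at h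
    have hsq : (θ : A → ℂ) 1 * (θ : A → ℂ) 1 = 1 := by
      rw [Nat.card_eq_fintype_card] at hN
      exact mul_left_cancel₀ hN (by rw [mul_one]; exact h.symm)
    rcases mul_self_eq_one_iff.mp hsq with h' | h'
    · exact h'
    · exfalso
      rw [irr_one_eq] at h'
      have := congrArg Complex.re h'
      simp only [Complex.natCast_re, Complex.neg_re, Complex.one_re] at this
      linarith [(Nat.cast_nonneg _ : (0 : ℝ) ≤ (charDegree (θ : A → ℂ) : ℝ))]
  exact ⟨h1, fun a b => by have := hmul a b; rwa [h1, mul_one] at this⟩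

theorem exists_exp {N : ℕ} [NeZero N] {f : ZMod N → ℂ} (h0 : f 0 = 1)
    (hadd : ∀ a b, f (a + b) = f a * f b) : ∃ m : ZMod N, ∀ c, f c = stdAddChar (m * c) := by
  have hex : ∃ j : ZMod N, ∑ c, f c * stdAddChar (-(c * j)) ≠ 0 := by
    by_contra hn
    push Not at hn
    have h1 : ∑ j : ZMod N, ∑ c, f c * stdAddChar (-(c * j)) = (N : ℂ) := by
      rw [Finset.sum_comm, Finset.sum_eq_single 0]
      · simp [h0]
      · intro c _ hc
        rw [← Finset.mul_sum, Finset.sum_congr rfl (g := fun j => (stdAddChar (j * -c) : ℂ))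
          fun j _ => by congr 1; ring, sum_char_mul, if_neg (neg_ne_zero.mpr hc), mul_zero]
      · simp
    rw [Finset.sum_eq_zero fun j _ => hn j] at h1
    exact NeZero.ne N (Nat.cast_eq_zero.mp h1.symm)
  obtain ⟨j, hj⟩ := hex
  refine ⟨j, fun c => ?_⟩
  set T := ∑ d, f d * (stdAddChar (-(d * j)) : ℂ) with hT
  have h2 : T = f c * stdAddChar (-(c * j)) * T := by
    conv_lhs => rw [hT]
    rw [hT, Finset.mul_sum]
    refine (Fintype.sum_equiv (Equiv.addLeft c) _ _ fun d => ?_).symm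
    rw [Equiv.coe_addLeft, hadd, add_mul, neg_add, AddChar.map_add_eq_mul]
    ring
  have h3 : f c * stdAddChar (-(c * j)) = 1 := mul_right_cancel₀ hj (by rw [one_mul]; exact h2.symm)
  have h4 : (stdAddChar (-(c * j)) : ℂ) * stdAddChar (j * c) = 1 := by
    rw [← AddChar.map_add_eq_mul, show -(c * j) + j * c = 0 by ring, AddChar.map_zero_eq_one]
  calc f c = f c * ((stdAddChar (-(c * j)) : ℂ) * stdAddChar (j * c)) := by rw [h4, mul_one]
    _ = stdAddChar (j * c) := by rw [← mul_assoc, h3, one_mul]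

variable {G : Type u} [Group G] [Fintype G]

section Scale

variable {p : ℕ} [Fact p.Prime] {M : Ideal AlgInt} [hP : M.IsPrime] {hM : IsPModular p M}
  {B : Set (IrrCharacter G)} {P : Subgroup G}
  {e : Set (IrrCharacter (Subgroup.centralizer (P : Set G)))}
  {hmax : IsMaximalBrauerPair p M B P e}

theorem isColumn_scale {v : P} {T : IrrCharacter G → ℂ} {Q : G → ℂ} {m : ℕ}
    (hcol : IsColumn hM hmax v T Q m) {w : ℂ} (hw : w * conj w = 1) :
    IsColumn hM hmax v (fun χ => w * T χ) (fun s => conj w * Q s) m where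
  proj_eq := fun χ hχ s hs => by
    rw [hcol.proj_eq χ hχ s hs]; linear_combination -(T χ * Q s) * hw
  sum_sq := by
    rw [← hcol.sum_sq]
    exact Finset.sum_congr rfl fun χ _ => by rw [map_mul]; linear_combination (T χ * conj (T χ)) * hw
  weight := by
    rw [← hcol.weight]
    congr 1
    exact Finset.sum_congr rfl fun s _ => by
      rw [map_mul, Complex.conj_conj]; linear_combination (Q s * conj (Q s)) * hw

end Scale

variable [Fact (Nat.Prime 2)] {M : Ideal AlgInt} [hP : M.IsPrime]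

/-- What the columns at the rotations give. -/
structure RotCols (hM : IsPModular 2 M) {B : Set (IrrCharacter G)} {D : Subgroup G}
    {e : Set (IrrCharacter (Subgroup.centralizer (D : Set G)))}
    (hmax : IsMaximalBrauerPair 2 M B D e) {r : G} {h : ℕ} [NeZero (2 * h)] {κ : ZMod (2 * h)}
    (S : TameData D r h κ) (Θ : IrrCharacter G → ZMod (2 * h) → ℂ)
    (A : IrrCharacter G → ZMod (2 * h) → ℕ) : Prop where
  symm : ∀ χ ∈ B, ∀ c, Θ χ (κ * c) = Θ χ c
  coeff : ∀ χ j, ((2 * h : ℕ) : ℂ) * (A χ j : ℂ) =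
    ∑ c : ZMod (2 * h), Θ χ c * stdAddChar (-(c * j))
  col : ∀ c : ZMod (2 * h), c ≠ 0 → c ≠ ((h : ℕ) : ZMod (2 * h)) →
    ∃ Q, IsColumn hM hmax (S.rot c) (fun χ => Θ χ c) Q (2 * h)
  nilp : ∀ c : ZMod (2 * h), c ≠ 0 → c ≠ ((h : ℕ) : ZMod (2 * h)) →
    blockRank 2 (atBelow hM hmax (S.rot c)).2 = 1

theorem exists_rotCols (hM : IsPModular 2 M) {B : Set (IrrCharacter G)} {D : Subgroup G}
    {e : Set (IrrCharacter (Subgroup.centralizer (D : Set G)))}
    (hmax : IsMaximalBrauerPair 2 M B D e) {r : G} {h : ℕ} [NeZero (2 * h)] {κ : ZMod (2 * h)}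
    (S : TameData D r h κ) : ∃ Θ A, RotCols hM hmax S Θ A := by
  set q : ZMod (2 * h) := ((h / 2 : ℕ) : ZMod (2 * h)) with hq
  obtain ⟨hq0, hqh⟩ := S.quarter_ne
  set u : D := S.rot q with hu
  obtain ⟨e', hmax', hlift⟩ := exists_local_max hM hmax u (fullyCentralized_quarter hM hmax S)
  have hDK : D ⊓ Subgroup.centralizer ((Subgroup.zpowers (u : G) : Subgroup G) : Set G) =
      Subgroup.zpowers r := by
    rw [BlocksCore.centralizer_zpowers]; exact S.centralizer_inf hq0 hqh
  have hrK : ∀ y ∈ Subgroup.zpowers r,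
      y ∈ Subgroup.centralizer ((Subgroup.zpowers (u : G) : Subgroup G) : Set G) :=
    fun y hy => (hDK.symm.le hy).2
  have hcyc : IsCyclic (locD D (u : G)) := by
    refine (MulEquiv.isCyclic (Subgroup.subgroupOfEquivOfLe inf_le_right)).mpr ?_
    rw [hDK]
    infer_instance
  have hnil : IsNilpotentBlock 2 M (locB hM hmax u) :=
    isNilpotentBlock_of_below hM hmax' fun Q _ hQ x hx hreg => by
      have hle := subpairLE_le hQ
      have : IsCyclic Q := isCyclic_of_injective (Subgroup.inclusion hle) (Subgroup.inclusion_injective hle)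
      exact centralizes_of_cyclic (hmax'.1.1.1.to_le hle) this hx.1 hreg
  set K := Subgroup.centralizer ((Subgroup.zpowers (u : G) : Subgroup G) : Set G) with hK
  obtain ⟨η₀, Θ', Q', hη₀, h0, hchar, hcol, hmem, hQp, hval⟩ :=
    exists_local_columns' hM hmax u hmax' hlift hnil
  -- the rotations inside the centralizer of `u`
  let ρ : Multiplicative (ZMod (2 * h)) →* locD D (u : G) :=
    { toFun := fun c => ⟨⟨(S.rot c.toAdd : G), hrK _ (S.rot_mem _)⟩,
        ⟨(S.rot c.toAdd).2, hrK _ (S.rot_mem _)⟩⟩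
      map_one' := Subtype.ext (Subtype.ext (by
        show ((S.rot (Multiplicative.toAdd (1 : Multiplicative (ZMod (2 * h))))) : G) = 1
        rw [toAdd_one, S.rot_zero]; rfl))
      map_mul' := fun a b => Subtype.ext (Subtype.ext (by
        show ((S.rot (Multiplicative.toAdd (a * b))) : G) = _
        rw [toAdd_mul, S.rot_add]; rfl)) }
  set x : ZMod (2 * h) → locD D (u : G) := fun c => ρ (Multiplicative.ofAdd c) with hx
  have hto : ∀ c, toD (x c) = S.rot c := fun c => rfl
  have hmemx : ∀ c, c ≠ 0 → c ≠ ((h : ℕ) : ZMod (2 * h)) →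
      (u : G) ∈ Subgroup.zpowers (toD (x c) : G) := fun c h1 h2 => S.quarter_mem h1 h2
  have hcomm : ∀ a b : locD D (u : G), a * b = b * a := by
    let _ := hcyc.commGroup
    exact fun a b => mul_comm a b
  have hm : ∀ c, Nat.card (Subgroup.centralizer ({x c} : Set (locD D (u : G)))) = 2 * h := fun c => by
    rw [show Subgroup.centralizer ({x c} : Set (locD D (u : G))) = ⊤ from
      eq_top_iff.mpr fun a _ => Subgroup.mem_centralizer_singleton_iff.mpr (hcomm _ _),
      Subgroup.card_top, locD, Nat.card_congr (Subgroup.subgroupOfEquivOfLe inf_le_right).toEquiv,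
      hDK, S.card_rot]
  have hcol' : ∀ c, c ≠ 0 → c ≠ ((h : ℕ) : ZMod (2 * h)) →
      IsColumn hM hmax (S.rot c) (fun χ => Θ' χ (x c)) (Q' (x c)) (2 * h) := fun c h1 h2 => by
    have := hcol (x c) (hmemx c h1 h2)
    rwa [hto, hm] at this
  -- conjugation by an element outside
  obtain ⟨t, ht, htr⟩ := S.exists_refl
  have htu : t * (u : G) * t⁻¹ = (u : G)⁻¹ := by
    rw [hu, S.conj_rot_refl ht htr]
    have h1 : 2 * (κ * q - q) = 0 := by
      have e1 : q * 2 = ((h : ℕ) : ZMod (2 * h)) := S.half_mul_two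
      linear_combination (κ - 1) * e1 + S.kappa_half
    rcases S.two_mul_eq_zero h1 with h2 | h2
    · exact absurd (S.kappa_fix (sub_eq_zero.mp h2)) (not_or.mpr ⟨hq0, hqh⟩)
    · rw [← Subgroup.coe_inv, ← S.rot_neg]
      congr 2
      have e1 : q * 2 = ((h : ℕ) : ZMod (2 * h)) := S.half_mul_two
      linear_combination h2 + e1 + S.two_mul_half
  have hzt : (Subgroup.zpowers (u : G)).map (MulAut.conj t).toMonoidHom = Subgroup.zpowers (u : G) := by
    rw [MonoidHom.map_zpowers, show (MulAut.conj t).toMonoidHom (u : G) = (u : G)⁻¹ from htu,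
      Subgroup.zpowers_inv]
  have hpairu : conjPair t (atBelow hM hmax u) = atBelow hM hmax u := by
    rw [show conjPair t (atBelow hM hmax u) = atBelow hM hmax (⟨t, ht⟩ * u * ⟨t, ht⟩⁻¹) from
      conj_atBelow hM hmax u ⟨t, ht⟩]
    refine below_ext hM hmax (atBelow_le hM hmax _) (atBelow_le hM hmax _) ?_
    show Subgroup.zpowers (t * (u : G) * t⁻¹) = Subgroup.zpowers (u : G)
    rw [htu, Subgroup.zpowers_inv]
  have hKt : ∀ k : G, k ∈ K ↔ t * k * t⁻¹ ∈ K := fun k => by
    simp only [hK, BlocksCore.centralizer_zpowers, Subgroup.mem_centralizer_singleton_iff]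
    constructor
    · intro hk
      have h1 : Commute k (u : G) := hk
      have h2 := (h1.inv_right).map (MulAut.conj t).toMonoidHom
      change Commute (t * k * t⁻¹) (t * (u : G)⁻¹ * t⁻¹) at h2
      rw [show t * (u : G)⁻¹ * t⁻¹ = (t * (u : G) * t⁻¹)⁻¹ by group, htu, inv_inv] at h2
      exact h2.eq
    · intro hk
      have h1 : Commute (t * k * t⁻¹) (u : G) := hk
      have h2 := (h1.inv_right).map (MulAut.conj t⁻¹).toMonoidHom
      simp only [MulEquiv.coe_toMonoidHom, MulAut.conj_apply] at h2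
      rw [← htu] at h2
      simpa [mul_assoc] using h2.eq
  let σ : K ≃* K :=
    { toFun := fun k => ⟨t * k * t⁻¹, (hKt k).mp k.2⟩
      invFun := fun k => ⟨t⁻¹ * k * t, (hKt _).mpr (by
        rw [show t * (t⁻¹ * (k : G) * t) * t⁻¹ = k by group]; exact k.2)⟩
      left_inv := fun k => Subtype.ext (by show t⁻¹ * (t * (k : G) * t⁻¹) * t = k; group)
      right_inv := fun k => Subtype.ext (by show t * (t⁻¹ * (k : G) * t) * t⁻¹ = k; group)
      map_mul' := fun a b => Subtype.ext (by show t * ((a : G) * b) * t⁻¹ = _; simp [mul_assoc]) }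
  let η₁ : IrrCharacter K :=
    ⟨fun k => (η₀ : K → ℂ) (σ k),
      CharCore.isIrrCharacter_comp_surjective η₀.2 σ.toMonoidHom σ.surjective⟩
  have hη₁ : η₁ ∈ locB hM hmax u := by
    have hinv : ∀ k : K, blockCoeff (locB hM hmax u) (σ k) = blockCoeff (locB hM hmax u) k := by
      intro k
      have h1 := congrArg (fun a => bp a (t * (k : G) * t⁻¹)) hpairu
      simp only [bp_conjPair] at h1
      rw [show t⁻¹ * (t * (k : G) * t⁻¹) * t = k by group] at h1
      have e1 : ∀ j : K, bp (atBelow hM hmax u) (j : G) = blockCoeff (locB hM hmax u) j :=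
        fun j => bp_apply_coe (atBelow hM hmax u).1 (atBelow hM hmax u).2 j
      exact ((e1 (σ k)).symm.trans (h1.symm.trans (e1 k)))
    have h1 := omega_blockCoeff (locB hM hmax u) η₁
    have h2 := omega_blockCoeff (locB hM hmax u) η₀
    rw [Set.indicator_of_mem hη₀, Pi.one_apply, omega_eq_sum] at h2
    by_contra hn
    rw [Set.indicator_of_notMem hn, omega_eq_sum] at h1
    refine one_ne_zero (h2.symm.trans (Eq.trans ?_ h1))
    congr 1
    · exact (Fintype.sum_equiv σ.toEquiv _ _ fun k => by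
        show blockCoeff _ k * (η₀ : K → ℂ) (σ k) = blockCoeff _ (σ k) * (η₀ : K → ℂ) (σ k)
        rw [hinv]).symm
    · show (η₀ : K → ℂ) 1 = (η₀ : K → ℂ) (σ 1)
      rw [map_one]
  obtain ⟨θ, hθ⟩ := hmem η₁ hη₁
  obtain ⟨hθ1, hθmul⟩ := irr_mul_of_comm hcomm θ
  obtain ⟨m, hm'⟩ := exists_exp (f := fun c => (θ : locD D (u : G) → ℂ) (x c))
    (by show (θ : locD D (u : G) → ℂ) (ρ 1) = 1; rw [map_one]; exact hθ1)
    (fun a b => by
      show (θ : locD D (u : G) → ℂ) (ρ (Multiplicative.ofAdd a * Multiplicative.ofAdd b)) = _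
      rw [map_mul]; exact hθmul _ _)
  -- the exponent is even
  have hucen : (x q : K) ∈ Subgroup.center K := Subgroup.mem_center_iff.mpr fun k => Subtype.ext
    (Subgroup.mem_centralizer_iff.mp k.2 _ (Subgroup.mem_zpowers _)).symm
  have hsect1 : (1 : K) ∈ sect 2 (x q : K) := one_mem_sect _
  have hθu : (θ : locD D (u : G) → ℂ) (x q) * cval η₀ (x q : K) = cval η₀ ((x q : K)⁻¹) := by
    have h1 := hθ (x q) 1 hsect1
    rw [hval (x q) (hto q) 1 (one_mem_sect _), proj_central hM (b := locB hM hmax u) (fun k => by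
        rw [← (hlift (x q) (by rw [hto]; exact Subgroup.mem_zpowers _)).1.coeff k, hto]
        exact bp_apply_coe _ _ k) hucen hη₁] at h1
    have e1 : (η₁ : K → ℂ) 1 = (η₀ : K → ℂ) 1 := by
      show (η₀ : K → ℂ) (σ 1) = _; rw [map_one]
    have e2 : cval η₁ (x q : K) = cval η₀ ((x q : K)⁻¹) := by
      rw [cval, cval, e1]
      congr 1
      show (η₀ : K → ℂ) (σ (x q : K)) = _
      congr 1
      exact congrArg (η₀ : K → ℂ)
        (Subtype.ext (show ((σ (x q : K) : K) : G) = (((x q : K)⁻¹ : K) : G) from htu))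
    rw [e2, e1, ← mul_assoc] at h1
    exact (mul_right_cancel₀ (irr_one_ne_zero η₀) h1).symm
  have hθq : (θ : locD D (u : G) → ℂ) (x q) * (θ : locD D (u : G) → ℂ) (x q) = 1 := by
    have hprod : cval η₀ (x q : K) * cval η₀ ((x q : K)⁻¹) = 1 := by
      rw [cval_mul_inv η₀ hucen]
    have h4 : cval η₀ (x q : K) ^ 4 = 1 := by
      rw [← cval_pow η₀ hucen, show (x q : K) ^ 4 = 1 from Subtype.ext (by
        rw [Subgroup.coe_pow]
        show (u : G) ^ 4 = 1
        rw [hu, hq, S.rot_natCast, ← pow_mul, show h / 2 * 4 = 2 * h by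
          obtain ⟨a, ha, hha⟩ := S.pow
          have : 2 ∣ h := hha ▸ dvd_pow_self 2 (show a ≠ 0 by omega)
          omega, S.pow_period]), cval_one]
    set τ := (θ : locD D (u : G) → ℂ) (x q)
    set γ := cval η₀ (x q : K)
    have hτ : τ * γ ^ 2 = 1 := by
      linear_combination γ * hθu + hprod
    linear_combination (τ * γ ^ 2 + 1) * hτ - τ ^ 2 * h4
  have hpar : m.val % 2 = 0 := by
    by_contra hne
    have h1 := hm' ((h : ℕ) : ZMod (2 * h))
    have h2 : (θ : locD D (u : G) → ℂ) (x ((h : ℕ) : ZMod (2 * h))) = 1 := by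
      rw [← S.half_mul_two, ← hq, mul_two]
      show (θ : locD D (u : G) → ℂ) (ρ (Multiplicative.ofAdd q * Multiplicative.ofAdd q)) = 1
      rw [map_mul, hθmul]; exact hθq
    simp only [h2] at h1
    have h3 := stdAddChar_half_mul (h := h) (-m)
    rw [mul_neg, neg_neg, mul_comm ((h : ℕ) : ZMod (2 * h)) m, ← h1] at h3
    have hneg : (-m).val % 2 = 1 := by
      rcases eq_or_ne m 0 with rfl | hm0
      · simp at hne
      · have : NeZero m := ⟨hm0⟩
        rw [ZMod.val_neg_of_ne_zero]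
        have := ZMod.val_lt m
        omega
    rw [hneg] at h3
    norm_num at h3
  obtain ⟨w, hw⟩ := S.kappa_two
  obtain ⟨b, hb⟩ : ∃ b, m = 2 * b := ⟨((m.val / 2 : ℕ) : ZMod (2 * h)), by
    conv_lhs => rw [← ZMod.natCast_zmod_val m, show m.val = 2 * (m.val / 2) by omega]
    push_cast; rfl⟩
  set n : ZMod (2 * h) := w * b with hn
  have hnm : n * κ = n + m := by rw [hb, hn]; linear_combination b * hw
  -- the twisted values
  let Θ : IrrCharacter G → ZMod (2 * h) → ℂ := fun χ c => stdAddChar (n * c) * Θ' χ (x c)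
  have hchar' : ∀ χ, IsCharacter (Multiplicative (ZMod (2 * h))) fun y => Θ' χ (x y.toAdd) :=
    fun χ => CharCore.isCharacter_comp (hchar χ) ρ
  choose A hA using fun χ => BC84.Dihedral.exists_coeff (fun c => Θ' χ (x c)) (hchar' χ)
  refine ⟨Θ, fun χ j => A χ (j - n), ⟨fun χ hχ c => ?_, fun χ j => ?_, fun c h1 h2 => ?_, fun c h1 h2 => ?_⟩⟩
  · rcases eq_or_ne c 0 with rfl | hc0
    · rw [mul_zero]
    rcases eq_or_ne c ((h : ℕ) : ZMod (2 * h)) with rfl | hch
    · rw [S.kappa_half]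
    have hc0' : κ * c ≠ 0 := fun he => hc0 (by rw [← S.kappa_kappa c, he, mul_zero])
    have hch' : κ * c ≠ ((h : ℕ) : ZMod (2 * h)) := fun he =>
      hch (by rw [← S.kappa_kappa c, he, S.kappa_half])
    obtain ⟨s, hs, hQs⟩ := (hcol' c hc0 hch).exists_Q
    have hsK : s ∈ K := by
      rw [hK, BlocksCore.centralizer_zpowers]
      refine Subgroup.mem_centralizer_singleton_iff.mpr ?_
      obtain ⟨i, hi⟩ := Subgroup.mem_zpowers_iff.mp (S.quarter_mem hc0 hch)
      rw [hu, ← hi]
      exact (Commute.zpow_right (Subgroup.mem_centralizer_singleton_iff.mp (mem_sect.mp hs).1) i).eq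
    set sK : K := ⟨s, hsK⟩
    have hsx : sK ∈ sect 2 (x c : K) := by
      refine mem_sect.mpr ⟨Subgroup.mem_centralizer_singleton_iff.mpr (Subtype.ext
        (Subgroup.mem_centralizer_singleton_iff.mp (mem_sect.mp hs).1)), ?_⟩
      rw [← Subgroup.orderOf_coe]; exact (mem_sect.mp hs).2
    have hconjx : t * ((x c : K) : G) * t⁻¹ = ((x (κ * c) : K) : G) := S.conj_rot_refl ht htr c
    have hσx : σ (x c : K) = (x (κ * c) : K) := Subtype.ext hconjx
    have hsx' : σ sK ∈ sect 2 (x (κ * c) : K) := by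
      refine mem_sect.mpr ⟨Subgroup.mem_centralizer_singleton_iff.mpr ?_, ?_⟩
      · rw [← hσx, ← map_mul, ← map_mul, Subgroup.mem_centralizer_singleton_iff.mp (mem_sect.mp hsx).1]
      · rw [σ.orderOf_eq]; exact (mem_sect.mp hsx).2
    have hpair : conjPair t (atBelow hM hmax (S.rot c)) = atBelow hM hmax (S.rot (κ * c)) := by
      rw [show conjPair t (atBelow hM hmax (S.rot c)) =
        atBelow hM hmax (⟨t, ht⟩ * S.rot c * ⟨t, ht⟩⁻¹) from conj_atBelow hM hmax _ ⟨t, ht⟩]
      congr 1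
      exact Subtype.ext hconjx
    -- the functions at the two conjugates
    have hQQ : Q' (x (κ * c)) (t * s * t⁻¹) = (θ : locD D (u : G) → ℂ) (x c) * Q' (x c) s := by
      rw [← hθ (x c) sK hsx, show t * s * t⁻¹ = ((σ sK : K) : G) from rfl,
        hQp (x (κ * c)) (σ sK) hsx', proj, proj]
      refine (Fintype.sum_equiv σ.toEquiv _ _ fun k => ?_).symm
      show bp (atBelow hM hmax' (x c)) k * (η₀ : K → ℂ) (σ ((x c : K) * k * sK)) =
        bp (atBelow hM hmax' (x (κ * c))) (σ k) * (η₀ : K → ℂ) ((x (κ * c) : K) * σ k * σ sK)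
      rw [map_mul, map_mul, hσx]
      congr 1
      have l1 := (hlift (x c) (hmemx c hc0 hch)).1.coeff k
      have l2 := (hlift (x (κ * c)) (hmemx _ hc0' hch')).1.coeff (σ k)
      rw [hto] at l1 l2
      rw [← l1, ← l2, ← hpair, bp_conjPair]
      congr 1
      show (k : G) = t⁻¹ * (t * (k : G) * t⁻¹) * t
      group
    have h1 := (hcol' c hc0 hch).proj_eq χ hχ s hs
    have hs' : t * s * t⁻¹ ∈ sect 2 (S.rot (κ * c) : G) := by
      refine mem_sect.mpr ⟨?_, by rw [orderOf_conjugate]; exact (mem_sect.mp hs).2⟩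
      have := Subgroup.mem_centralizer_singleton_iff.mp (mem_sect.mp hsx').1
      exact Subgroup.mem_centralizer_singleton_iff.mpr (congrArg Subtype.val this)
    have h2 := (hcol' _ hc0' hch').proj_eq χ hχ _ hs'
    rw [← hpair, ← S.conj_rot_refl ht htr c, proj_conjPair (irr_class χ), h1, hQQ] at h2
    have h3 : Θ' χ (x c) = Θ' χ (x (κ * c)) * (θ : locD D (u : G) → ℂ) (x c) :=
      mul_right_cancel₀ hQs (by rw [mul_assoc]; exact h2)
    show stdAddChar (n * (κ * c)) * Θ' χ (x (κ * c)) = stdAddChar (n * c) * Θ' χ (x c)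
    have h5 : (θ : locD D (u : G) → ℂ) (x c) = stdAddChar (m * c) := hm' c
    rw [← mul_assoc, hnm, add_mul, AddChar.map_add_eq_mul, h3, h5]
    ring
  · rw [hA]
    refine Finset.sum_congr rfl fun c _ => ?_
    show Θ' χ (x c) * _ = stdAddChar (n * c) * Θ' χ (x c) * _
    rw [mul_comm (stdAddChar (n * c) : ℂ), mul_assoc, ← AddChar.map_add_eq_mul]
    congr 2
    ring
  · refine ⟨_, isColumn_scale (hcol' c h1 h2) ?_⟩
    rw [← AddChar.map_neg_eq_conj, ← AddChar.map_add_eq_mul, add_neg_cancel, AddChar.map_zero_eq_one]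
  · rw [← hto, (hlift (x c) (hmemx c h1 h2)).1.snd_eq]
    exact (BlkChar.SubsectionSum.blockRank_pullIrr _ _).trans
      (nilpotent_rank_one hM (nilpotent_of_pairOf hM hnil (atBelow_pairOf hM hmax' (x c)))).1

namespace RotCols

variable {hM : IsPModular 2 M} {B : Set (IrrCharacter G)} {D : Subgroup G}
  {e : Set (IrrCharacter (Subgroup.centralizer (D : Set G)))}
  {hmax : IsMaximalBrauerPair 2 M B D e} {r : G} {h : ℕ} [NeZero (2 * h)] {κ : ZMod (2 * h)}
  {S : TameData D r h κ} {Θ : IrrCharacter G → ZMod (2 * h) → ℂ}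
  {A : IrrCharacter G → ZMod (2 * h) → ℕ} (R : RotCols hM hmax S Θ A)
include R

theorem orth {c c' : ZMod (2 * h)} (hc : c ≠ 0) (hch : c ≠ ((h : ℕ) : ZMod (2 * h)))
    (hc' : c' ≠ 0) (hch' : c' ≠ ((h : ℕ) : ZMod (2 * h))) :
    ∑ χ ∈ CharCore.SubContrib.mems B, conj (Θ χ c) * Θ χ c' =
      ((2 * h : ℕ) : ℂ) * ((if c' = c then 1 else 0) + if c' = κ * c then 1 else 0) := by
  obtain ⟨Q, hQ⟩ := R.col c hc hch
  have hne : c ≠ κ * c := fun he => (S.kappa_fix he.symm).elim hc hch
  by_cases he : c' = c ∨ c' = κ * c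
  · have hval : ∑ χ ∈ CharCore.SubContrib.mems B, conj (Θ χ c) * Θ χ c' =
        ∑ χ ∈ CharCore.SubContrib.mems B, Θ χ c * conj (Θ χ c) := by
      refine Finset.sum_congr rfl fun χ hχ => ?_
      rcases he with he | he
      · rw [he]; ring
      · rw [he, R.symm χ (CharCore.SubContrib.mem_mems.mp hχ)]; ring
    rw [hval, hQ.sum_sq]
    rcases he with rfl | rfl
    · rw [if_pos rfl, if_neg hne]; simp
    · rw [if_neg hne.symm, if_pos rfl]; simp
  · rw [not_or] at he
    rw [if_neg he.1, if_neg he.2, add_zero, mul_zero]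
    obtain ⟨Q', hQ'⟩ := R.col c' hc' hch'
    refine hQ.sum_mul hQ' ?_
    rw [classOf_eq, if_neg (not_fused_rot hM hmax S hc he.1 he.2)]

theorem orth_regular {c : ZMod (2 * h)} (hc : c ≠ 0) (hch : c ≠ ((h : ℕ) : ZMod (2 * h))) {s : G}
    (hs : ¬ 2 ∣ orderOf s) :
    ∑ χ ∈ CharCore.SubContrib.mems B, conj (Θ χ c) * (χ : G → ℂ) s = 0 := by
  obtain ⟨Q, hQ⟩ := R.col c hc hch
  exact hQ.sum_regular (S.rot_ne_one hc) hs

theorem coeff_kappa {χ : IrrCharacter G} (hχ : χ ∈ B) (j : ZMod (2 * h)) : A χ (κ * j) = A χ j := by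
  refine Nat.cast_injective (R := ℂ) (mul_left_cancel₀
    (Nat.cast_ne_zero.mpr (NeZero.ne _) : ((2 * h : ℕ) : ℂ) ≠ 0) ?_)
  rw [R.coeff, R.coeff]
  let σ : ZMod (2 * h) ≃ ZMod (2 * h) :=
    ⟨(κ * ·), (κ * ·), fun c => S.kappa_kappa c, fun c => S.kappa_kappa c⟩
  refine Fintype.sum_equiv σ _ _ fun c => ?_
  show _ = Θ χ (κ * c) * stdAddChar (-(κ * c * j))
  rw [R.symm χ hχ, show κ * c * j = c * (κ * j) by ring]

end RotCols

end Cfsg.Agent.BC84.Tame
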