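import Cfsg.Agent.BC84.Tame.LocalColumns
import Cfsg.Agent.BC84.Tame.Rotations
import Cfsg.Agent.BC84.Tame.RotColumns
import Cfsg.Agent.BC84.Dihedral.Data
import Cfsg.Agent.BC84.MajorTwo

/-!
# Elements with a centralizer of order four in the defect group, and local contributions
-/

set_option autoImplicit false
set_option linter.unusedSectionVars false
set_option linter.style.haveILetI false

namespace Cfsg.Agent.BC84.Tame

open BlocksCore BlocksDefect BC85 BC85.Star BC84.Dihedral
open scoped Classical ComplexConjugate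

universe u

variable {G : Type u} [Group G]

theorem zpowers_eq_pair [Finite G] {v a : G} (hv2 : orderOf v = 2) (ha : a ∈ Subgroup.zpowers v) :
    a = 1 ∨ a = v := by
  obtain ⟨k, hk⟩ := Subgroup.mem_zpowers_iff.mp ha
  rw [← hk]
  have hvv : v * v = 1 := by rw [← pow_two, ← hv2, pow_orderOf_eq_one]
  rcases Int.even_or_odd k with ⟨m, rfl⟩ | ⟨m, rfl⟩
  · left
    rw [← two_mul, zpow_mul, zpow_two, hvv, one_zpow]
  · right
    rw [zpow_add, zpow_mul, zpow_two, hvv, one_zpow, one_mul, zpow_one]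

/-- An element of odd order fixing a nontrivial element of a group of order at most four centralizes
every subgroup it normalizes. -/
theorem centralizes_of_four [Finite G] {P Q : Subgroup G} (hP : Nat.card P ≤ 4) (hP2 : IsPGroup 2 P)
    (hQ : Q ≤ P) {v : G} (hv : v ∈ P) (hv1 : v ≠ 1) {x : G} (hxv : x * v = v * x)
    (hxN : x ∈ Subgroup.normalizer (Q : Set G)) (hx : ¬ 2 ∣ orderOf x) :
    x ∈ Subgroup.centralizer (Q : Set G) := by
  have hQp : IsPGroup 2 Q := hP2.to_le hQ
  by_cases hc : IsCyclic Q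
  · exact centralizes_of_cyclic hQp hc hxN hx
  obtain ⟨k, hk⟩ := IsPGroup.iff_card.mp hQp
  have hQ4 : Nat.card Q ≤ 4 := le_trans (Subgroup.card_le_of_le hQ) hP
  have hk2 : k = 2 := by
    rcases k with _ | _ | _ | k
    · have : Subsingleton Q := (Nat.card_eq_one_iff_unique.mp (by rw [hk, pow_zero])).1
      exact absurd isCyclic_of_subsingleton hc
    · exact absurd (isCyclic_of_prime_card (p := 2) (by rw [hk]; simp)) hc
    · rfl
    · rw [hk] at hQ4
      have h8 : 2 ^ 3 ≤ 2 ^ (k + 1 + 1 + 1) := Nat.pow_le_pow_right two_pos (by omega)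
      exact absurd (h8.trans hQ4) (by norm_num)
  have hQP : Q = P := Subgroup.eq_of_le_of_card_ge hQ (by rw [hk, hk2]; omega)
  subst hQP
  have := Fintype.ofFinite Q
  have hv2 : orderOf v = 2 := by
    obtain ⟨i, hi⟩ := IsPGroup.iff_orderOf.mp hQp ⟨v, hv⟩
    rw [Subgroup.orderOf_mk] at hi
    rcases i with _ | _ | i
    · exact absurd (orderOf_eq_one_iff.mp hi) hv1
    · exact hi
    · exfalso
      have h4 : 4 ≤ orderOf v := by
        rw [hi]; exact le_trans (by norm_num) (Nat.pow_le_pow_right two_pos (show 2 ≤ i + 2 by omega))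
      have hd : orderOf v ∣ Nat.card Q := Subgroup.orderOf_dvd_natCard Q hv
      rw [hk, hk2] at hd
      exact hc (isCyclic_of_orderOf_eq_card ⟨v, hv⟩ (by
        rw [Subgroup.orderOf_mk, hk, hk2]
        exact le_antisymm (Nat.le_of_dvd (by norm_num) hd) h4))
  have hkey : ∀ a ∈ Q, a ≠ 1 → a ≠ v → ∀ b ∈ Q, b = 1 ∨ b = v ∨ b = a ∨ b = v * a := by
    intro a ha ha1 hav b hb
    by_contra hn
    rw [not_or, not_or, not_or] at hn
    obtain ⟨n1, n2, n3, n4⟩ := hn
    have hva1 : v * a ≠ 1 := fun he => hav (by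
      rw [eq_inv_of_mul_eq_one_right he, inv_eq_self_of_orderOf_eq_two hv2])
    have hvav : v * a ≠ v := fun he => ha1 (mul_eq_left.mp he)
    have hvaa : v * a ≠ a := fun he => hv1 (mul_eq_right.mp he)
    have h5 : ({⟨1, one_mem Q⟩, ⟨v, hv⟩, ⟨a, ha⟩, ⟨v * a, Q.mul_mem hv ha⟩, ⟨b, hb⟩} :
        Finset Q).card = 5 := by
      rw [Finset.card_insert_of_notMem (by simp [Ne.symm hv1, Ne.symm ha1, Ne.symm hva1, Ne.symm n1]),
        Finset.card_insert_of_notMem (by simp [Ne.symm hav, Ne.symm hvav, Ne.symm n2]),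
        Finset.card_insert_of_notMem (by simp [Ne.symm hvaa, Ne.symm n3]),
        Finset.card_insert_of_notMem (by simp [Ne.symm n4]), Finset.card_singleton]
    have := Finset.card_le_univ ({⟨1, one_mem Q⟩, ⟨v, hv⟩, ⟨a, ha⟩, ⟨v * a, Q.mul_mem hv ha⟩,
      ⟨b, hb⟩} : Finset Q)
    rw [h5, ← Nat.card_eq_fintype_card, hk, hk2] at this
    omega
  have hxQ : ∀ a ∈ Q, x * a * x⁻¹ ∈ Q := fun a ha => (Subgroup.mem_normalizer_iff.mp hxN a).mp ha
  have hsq : ∀ a ∈ Q, x * (x * a * x⁻¹) * x⁻¹ = a := by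
    intro a ha
    have hxv' : x * v * x⁻¹ = v := mul_inv_eq_iff_eq_mul.mpr hxv
    by_cases ha1 : a = 1
    · subst ha1; group
    by_cases hav : a = v
    · subst hav; rw [hxv', hxv']
    have hinj : ∀ w : G, x * a * x⁻¹ = x * w * x⁻¹ → a = w := fun w h =>
      mul_left_cancel (mul_right_cancel h)
    rcases hkey a ha ha1 hav _ (hxQ a ha) with h | h | h | h
    · exact absurd (hinj 1 (h.trans (by group))) ha1
    · exact absurd (hinj v (h.trans hxv'.symm)) hav
    · rw [h, h]
    · rw [h, show x * (v * a) * x⁻¹ = (x * v * x⁻¹) * (x * a * x⁻¹) by group, hxv', h, ← mul_assoc,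
        show v * v = 1 by rw [← pow_two, ← hv2, pow_orderOf_eq_one], one_mul]
  refine Subgroup.mem_centralizer_iff.mpr fun a ha => ?_
  have h2 : x ^ 2 ∈ Subgroup.centralizer ({a} : Set G) := by
    refine Subgroup.mem_centralizer_singleton_iff.mpr (mul_inv_eq_iff_eq_mul.mp ?_)
    conv_rhs => rw [← hsq a ha]
    rw [pow_two, mul_inv_rev]
    group
  have h1 : x ∈ Subgroup.centralizer ({a} : Set G) := by
    obtain ⟨k, hk⟩ := Nat.odd_iff.mpr (Nat.two_dvd_ne_zero.mp hx)
    have h3 := Subgroup.pow_mem _ h2 (k + 1)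
    rwa [← pow_mul, show 2 * (k + 1) = orderOf x + 1 by omega, pow_succ, pow_orderOf_eq_one,
      one_mul] at h3
  exact (Subgroup.mem_centralizer_singleton_iff.mp h1).symm

variable [Fintype G] {p : ℕ} [Fact p.Prime] {M : Ideal AlgInt} [hP : M.IsPrime]
  (hM : IsPModular p M) {B : Set (IrrCharacter G)} {D : Subgroup G}
  {e : Set (IrrCharacter (Subgroup.centralizer (D : Set G)))}
  (hmax : IsMaximalBrauerPair p M B D e)

include hM hmax

/-- The conjugates in the fusion system are fused. -/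
theorem fullyCentralized_of_fused (v : D)
    (h : ∀ w : D, Fused hM hmax w v →
      Nat.card (D ⊓ Subgroup.centralizer ({(w : G)} : Set G) : Subgroup G) ≤
        Nat.card (D ⊓ Subgroup.centralizer ({(v : G)} : Set G) : Subgroup G)) :
    (blockFusion hM hmax.1.1).IsFullyCentralized (Subgroup.zpowers (v : G)) := by
  refine ⟨Subgroup.zpowers_le.mpr v.2, fun R hR => ?_⟩
  obtain ⟨φ, ⟨hQ, g, hg, hgQ, f, hf, hgf⟩, rfl⟩ := hR
  set w : D := ⟨g * (v : G) * g⁻¹, hgQ ⟨v, Subgroup.mem_zpowers _, rfl⟩⟩ with hw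
  have hrange : φ.range = Subgroup.zpowers (w : G) := by
    have h1 : (Subgroup.zpowers (v : G)).map (MulAut.conj g).toMonoidHom = Subgroup.zpowers (w : G) := by
      rw [MonoidHom.map_zpowers]; rfl
    rw [← h1]
    ext a
    constructor
    · rintro ⟨c, rfl⟩
      exact ⟨c, c.2, (hg c).symm⟩
    · rintro ⟨c, hc, rfl⟩
      exact ⟨⟨c, hc⟩, hg ⟨c, hc⟩⟩
  have hfused : Fused hM hmax w v := by
    refine ⟨g, rfl, ?_⟩
    have hfe : (⟨Subgroup.zpowers (v : G), f⟩ : BrauerPairIdx G) = atBelow hM hmax v :=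
      below_ext hM hmax hf (atBelow_le hM hmax v) rfl
    rw [← hfe]
    exact below_ext hM hmax hgf (atBelow_le hM hmax w) (by
      rw [conjPair_fst, map_conj_zpowers]; rfl)
  rw [hrange, FusionSystem.centralizerIn, FusionSystem.centralizerIn, BlocksCore.centralizer_zpowers,
    BlocksCore.centralizer_zpowers]
  exact h w hfused

/-- An element of a two-group with a centralizer of order at most four has a nilpotent local block. -/
theorem rank_one_of_fullyCentralized [hp2 : Fact (p = 2)] (v : D) (hv1 : (v : G) ≠ 1)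
    (hfc : (blockFusion hM hmax.1.1).IsFullyCentralized (Subgroup.zpowers (v : G)))
    (h4 : Nat.card (D ⊓ Subgroup.centralizer ({(v : G)} : Set G) : Subgroup G) ≤ 4) :
    IsNilpotentBlock p M (locB hM hmax v) ∧ blockRank p (atBelow hM hmax v).2 = 1 := by
  obtain ⟨rfl⟩ := hp2
  obtain ⟨e', hmax', -⟩ := exists_local_max hM hmax v hfc
  set K := Subgroup.centralizer ((Subgroup.zpowers (v : G) : Subgroup G) : Set G) with hK
  have hnil : IsNilpotentBlock 2 M (locB hM hmax v) :=
    isNilpotentBlock_of_below hM hmax' fun Q _ hQ x hx hreg => by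
      have hvK : (v : G) ∈ K := by
        rw [hK, BlocksCore.centralizer_zpowers]; exact Subgroup.mem_centralizer_singleton_iff.mpr rfl
      refine centralizes_of_four (P := locD D (v : G)) (v := ⟨v, hvK⟩) ?_ hmax'.1.1.1
        (subpairLE_le hQ) ?_ (fun he => hv1 (congrArg Subtype.val he)) ?_ hx.1 hreg
      · rw [locD, Nat.card_congr (Subgroup.subgroupOfEquivOfLe inf_le_right).toEquiv,
          BlocksCore.centralizer_zpowers]
        exact h4
      · exact ⟨v.2, hvK⟩
      · exact Subtype.ext (Subgroup.mem_centralizer_iff.mp x.2 _ (Subgroup.mem_zpowers _)).symm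
  exact ⟨hnil, (nilpotent_rank_one hM hnil).1⟩

/-- The local block in the centralizer of the element, with its contribution. -/
theorem exists_local_block (v : D) :
    ∃ b : Set (IrrCharacter (Subgroup.centralizer ({(v : G)} : Set G))),
      IsInducedBlock M (Subgroup.centralizer ({(v : G)} : Set G)) b B ∧
      blockDefect p b = blockDefect p (locB hM hmax v) ∧
      ∀ χ ψ : IrrCharacter G,
        (Nat.card (Subgroup.centralizer ({(v : G)} : Set G)) : ℂ) *
          contr p b (χ : G → ℂ) (ψ : G → ℂ) =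
        contribAt p (atBelow hM hmax v) (v : G) (χ : G → ℂ) (ψ : G → ℂ) := by
  have hv := orderOf_pow_of_mem hmax.1.1.1 v.2
  obtain ⟨b, hb, hcoe, hiff⟩ := exists_block_induced hM hv (atBelow_mem hM hmax v)
  refine ⟨b, (hiff B).mp (atBelow_pairOf hM hmax v),
    defect_of_coe_eq (BlocksCore.centralizer_zpowers (v : G)).symm hcoe, fun χ ψ => ?_⟩
  rw [contribAt_eq_sum hM hv (atBelow_mem hM hmax v) (irr_class χ) (irr_class ψ), sum_sect,
    show contr p b (χ : G → ℂ) (ψ : G → ℂ) = classInner (sectMap p (v : G) b (χ : G → ℂ))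
      (sectMap p (v : G) b (ψ : G → ℂ)) by unfold contr; congr!,
    classInner, ← mul_assoc, mul_inv_cancel₀ (Nat.cast_ne_zero.mpr Nat.card_pos.ne'), one_mul,
    Finset.sum_filter]
  refine Finset.sum_congr (by congr!) fun c _ => ?_
  rw [sectMap_eq_regPart, sectMap_eq_regPart]
  by_cases hc : p ∣ orderOf c
  · rw [if_neg (not_not.mpr hc), BC85.pRegularPart_neg hc, zero_mul]
  · rw [if_pos hc, BC85.pRegularPart_pos hc, BC85.pRegularPart_pos hc,
      proj_eq_blockPart (irr_class χ) hcoe, proj_eq_blockPart (irr_class ψ) hcoe]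

end Cfsg.Agent.BC84.Tame

namespace Cfsg.Agent.BC84.Tame

open BlocksCore BlocksDefect BC85 BC85.Star BC84.Dihedral
open scoped Classical ComplexConjugate

universe u

variable {G : Type u} [Group G] [Fintype G]

/-- A character takes integral values at a central involution. -/
theorem exists_int_of_central {H : Type*} [Group H] [Fintype H] {f : H → ℂ} (hf : IsCharacter H f)
    {x : H} (hx : x ∈ Subgroup.center H) (h2 : x * x = 1) : ∃ m : ℤ, f x = (m : ℂ) := by
  choose n hn using fun θ : IrrCharacter H => CharCore.IsCharacter.exists_classInner_irr_eq_natCast hf θ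
  have hs : ∀ θ : IrrCharacter H, ∃ m : ℤ, (θ : H → ℂ) x = (m : ℂ) := by
    intro θ
    have h1 := irr_one_eq θ
    have h3 := cval_pow θ hx 2
    rw [pow_two, pow_two, h2, cval_one] at h3
    have h4 : (θ : H → ℂ) x = cval θ x * (θ : H → ℂ) 1 := by
      rw [cval, div_mul_cancel₀ _ (irr_one_ne_zero θ)]
    rcases mul_self_eq_one_iff.mp h3.symm with h5 | h5
    · exact ⟨charDegree (θ : H → ℂ), by rw [h4, h5, h1]; push_cast; ring⟩
    · exact ⟨-charDegree (θ : H → ℂ), by rw [h4, h5, h1]; push_cast; ring⟩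
  choose s hs using hs
  refine ⟨∑ θ, (n θ : ℤ) * s θ, ?_⟩
  have h1 := congrFun (CharCore.IsCharacter.eq_sum_classInner hf) x
  simp only [Finset.sum_apply, Pi.smul_apply, smul_eq_mul, hn, hs] at h1
  rw [h1]
  push_cast
  rfl

variable [Fact (Nat.Prime 2)] {M : Ideal AlgInt} [hP : M.IsPrime]
  (hM : IsPModular 2 M) {B : Set (IrrCharacter G)} {D : Subgroup G}
  {e : Set (IrrCharacter (Subgroup.centralizer (D : Set G)))}
  (hmax : IsMaximalBrauerPair 2 M B D e)

include hM hmax

/-- The column at an involution with nilpotent local block. -/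
theorem exists_int_column (v : D) (hord : orderOf (v : G) = 2)
    (hfc : (blockFusion hM hmax.1.1).IsFullyCentralized (Subgroup.zpowers (v : G)))
    (hnil : IsNilpotentBlock 2 M (locB hM hmax v)) :
    ∃ (T : IrrCharacter G → ℤ) (Q : G → ℂ),
      IsColumn hM hmax v (fun χ => (T χ : ℂ)) Q
        (Nat.card (D ⊓ Subgroup.centralizer ({(v : G)} : Set G) : Subgroup G)) ∧
      (∀ χ ∈ B, blockHeight 2 B (χ : G → ℂ) = 0 → ¬ (2 : ℤ) ∣ T χ) ∧
      (D ≤ Subgroup.centralizer ({(v : G)} : Set G) → ∀ χ ∈ B, T χ ≠ 0) := by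
  obtain ⟨e', hmax', hlift⟩ := exists_local_max hM hmax v hfc
  obtain ⟨η₀, Θ, Q, -, -, hchar, hcol, -⟩ := exists_local_columns hM hmax v hmax' hlift hnil
  set K := Subgroup.centralizer ((Subgroup.zpowers (v : G) : Subgroup G) : Set G) with hK
  have hvK : (v : G) ∈ K := by
    rw [hK, BlocksCore.centralizer_zpowers]; exact Subgroup.mem_centralizer_singleton_iff.mpr rfl
  set x : locD D (v : G) := ⟨⟨v, hvK⟩, v.2, hvK⟩ with hx
  have hxc : x ∈ Subgroup.center (locD D (v : G)) := Subgroup.mem_center_iff.mpr fun a =>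
    Subtype.ext (Subtype.ext (Subgroup.mem_centralizer_iff.mp a.1.2 _ (Subgroup.mem_zpowers _)).symm)
  have hxx : x * x = 1 := Subtype.ext (Subtype.ext (by
    show (v : G) * v = 1
    rw [← pow_two, ← hord, pow_orderOf_eq_one]))
  choose T hT using fun χ : IrrCharacter G => exists_int_of_central (hchar χ) hxc hxx
  have hm : Nat.card (Subgroup.centralizer ({x} : Set (locD D (v : G)))) =
      Nat.card (D ⊓ Subgroup.centralizer ({(v : G)} : Set G) : Subgroup G) := by
    rw [show Subgroup.centralizer ({x} : Set (locD D (v : G))) = ⊤ from eq_top_iff.mpr fun a _ =>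
        Subgroup.mem_centralizer_singleton_iff.mpr (Subgroup.mem_center_iff.mp hxc a),
      Subgroup.card_top, locD, Nat.card_congr (Subgroup.subgroupOfEquivOfLe inf_le_right).toEquiv,
      BlocksCore.centralizer_zpowers]
  have hc : IsColumn hM hmax v (fun χ => (T χ : ℂ)) (Q x)
      (Nat.card (D ⊓ Subgroup.centralizer ({(v : G)} : Set G) : Subgroup G)) := by
    have h1 := hcol x (Subgroup.mem_zpowers _)
    rw [hm] at h1
    simp only [hT] at h1
    exact h1
  refine ⟨T, Q x, hc, ?_⟩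
  obtain ⟨b, hind, hdef, hcon⟩ := exists_local_block hM hmax v
  set m := Nat.card (D ⊓ Subgroup.centralizer ({(v : G)} : Set G) : Subgroup G) with hmdef
  have hm2 : 2 ^ blockDefect 2 b = m := by
    rw [hdef, ← defectGroup_natCard hM hmax'.1.2.1 (isDefectGroup_of_maximal hM hmax'), locD,
      Nat.card_congr (Subgroup.subgroupOfEquivOfLe inf_le_right).toEquiv, hmdef,
      BlocksCore.centralizer_zpowers]
  have hMc : ∀ χ ψ : IrrCharacter G, χ ∈ B → ψ ∈ B → Mc b χ ψ = ((T χ * T ψ : ℤ) : ℂ) := by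
    intro χ ψ hχ hψ
    have h1 := hc.contribAt_eq hχ hψ
    rw [← hcon, map_intCast] at h1
    have hm0 : (m : ℂ) ≠ 0 := hc.m_ne_zero
    rw [Mc, show (2 : ℂ) ^ blockDefect 2 b = (m : ℂ) by rw [← hm2]; push_cast; rfl]
    refine mul_left_cancel₀ (Nat.cast_ne_zero.mpr Nat.card_pos.ne' :
      (Nat.card (Subgroup.centralizer ({(v : G)} : Set G)) : ℂ) ≠ 0) ?_
    push_cast at h1 ⊢
    linear_combination h1
  have hu : orderOf (v : G) = 2 ^ 1 := by rw [hord, pow_one]
  refine ⟨fun χ hχ h0 hd => ?_, fun hle χ hχ h0 => ?_⟩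
  · refine Mc_unit hM hu hind hχ hχ h0 h0 ?_
    rw [hMc χ χ hχ hχ]
    exact (memLocalIdeal_intCast_iff hM _).mpr (by exact_mod_cast hd.mul_right _)
  · have hdb : blockDefect 2 b = blockDefect 2 B := by
      apply Nat.pow_right_injective (le_refl 2)
      show 2 ^ blockDefect 2 b = 2 ^ blockDefect 2 B
      rw [hm2, ← defectGroup_natCard hM hmax.1.2.1 (isDefectGroup_of_maximal hM hmax), hmdef,
        inf_eq_left.mpr hle]
    obtain ⟨ψ, hψ, hψ0⟩ := exists_height_zero hM hmax.1.2.1
    obtain ⟨-, hnot⟩ := Mc_val_zero hM hu hind hdb hχ hψ hψ0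
    rw [hMc χ ψ hχ hψ, h0, zero_mul, Int.cast_zero, zero_div] at hnot
    exact hnot memLocalIdeal_zero

end Cfsg.Agent.BC84.Tame
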