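import Cfsg.Agent.BC84.Tame.Frame

/-!
# Coordinates of the members at the regular elements
-/

set_option autoImplicit false
set_option linter.unusedSectionVars false

namespace Cfsg.Agent.BC84.Tame

open BlocksCore BlocksDefect BC85
open scoped Classical

universe u

variable {G : Type u} [Group G] [Fintype G]

/-- Integral coordinates at the regular elements. -/
def IsCoord (B : Set (IrrCharacter G)) [Fintype B] {l : ℕ} (φ : Fin l → G → ℂ)
    (c : B → Fin l → ℤ) : Prop :=
  ∀ (x : B) (s : G), ¬ 2 ∣ orderOf s → ((x : IrrCharacter G) : G → ℂ) s = ∑ a, (c x a : ℂ) * φ a s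

/-- The three possible coordinate systems with their scalar products. -/
def Shape (B : Set (IrrCharacter G)) [Fintype B] (hb : ℕ) : Prop :=
  (blockRank 2 B = 1 ∧ ∃ (φ : Fin 1 → G → ℂ) (c : B → Fin 1 → ℤ), IsCoord B φ c ∧
    ∑ x, c x 0 * c x 0 = 4 * (hb : ℤ) ∧
    (∀ x : B, blockHeight 2 B ((x : IrrCharacter G) : G → ℂ) = 0 → c x 0 ^ 2 = 1)) ∨
  (blockRank 2 B = 2 ∧ 2 ≤ hb ∧ ∃ (φ : Fin 2 → G → ℂ) (c : B → Fin 2 → ℤ), IsCoord B φ c ∧
    ∑ x, c x 0 * c x 0 = (hb : ℤ) + 1 ∧ ∑ x, c x 1 * c x 1 = (hb : ℤ) + 1 ∧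
    ∑ x, c x 0 * c x 1 = (hb : ℤ) - 1) ∨
  (blockRank 2 B = 3 ∧ ∃ (φ : Fin 3 → G → ℂ) (c : B → Fin 3 → ℤ), IsCoord B φ c ∧
    ∑ x, c x 0 * c x 0 = (hb : ℤ) + 1 ∧ ∑ x, c x 1 * c x 1 = (hb : ℤ) + 1 ∧
    ∑ x, c x 2 * c x 2 = 2 ∧ ∑ x, c x 0 * c x 1 = (hb : ℤ) ∧ ∑ x, c x 0 * c x 2 = 1 ∧
    ∑ x, c x 1 * c x 2 = 1)

theorem irr_apply_one_ne {B : Set (IrrCharacter G)} (x : B) {f : G → ℂ}
    (h : ∀ s : G, ¬ 2 ∣ orderOf s → ((x : IrrCharacter G) : G → ℂ) s = f s) : f 1 ≠ 0 := by
  rw [← h 1 (by simp)]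
  exact irr_one_ne_zero _

theorem shape_of_frame {B : Set (IrrCharacter G)} [Fintype B] {hb : ℕ} {H : Finset B} {g : B → ℤ}
    {a b : B} (F : Frame B hb H g a b) (hE : Extra B hb H g) : Shape B hb := by
  obtain ⟨haH, hbH, hab⟩ := F.mem
  obtain ⟨c, d, hcd, hce⟩ := Finset.card_eq_two.mp (show ((H.erase a).erase b).card = 2 by
    rw [Finset.card_erase_of_mem (Finset.mem_erase.mpr ⟨hab.symm, hbH⟩),
      Finset.card_erase_of_mem haH, F.four])
  have hc := Finset.ext_iff.mp hce c
  have hd := Finset.ext_iff.mp hce d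
  simp only [Finset.mem_erase, Finset.mem_insert, Finset.mem_singleton, true_or, or_true, iff_true] at hc hd
  obtain ⟨hcb, hca, hcH⟩ := hc
  obtain ⟨hdb, hda, hdH⟩ := hd
  have hH : H = {a, b, c, d} := by
    ext x
    have := Finset.ext_iff.mp hce x
    simp only [Finset.mem_erase, Finset.mem_insert, Finset.mem_singleton] at this ⊢
    constructor
    · intro hx
      by_cases h1 : x = a
      · exact Or.inl h1
      · by_cases h2 : x = b
        · exact Or.inr (Or.inl h2)
        · exact Or.inr (Or.inr (this.mp ⟨h2, h1, hx⟩))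
    · rintro (rfl | rfl | rfl | rfl) <;> assumption
  have hsum : ∀ {β : Type} [AddCommMonoid β] (f : B → β),
      ∑ x, f x = (f a + (f b + (f c + f d))) + ∑ x ∈ Hᶜ, f x := by
    intro β _ f
    rw [← Finset.sum_add_sum_compl H, hH, Finset.sum_insert (by simp [hab, Ne.symm hca, Ne.symm hda]),
      Finset.sum_insert (by simp [Ne.symm hcb, Ne.symm hdb]), Finset.sum_insert (by simp [hcd]),
      Finset.sum_singleton]
  have hcompl : (Hᶜ.card : ℤ) = (hb : ℤ) - 1 := by
    have := Finset.card_add_card_compl H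
    rw [F.four, F.card] at this
    omega
  have hrel : ∀ T, RelVec B H T → ∀ s : G, ¬ 2 ∣ orderOf s →
      (T a : ℂ) * ((a : IrrCharacter G) : G → ℂ) s + (T b : ℂ) * ((b : IrrCharacter G) : G → ℂ) s +
      (T c : ℂ) * ((c : IrrCharacter G) : G → ℂ) s + (T d : ℂ) * ((d : IrrCharacter G) : G → ℂ) s = 0 := by
    intro T hT s hs
    have h1 := hT.rel s hs
    rw [hsum (fun x : B => (T x : ℂ) * ((x : IrrCharacter G) : G → ℂ) s),
      Finset.sum_eq_zero (s := Hᶜ) fun x hx => by rw [hT.off x (Finset.mem_compl.mp hx)]; simp] at h1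
    linear_combination h1
  have hg : ∀ x ∈ H, g x * g x = 1 := fun x hx => by rcases F.rel.sign x hx with h | h <;> rw [h] <;> rfl
  have hgC : ∀ x ∈ H, (g x : ℂ) * (g x : ℂ) = 1 := fun x hx => by exact_mod_cast hg x hx
  choose! ε hε hεs using F.other
  have hεε : ∀ x ∉ H, ε x * ε x = 1 := fun x hx => by rcases hε x hx with h | h <;> rw [h] <;> rfl
  rcases hE with hl | ⟨hl, hh, T, hT, hTg⟩ | ⟨hl, T, T', hT, hT', hTg, hT'g, hTT'⟩
  · refine Or.inr (Or.inr ⟨hl, fun i => if i = 0 then fun s => (g a : ℂ) * ((a : IrrCharacter G) : G → ℂ) s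
      else if i = 1 then fun s => (g b : ℂ) * ((b : IrrCharacter G) : G → ℂ) s
      else fun s => (g c : ℂ) * ((c : IrrCharacter G) : G → ℂ) s,
      fun x i => if x = a then (if i = 0 then g a else 0) else if x = b then (if i = 1 then g b else 0)
      else if x = c then (if i = 2 then g c else 0) else if x = d then -g d
      else (if i = 2 then 0 else ε x), ?_, ?_⟩)
    · intro x s hs
      simp only [Fin.sum_univ_three, Fin.reduceEq, if_true, if_false]
      by_cases hxH : x ∈ H
      · rw [hH] at hxH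
        simp only [Finset.mem_insert, Finset.mem_singleton] at hxH
        rcases hxH with rfl | rfl | rfl | rfl
        · simp [← mul_assoc, hgC _ haH]
        · simp [hab.symm, ← mul_assoc, hgC _ hbH]
        · simp [hca, hcb, ← mul_assoc, hgC _ hcH]
        · simp only [if_neg hda, if_neg hdb, if_neg hcd.symm, if_true]
          have := hrel g F.rel s hs
          push_cast
          linear_combination (g x : ℂ) * this - ((x : IrrCharacter G) : G → ℂ) s * hgC _ hdH
      · have h1 : x ≠ a := fun q => hxH (q ▸ haH)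
        have h2 : x ≠ b := fun q => hxH (q ▸ hbH)
        have h3 : x ≠ c := fun q => hxH (q ▸ hcH)
        have h4 : x ≠ d := fun q => hxH (q ▸ hdH)
        simp only [if_neg h1, if_neg h2, if_neg h3, if_neg h4]
        rw [hεs x hxH s hs]; push_cast; ring
    · have hoff : ∀ (x : B), x ∈ Hᶜ → x ≠ a ∧ x ≠ b ∧ x ≠ c ∧ x ≠ d := fun x hx => by
        have hx' := Finset.mem_compl.mp hx
        exact ⟨fun q => hx' (q ▸ haH), fun q => hx' (q ▸ hbH), fun q => hx' (q ▸ hcH), fun q => hx' (q ▸ hdH)⟩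
      have hga := hg a haH; have hgb := hg b hbH; have hgc := hg c hcH; have hgd := hg d hdH
      refine ⟨?_, ?_, ?_, ?_, ?_, ?_⟩
      · rw [hsum, Finset.sum_congr rfl (s₁ := Hᶜ) (g := fun _ => (1 : ℤ)) fun x hx => by
          obtain ⟨h1, h2, h3, h4⟩ := hoff x hx
          simp only [if_neg h1, if_neg h2, if_neg h3, if_neg h4, Fin.reduceEq, if_true, if_false,
            hεε x (Finset.mem_compl.mp hx), mul_zero], Finset.sum_const, nsmul_eq_mul, hcompl]
        simp [hab.symm, hca, hcb, hda, hdb, hcd.symm, hga, hgb, hgc, hgd]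
        try ring
      · rw [hsum, Finset.sum_congr rfl (s₁ := Hᶜ) (g := fun _ => (1 : ℤ)) fun x hx => by
          obtain ⟨h1, h2, h3, h4⟩ := hoff x hx
          simp only [if_neg h1, if_neg h2, if_neg h3, if_neg h4, Fin.reduceEq, if_true, if_false,
            hεε x (Finset.mem_compl.mp hx), mul_zero], Finset.sum_const, nsmul_eq_mul, hcompl]
        simp [hab.symm, hca, hcb, hda, hdb, hcd.symm, hga, hgb, hgc, hgd]
        try ring
      · rw [hsum, Finset.sum_congr rfl (s₁ := Hᶜ) (g := fun _ => (0 : ℤ)) fun x hx => by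
          obtain ⟨h1, h2, h3, h4⟩ := hoff x hx
          simp only [if_neg h1, if_neg h2, if_neg h3, if_neg h4, Fin.reduceEq, if_true, if_false,
            hεε x (Finset.mem_compl.mp hx), mul_zero], Finset.sum_const, nsmul_eq_mul, hcompl]
        simp [hab.symm, hca, hcb, hda, hdb, hcd.symm, hga, hgb, hgc, hgd]
        try ring
      · rw [hsum, Finset.sum_congr rfl (s₁ := Hᶜ) (g := fun _ => (1 : ℤ)) fun x hx => by
          obtain ⟨h1, h2, h3, h4⟩ := hoff x hx
          simp only [if_neg h1, if_neg h2, if_neg h3, if_neg h4, Fin.reduceEq, if_true, if_false,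
            hεε x (Finset.mem_compl.mp hx), mul_zero], Finset.sum_const, nsmul_eq_mul, hcompl]
        simp [hab.symm, hca, hcb, hda, hdb, hcd.symm, hga, hgb, hgc, hgd]
        try ring
      · rw [hsum, Finset.sum_congr rfl (s₁ := Hᶜ) (g := fun _ => (0 : ℤ)) fun x hx => by
          obtain ⟨h1, h2, h3, h4⟩ := hoff x hx
          simp only [if_neg h1, if_neg h2, if_neg h3, if_neg h4, Fin.reduceEq, if_true, if_false,
            hεε x (Finset.mem_compl.mp hx), mul_zero], Finset.sum_const, nsmul_eq_mul, hcompl]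
        simp [hab.symm, hca, hcb, hda, hdb, hcd.symm, hga, hgb, hgc, hgd]
        try ring
      · rw [hsum, Finset.sum_congr rfl (s₁ := Hᶜ) (g := fun _ => (0 : ℤ)) fun x hx => by
          obtain ⟨h1, h2, h3, h4⟩ := hoff x hx
          simp only [if_neg h1, if_neg h2, if_neg h3, if_neg h4, Fin.reduceEq, if_true, if_false,
            hεε x (Finset.mem_compl.mp hx), mul_zero], Finset.sum_const, nsmul_eq_mul, hcompl]
        simp [hab.symm, hca, hcb, hda, hdb, hcd.symm, hga, hgb, hgc, hgd]
        try ring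
  · set τ : B → ℤ := fun x => T x * g x with hτ
    have hτ1 : ∀ x ∈ H, τ x = 1 ∨ τ x = -1 := fun x hx => by
      rcases hT.sign x hx with h | h <;> rcases F.rel.sign x hx with h' | h' <;> simp [hτ, h, h']
    have hsum0 : τ a + τ b + τ c + τ d = 0 := by
      rw [hsum, Finset.sum_eq_zero (s := Hᶜ) fun x hx => by rw [hT.off x (Finset.mem_compl.mp hx), zero_mul]] at hTg
      simp only [hτ]; linear_combination hTg
    set U : B → G → ℂ := fun x s => (g x : ℂ) * ((x : IrrCharacter G) : G → ℂ) s with hU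
    have hTU : ∀ s : G, ¬ 2 ∣ orderOf s →
        (τ a : ℂ) * U a s + (τ b : ℂ) * U b s + (τ c : ℂ) * U c s + (τ d : ℂ) * U d s = 0 := by
      intro s hs
      have := hrel T hT s hs
      simp only [hτ, hU]; push_cast
      linear_combination this + ((T a : ℂ) * ((a : IrrCharacter G) : G → ℂ) s) * hgC a haH +
        ((T b : ℂ) * ((b : IrrCharacter G) : G → ℂ) s) * hgC b hbH +
        ((T c : ℂ) * ((c : IrrCharacter G) : G → ℂ) s) * hgC c hcH +
        ((T d : ℂ) * ((d : IrrCharacter G) : G → ℂ) s) * hgC d hdH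
    obtain ⟨x₀, hx₀⟩ : ∃ x, x ∈ Hᶜ := Finset.card_pos.mp (by omega)
    have hne : τ a = - τ b := by
      by_contra hne
      have hτab : τ a = τ b := by rcases hτ1 a haH with h | h <;> rcases hτ1 b hbH with h' | h' <;> omega
      have hτcd : τ c = - τ a ∧ τ d = - τ a := by
        rcases hτ1 a haH with h | h <;> rcases hτ1 c hcH with h' | h' <;> rcases hτ1 d hdH with h'' | h'' <;> omega
      refine irr_apply_one_ne x₀ (hεs x₀ (Finset.mem_compl.mp hx₀)) ?_
      have h1 := hrel g F.rel 1 (by simp)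
      have h2 := hTU 1 (by simp)
      rw [← hτab, hτcd.1, hτcd.2] at h2
      simp only [hU] at h2
      push_cast at h2
      rcases hτ1 a haH with h | h <;> rw [h] at h2 <;> push_cast at h2
      · linear_combination ((ε x₀ : ℂ) / 2) * h1 + ((ε x₀ : ℂ) / 2) * h2
      · linear_combination ((ε x₀ : ℂ) / 2) * h1 - ((ε x₀ : ℂ) / 2) * h2
    -- rename so that the third goes with the first
    obtain ⟨c', d', hc'H, hd'H, hcd', hH', hτc⟩ : ∃ c' d', c' ∈ H ∧ d' ∈ H ∧
        (c' ≠ a ∧ c' ≠ b ∧ d' ≠ a ∧ d' ≠ b ∧ c' ≠ d') ∧ H = {a, b, c', d'} ∧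
        (τ c' = τ a ∧ τ d' = τ b) := by
      by_cases h : τ c = τ a
      · exact ⟨c, d, hcH, hdH, ⟨hca, hcb, hda, hdb, hcd⟩, hH, h, by omega⟩
      · refine ⟨d, c, hdH, hcH, ⟨hda, hdb, hca, hcb, hcd.symm⟩, by rw [hH, Finset.pair_comm c d], ?_⟩
        rcases hτ1 a haH with q | q <;> rcases hτ1 c hcH with q' | q' <;> omega
    have hU' : ∀ s : G, ¬ 2 ∣ orderOf s → U c' s = - U a s ∧ U d' s = - U b s := by
      intro s hs
      have h1 := F.rel.rel s hs
      have h2 := hT.rel s hs
      obtain ⟨k1, k2, k3, k4, k5⟩ := hcd'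
      have hsum' : ∀ f : B → ℂ, (∀ x ∉ H, f x = 0) → ∑ x, f x = f a + f b + f c' + f d' := fun f hf => by
        rw [← Finset.sum_subset (Finset.subset_univ H) (fun x _ hx => hf x hx), hH',
          Finset.sum_insert (by simp [hab, Ne.symm k1, Ne.symm k3]),
          Finset.sum_insert (by simp [Ne.symm k2, Ne.symm k4]), Finset.sum_insert (by simp [k5]),
          Finset.sum_singleton]
        ring
      rw [hsum' _ fun x hx => by rw [F.rel.off x hx]; simp] at h1
      rw [hsum' _ fun x hx => by rw [hT.off x hx]; simp] at h2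
      have hT' : ∀ x ∈ H, (T x : ℂ) = (τ x : ℂ) * (g x : ℂ) := fun x hx => by
        simp only [hτ]; push_cast; linear_combination -(T x : ℂ) * hgC x hx
      rw [hT' a haH, hT' b hbH, hT' c' hc'H, hT' d' hd'H, hτc.1, hτc.2,
        show τ b = - τ a by omega] at h2
      simp only [hU]
      push_cast at h2
      rcases hτ1 a haH with h | h <;> rw [h] at h2 <;> push_cast at h2
      · exact ⟨by linear_combination (1/2 : ℂ) * h1 + (1/2 : ℂ) * h2,
          by linear_combination (1/2 : ℂ) * h1 - (1/2 : ℂ) * h2⟩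
      · exact ⟨by linear_combination (1/2 : ℂ) * h1 - (1/2 : ℂ) * h2,
          by linear_combination (1/2 : ℂ) * h1 + (1/2 : ℂ) * h2⟩
    obtain ⟨k1, k2, k3, k4, k5⟩ := hcd'
    refine Or.inr (Or.inl ⟨hl, hh, fun i => if i = 0 then U a else U b,
      fun x i => if x = a then (if i = 0 then g a else 0) else if x = b then (if i = 1 then g b else 0)
      else if x = c' then (if i = 0 then -g c' else 0) else if x = d' then (if i = 1 then -g d' else 0)
      else ε x, ?_, ?_⟩)
    · intro x s hs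
      obtain ⟨hUc, hUd⟩ := hU' s hs
      simp only [Fin.sum_univ_two, Fin.reduceEq, if_true, if_false]
      by_cases hxH : x ∈ H
      · have hx' := hH' ▸ hxH
        simp only [Finset.mem_insert, Finset.mem_singleton] at hx'
        rcases hx' with rfl | rfl | rfl | rfl
        · simp [hU, ← mul_assoc, hgC _ haH]
        · simp [hU, hab.symm, ← mul_assoc, hgC _ hbH]
        · simp only [if_neg k1, if_neg k2, if_true]
          simp only [hU] at hUc ⊢; push_cast
          linear_combination (g x : ℂ) * hUc - ((x : IrrCharacter G) : G → ℂ) s * hgC _ hc'H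
        · simp only [if_neg k3, if_neg k4, if_neg k5.symm, if_true]
          simp only [hU] at hUd ⊢; push_cast
          linear_combination (g x : ℂ) * hUd - ((x : IrrCharacter G) : G → ℂ) s * hgC _ hd'H
      · have h1 : x ≠ a := fun q => hxH (q ▸ haH)
        have h2 : x ≠ b := fun q => hxH (q ▸ hbH)
        have h3 : x ≠ c' := fun q => hxH (q ▸ hc'H)
        have h4 : x ≠ d' := fun q => hxH (q ▸ hd'H)
        simp only [if_neg h1, if_neg h2, if_neg h3, if_neg h4, hU]
        rw [hεs x hxH s hs]; ring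
    · have hga := hg a haH; have hgb := hg b hbH; have hgc := hg c' hc'H; have hgd := hg d' hd'H
      have hs4 : ∀ f : B → ℤ, ∑ x, f x = f a + f b + f c' + f d' + ∑ x ∈ Hᶜ, f x := fun f => by
        rw [← Finset.sum_add_sum_compl H, hH', Finset.sum_insert (by simp [hab, Ne.symm k1, Ne.symm k3]),
          Finset.sum_insert (by simp [Ne.symm k2, Ne.symm k4]), Finset.sum_insert (by simp [k5]),
          Finset.sum_singleton]
        ring
      refine ⟨?_, ?_, ?_⟩ <;>
      · rw [hs4, Finset.sum_congr rfl (s₁ := Hᶜ) (g := fun _ => (1 : ℤ)) fun x hx => by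
          have hx' := Finset.mem_compl.mp hx
          simp only [if_neg (show x ≠ a from fun q => hx' (q ▸ haH)), if_neg (show x ≠ b from fun q => hx' (q ▸ hbH)),
            if_neg (show x ≠ c' from fun q => hx' (q ▸ hc'H)), if_neg (show x ≠ d' from fun q => hx' (q ▸ hd'H)),
            hεε x hx'], Finset.sum_const, nsmul_one, hcompl]
        simp [hab.symm, k1, k2, k3, k4, k5.symm, hga, hgb, hgc, hgd]
        try ring
  · set τ : B → ℤ := fun x => T x * g x with hτ
    set τ' : B → ℤ := fun x => T' x * g x with hτ'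
    have hτ1 : ∀ x ∈ H, τ x = 1 ∨ τ x = -1 := fun x hx => by
      rcases hT.sign x hx with h | h <;> rcases F.rel.sign x hx with h' | h' <;> simp [hτ, h, h']
    have hτ1' : ∀ x ∈ H, τ' x = 1 ∨ τ' x = -1 := fun x hx => by
      rcases hT'.sign x hx with h | h <;> rcases F.rel.sign x hx with h' | h' <;> simp [hτ', h, h']
    have htot : ∀ f : B → ℤ, (∀ x ∉ H, f x = 0) → ∑ x ∈ H, f x = ∑ x, f x := fun f hf =>
      Finset.sum_subset (Finset.subset_univ H) fun x _ hx => hf x hx
    have s1 : ∑ x ∈ H, τ x = 0 := by rw [htot _ fun x hx => by simp [hτ, hT.off x hx]]; exact hTg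
    have s2 : ∑ x ∈ H, τ' x = 0 := by rw [htot _ fun x hx => by simp [hτ', hT'.off x hx]]; exact hT'g
    have s3 : ∑ x ∈ H, τ x * τ' x = 0 := by
      rw [Finset.sum_congr rfl fun x hx => show τ x * τ' x = T x * T' x by
        simp only [hτ, hτ']; linear_combination (T x * T' x) * hg x hx,
        htot _ fun x hx => by rw [hT.off x hx, zero_mul]]
      exact hTT'
    have hsep : ∀ y ∈ H, ∀ x ∈ H, x ≠ y → (1 + τ y * τ x) * (1 + τ' y * τ' x) = 0 := by
      intro y hy
      have hnn : ∀ x ∈ H, 0 ≤ (1 + τ y * τ x) * (1 + τ' y * τ' x) := fun x hx => by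
        rcases hτ1 y hy with h | h <;> rcases hτ1 x hx with h' | h' <;> rcases hτ1' y hy with k | k <;>
          rcases hτ1' x hx with k' | k' <;> rw [h, h', k, k'] <;> norm_num
      have htot4 : ∑ x ∈ H, (1 + τ y * τ x) * (1 + τ' y * τ' x) = 4 := by
        rw [Finset.sum_congr rfl (g := fun x => 1 + τ y * τ x + τ' y * τ' x + τ y * τ' y * (τ x * τ' x))
          fun x _ => by ring]
        simp only [Finset.sum_add_distrib, ← Finset.mul_sum, s1, s2, s3, mul_zero, add_zero,
          Finset.sum_const, F.four]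
        rfl
      rw [← Finset.add_sum_erase _ _ hy,
        show (1 + τ y * τ y) * (1 + τ' y * τ' y) = 4 by
          rcases hτ1 y hy with h | h <;> rcases hτ1' y hy with k | k <;> rw [h, k] <;> norm_num,
        add_eq_left] at htot4
      intro x hx hxy
      exact (Finset.sum_eq_zero_iff_of_nonneg fun w hw => hnn w (Finset.mem_of_mem_erase hw)).mp htot4 x
        (Finset.mem_erase.mpr ⟨hxy, hx⟩)
    set σ : B → ℤ := fun x => τ x * τ' x with hσ
    set φ : G → ℂ := fun s => (1 / 4 : ℂ) *
      ∑ x ∈ H, (σ x : ℂ) * ((g x : ℂ) * ((x : IrrCharacter G) : G → ℂ) s) with hφ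
    have hφs : ∀ y ∈ H, ∀ s : G, ¬ 2 ∣ orderOf s →
        ((y : IrrCharacter G) : G → ℂ) s = ((g y * σ y : ℤ) : ℂ) * φ s := by
      intro y hy s hs
      have hR : ∀ U : B → ℤ, RelVec B H U →
          ∑ x ∈ H, (U x : ℂ) * ((x : IrrCharacter G) : G → ℂ) s = 0 := fun U hU => by
        rw [Finset.sum_subset (Finset.subset_univ H) fun x _ hx => by rw [hU.off x hx]; simp]
        exact hU.rel s hs
      have key : ∑ x ∈ H, (((1 + τ y * τ x) * (1 + τ' y * τ' x) : ℤ) : ℂ) *
          ((g x : ℂ) * ((x : IrrCharacter G) : G → ℂ) s) =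
          4 * ((g y : ℂ) * ((y : IrrCharacter G) : G → ℂ) s) := by
        rw [← Finset.add_sum_erase _ _ hy, Finset.sum_eq_zero (s := H.erase y) fun x hx => by
          rw [hsep y hy x (Finset.mem_of_mem_erase hx) (Finset.ne_of_mem_erase hx)]; simp, add_zero,
          show (1 + τ y * τ y) * (1 + τ' y * τ' y) = 4 by
            rcases hτ1 y hy with h | h <;> rcases hτ1' y hy with k | k <;> rw [h, k] <;> norm_num]
        push_cast; rfl
      rw [Finset.sum_congr rfl (g := fun x => (g x : ℂ) * ((x : IrrCharacter G) : G → ℂ) s +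
          (τ y : ℂ) * ((T x : ℂ) * ((x : IrrCharacter G) : G → ℂ) s) +
          (τ' y : ℂ) * ((T' x : ℂ) * ((x : IrrCharacter G) : G → ℂ) s) +
          (σ y : ℂ) * ((σ x : ℂ) * ((g x : ℂ) * ((x : IrrCharacter G) : G → ℂ) s))) fun x hx => by
        simp only [hσ, hτ, hτ']; push_cast
        linear_combination (((τ y : ℤ) : ℂ) * 0) + ((T y : ℂ) * (g y : ℂ) * (T x : ℂ) *
          ((x : IrrCharacter G) : G → ℂ) s + (T' y : ℂ) * (g y : ℂ) * (T' x : ℂ) *
          ((x : IrrCharacter G) : G → ℂ) s) * hgC x hx] at key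
      simp only [Finset.sum_add_distrib, ← Finset.mul_sum, hR g F.rel, hR T hT, hR T' hT',
        mul_zero, zero_add] at key
      simp only [hφ]
      push_cast
      linear_combination (-(g y : ℂ) / 4) * key - ((y : IrrCharacter G) : G → ℂ) s * hgC y hy
    refine Or.inl ⟨hl, fun _ => φ, fun x _ => if x ∈ H then g x * σ x else ε x * (σ a + σ b), ?_, ?_, ?_⟩
    · intro x s hs
      simp only [Fin.sum_univ_one]
      by_cases hxH : x ∈ H
      · rw [if_pos hxH]; exact hφs x hxH s hs
      · rw [if_neg hxH, hεs x hxH s hs, hφs a haH s hs, hφs b hbH s hs]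
        push_cast
        linear_combination ((ε x : ℂ) * (σ a : ℂ) * φ s) * hgC a haH +
          ((ε x : ℂ) * (σ b : ℂ) * φ s) * hgC b hbH
    · have hσ1 : ∀ x ∈ H, σ x = 1 ∨ σ x = -1 := fun x hx => by
        rcases hτ1 x hx with h | h <;> rcases hτ1' x hx with k | k <;> simp [hσ, h, k]
      rw [← Finset.sum_add_sum_compl H, Finset.sum_congr rfl (s₁ := H) (g := fun _ => 1) fun x hx => by
          simp only [if_pos hx]
          rcases F.rel.sign x hx with h | h <;> rcases hσ1 x hx with k | k <;> rw [h, k] <;> rfl,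
        Finset.sum_congr rfl (s₁ := Hᶜ) (g := fun _ => 4) fun x hx => by
          have hx' := Finset.mem_compl.mp hx
          simp only [if_neg hx']
          have hne : σ a + σ b ≠ 0 := fun h0 => by
            refine irr_apply_one_ne x (hεs x hx') ?_
            rw [hφs a haH 1 (by simp), hφs b hbH 1 (by simp)]
            have hC : (σ a : ℂ) + (σ b : ℂ) = 0 := by exact_mod_cast h0
            push_cast
            linear_combination ((ε x : ℂ) * φ 1) * hC + ((ε x : ℂ) * (σ a : ℂ) * φ 1) * hgC a haH +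
              ((ε x : ℂ) * (σ b : ℂ) * φ 1) * hgC b hbH
          rcases hσ1 a haH with h | h <;> rcases hσ1 b hbH with h' | h' <;>
            rcases hε x hx' with k | k <;> first | omega | (rw [h, h', k]; rfl),
        Finset.sum_const, Finset.sum_const, F.four, nsmul_one, nsmul_eq_mul, hcompl]
      push_cast
      ring
    · intro x hx
      have hxH := (F.height x).mpr hx
      simp only [if_pos hxH]
      rcases F.rel.sign x hxH with h | h <;> rcases hτ1 x hxH with k | k <;>
        rcases hτ1' x hxH with k' | k' <;> simp [hσ, h, k, k']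

end Cfsg.Agent.BC84.Tame
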