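import Cfsg.Agent.BC84.Tame.Main
import Cfsg.Agent.BC84.Dihedral.Main

/-!
# Three Brauer characters: the centre and solvability
-/

set_option autoImplicit false
set_option linter.unusedSectionVars false
set_option linter.style.haveILetI false

namespace Cfsg.Agent.BC84.Tame

open BlocksCore BlocksDefect BC85 BC85.Star BC84.Dihedral
open scoped Classical ComplexConjugate commutatorElement

universe u

variable {G : Type u} [Group G]

theorem tameData_of_dihedral {D : Subgroup G} {r : G} {h : ℕ} (S : DihData D r h) :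
    TameData D r h (-1 : ZMod (2 * h)) where
  mem := S.mem
  order := S.order
  pow := S.pow
  card := S.card
  kappa_sq := by ring
  kappa_two := ⟨-1, by ring⟩
  kappa_half := by
    rw [neg_one_mul, neg_eq_iff_add_eq_zero, ← Nat.cast_add, ← two_mul, ZMod.natCast_self]
  flip := fun x hx hxr => by
    haveI : NeZero (2 * h) := ⟨S.two_mul_ne_zero⟩
    obtain ⟨h1, h2⟩ := S.flip x hx hxr
    refine ⟨?_, Or.inl h1⟩
    have h3 : (S.rot (-1) : G) = r⁻¹ := by rw [S.rot_neg, Subgroup.coe_inv, S.rot_one]
    rw [h2, ← h3]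
    rfl

variable {D : Subgroup G} {r : G} {h : ℕ} {κ : ZMod (2 * h)} (S : TameData D r h κ)

include S

/-- An involution central in the whole group is the central one of `D`. -/
theorem eq_half_of_center {t : G} (ht : t ∈ D) (htc : t ∈ Subgroup.center G) (h2 : t * t = 1)
    (h1 : t ≠ 1) : t = r ^ h := by
  haveI := S.neZero
  by_cases htr : t ∈ Subgroup.zpowers r
  · exact S.eq_of_sq htr h2 h1
  · exfalso
    have h3 := S.conj_rot_refl ht htr 1
    rw [← Subgroup.mem_center_iff.mp htc, mul_inv_cancel_right, mul_one] at h3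
    have hk : κ = 1 := (S.rot_injective (Subtype.ext h3)).symm
    obtain ⟨w, hw⟩ := S.kappa_two
    rw [hk, sub_self, zero_mul] at hw
    exact S.half_ne_zero (by rw [← S.half_mul_two, ← hw, mul_zero])

/-- Elements conjugate to the central involution force an odd centre. -/
theorem odd_center [Fintype G] {M : Ideal AlgInt} (hM : IsPModular 2 M) {B : Set (IrrCharacter G)}
    (hB : IsPBlock M B) (hD : IsDefectGroup 2 M B D) {y g : G} (hyr : y ∉ Subgroup.zpowers r)
    (hg : g * y * g⁻¹ = r ^ h) : Odd (Nat.card (Subgroup.center G)) := by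
  haveI : Fact (Nat.Prime 2) := ⟨Nat.prime_two⟩
  by_contra hn
  rw [Nat.not_odd_iff_even, even_iff_two_dvd] at hn
  obtain ⟨⟨t, htc⟩, ht⟩ := exists_prime_orderOf_dvd_card' 2 hn
  rw [Subgroup.orderOf_mk] at ht
  have hle : Subgroup.zpowers t ≤ Subgroup.center G := Subgroup.zpowers_le.mpr htc
  haveI : (Subgroup.zpowers t).Normal := ⟨fun m hm x => by
    rw [Subgroup.mem_center_iff.mp (hle hm) x, mul_inv_cancel_right]; exact hm⟩
  have hQ : IsPGroup 2 (Subgroup.zpowers t) := IsPGroup.of_card (n := 1) (by rw [Nat.card_zpowers, ht, pow_one])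
  have htD : t ∈ D := le_defectGroup (Subgroup.zpowers t) hM hQ hB hD (Subgroup.mem_zpowers t)
  have ht2 : t * t = 1 := by rw [← pow_two, ← ht, pow_orderOf_eq_one]
  have ht1 : t ≠ 1 := fun q => by rw [q, orderOf_one] at ht; omega
  have htz := eq_half_of_center S htD htc ht2 ht1
  refine hyr ?_
  have : y = g⁻¹ * t * g := by rw [htz, ← hg]; group
  rw [this, Subgroup.mem_center_iff.mp htc g⁻¹, mul_assoc, inv_mul_cancel, mul_one, htz]
  exact Subgroup.pow_mem _ (Subgroup.mem_zpowers r) _

/-- Generating elements conjugate to even rotations prevent solvability. -/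
theorem not_solvable {y g g' : G} (hy : y ∈ D) (hyr : y ∉ Subgroup.zpowers r) {b b' : ZMod (2 * h)}
    (hg : g * y * g⁻¹ = (S.rot (2 * b) : G)) (hg' : g' * (r * y) * g'⁻¹ = (S.rot (2 * b') : G)) :
    ¬ Group.IsSolvable G := by
  haveI := S.neZero
  intro hs
  obtain ⟨k, hk⟩ := hs.solvable
  have hall : ∀ i : ℕ, D ≤ derivedSeries G i := by
    intro i
    induction i with
    | zero => rw [derivedSeries_zero]; exact le_top
    | succ i ih =>
      haveI := derivedSeries_normal (G := G) i
      haveI := derivedSeries_normal (G := G) (i + 1)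
      set N := derivedSeries G (i + 1) with hN
      have heven : ∀ c : ZMod (2 * h), (S.rot (2 * c) : G) ∈ N := by
        intro c
        obtain ⟨v, hv⟩ := S.kappa_two
        have h1 : (S.rot (2 * c) : G) = ⁅y, (S.rot (c * v) : G)⁆ := by
          rw [commutatorElement_def, S.conj_rot_refl hy hyr, ← Subgroup.coe_inv, ← S.rot_neg,
            ← Subgroup.coe_mul, ← S.rot_add]
          congr 2
          linear_combination (-c) * hv
        rw [h1, hN, derivedSeries_succ]
        exact Subgroup.commutator_mem_commutator (ih hy) (ih (S.rot _).2)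
      have hconj : ∀ a x : G, a * x * a⁻¹ ∈ N → x ∈ N := fun a x hx => by
        have := (inferInstance : N.Normal).conj_mem _ hx a⁻¹
        rwa [show a⁻¹ * (a * x * a⁻¹) * a⁻¹⁻¹ = x by group] at this
      have hyN : y ∈ N := hconj g y (hg ▸ heven b)
      have hryN : r * y ∈ N := hconj g' _ (hg' ▸ heven b')
      have hrN : r ∈ N := by
        have := N.mul_mem hryN (inv_mem hyN)
        rwa [mul_inv_cancel_right] at this
      intro x hx
      by_cases hxr : x ∈ Subgroup.zpowers r
      · exact Subgroup.zpowers_le.mpr hrN hxr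
      · obtain ⟨c, hc⟩ := S.exists_rot_mul hx hy hxr hyr
        rw [← hc]
        exact N.mul_mem (Subgroup.zpowers_le.mpr hrN (S.rot_mem c)) hyN
  have h1 := hall k hy
  rw [hk, Subgroup.mem_bot] at h1
  exact hyr (by rw [h1]; exact one_mem _)

omit S in
theorem even_rot_of_order [Fintype G] [Fact (Nat.Prime 2)] {S : TameData D r h κ} (h4 : 4 ≤ h) {c : ZMod (2 * h)}
    (hc : orderOf (S.rot c : G) = 4) : ∃ b, c = 2 * b := by
  haveI := S.neZero
  refine ⟨((c.val / 2 : ℕ) : ZMod (2 * h)), ?_⟩
  have heven : c.val % 2 = 0 := by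
    have h2 := rot_sq_of_order S hc
    obtain ⟨a, ha, hha⟩ := S.pow
    obtain ⟨q, hq⟩ : 4 ∣ h := hha ▸ (show 2 ^ 2 ∣ 2 ^ a from pow_dvd_pow 2 (by
      by_contra hlt; interval_cases a; omega))
    have h3 : (r ^ c.val) * (r ^ c.val) = r ^ h := h2
    rw [← pow_add, pow_eq_pow_iff_modEq, S.order] at h3
    have := ZMod.val_lt c
    rw [Nat.ModEq, Nat.mod_eq_of_lt (show h < 2 * h by omega)] at h3
    rcases lt_or_ge (c.val + c.val) (2 * h) with hlt | hge
    · rw [Nat.mod_eq_of_lt hlt] at h3; omega
    · rw [Nat.mod_eq_sub_mod hge, Nat.mod_eq_of_lt (by omega)] at h3; omega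
  conv_lhs => rw [← ZMod.natCast_zmod_val c, show c.val = 2 * (c.val / 2) by omega]
  push_cast
  rfl

variable [Fintype G] [Fact (Nat.Prime 2)] {M : Ideal AlgInt} [hP : M.IsPrime]
  (hM : IsPModular 2 M) {B : Set (IrrCharacter G)}
  {e : Set (IrrCharacter (Subgroup.centralizer (D : Set G)))}
  (hmax : IsMaximalBrauerPair 2 M B D e)

include hM hmax

/-- With `h + 3` members and three Brauer characters nothing outside the rotations is isolated. -/
theorem fused_of_three (hcard : Nat.card B = h + 3) (hl : blockRank 2 B = 3) {y : D}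
    (hy : (y : G) ∉ Subgroup.zpowers r) :
    (∃ c, Fused hM hmax (S.rot c) y) ∧ ∃ c, Fused hM hmax (S.rot c) (S.rot 1 * y) := by
  obtain ⟨U, -, -, -, hcov, hk⟩ := card_eq_classes hM hmax S y hy
  obtain ⟨e', hmax', -⟩ := exists_local_max hM hmax _ (fullyCentralized_half hM hmax S)
  have h1 : 1 ≤ blockRank 2 (atBelow hM hmax (S.rot ((h : ℕ) : ZMod (2 * h)))).2 :=
    one_le_blockRank hM hmax'
  have := S.two_le
  have hU : U = ∅ := Finset.card_eq_zero.mp (by omega)
  constructor
  · rcases hcov y (Or.inl rfl) with q | ⟨w, hw, -⟩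
    · exact q
    · simp [hU] at hw
  · rcases hcov (S.rot 1 * y) (Or.inr rfl) with q | ⟨w, hw, -⟩
    · exact q
    · simp [hU] at hw

end Cfsg.Agent.BC84.Tame
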