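import Cfsg.Agent.BC84.Tame.Numbers

/-!
# The numbers of members of the data
-/

set_option autoImplicit false
set_option linter.unusedSectionVars false

namespace Cfsg.Agent.BC84.Tame

open scoped Classical

/-- The exponent of two in a product with an odd number is determined. -/
theorem exp_unique {a b : ℕ} {m m' : ℤ} (hm : ¬ (2 : ℤ) ∣ m) (hm' : ¬ (2 : ℤ) ∣ m')
    (h : 2 ^ a * m = 2 ^ b * m') : a = b := by
  wlog hab : a ≤ b generalizing a b m m'
  · exact (this hm' hm h.symm (by omega)).symm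
  by_contra hne
  obtain ⟨k, rfl⟩ : ∃ k, b = a + (k + 1) := ⟨b - a - 1, by omega⟩
  rw [pow_add, mul_assoc] at h
  exact hm ⟨2 ^ k * m', by rw [mul_left_cancel₀ (pow_ne_zero a two_ne_zero) h, pow_succ]; ring⟩

theorem unit_not_dvd {m : ℤ} (h : m = 1 ∨ m = -1) : ¬ (2 : ℤ) ∣ m := by omega

/-- An odd square is one modulo eight. -/
theorem odd_sq_mod_eight {z : ℤ} (h : ¬ (2 : ℤ) ∣ z) : (8 : ℤ) ∣ z ^ 2 - 1 := by
  obtain ⟨k, rfl⟩ := Int.not_even_iff_odd.mp (fun he => h he.two_dvd)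
  obtain ⟨q, hq⟩ := (Int.even_mul_succ_self k).two_dvd
  exact ⟨q, by linear_combination 4 * hq⟩

namespace Data

variable {ι : Type*} [Fintype ι] {h : ℕ} (S : Data ι h)

include S

theorem budget : ∑ x ∈ S.H0, (S.t x ^ 2 - 1) + ∑ x ∈ S.extra, S.t x ^ 2 +
    ∑ x ∈ S.pureSet, (S.t x ^ 2 - 4) = 4 * (h : ℤ) - 4 - 4 * (S.pureSet.card : ℤ) := by
  have h1 : S.H0ᶜ = S.extra ∪ S.pureSet := by
    ext x; simp only [Finset.mem_compl, Finset.mem_union, mem_pure, mem_extra]; tauto
  have h2 : Disjoint S.extra S.pureSet := Finset.disjoint_left.mpr fun x hx hx' =>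
    (S.mem_extra.mp hx).2 (S.mem_pure.mp hx').2
  have := S.norm_t
  rw [← Finset.sum_add_sum_compl S.H0, h1, Finset.sum_union h2] at this
  simp only [Finset.sum_sub_distrib, Finset.sum_const, nsmul_eq_mul, S.four.1]
  push_cast
  linarith

theorem parts_nonneg : 0 ≤ ∑ x ∈ S.H0, (S.t x ^ 2 - 1) ∧ 0 ≤ ∑ x ∈ S.extra, S.t x ^ 2 ∧
    0 ≤ ∑ x ∈ S.pureSet, (S.t x ^ 2 - 4) :=
  ⟨Finset.sum_nonneg fun x hx => by
      linarith [one_le_sq_of_odd ((S.odd_t x).mpr (S.mem_H0.mp hx))],
    Finset.sum_nonneg fun x _ => sq_nonneg _,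
    Finset.sum_nonneg fun x hx => by linarith [S.pure_t hx]⟩

theorem eight_dvd_H0 : (8 : ℤ) ∣ ∑ x ∈ S.H0, (S.t x ^ 2 - 1) :=
  Finset.dvd_sum fun x hx => odd_sq_mod_eight ((S.odd_t x).mpr (S.mem_H0.mp hx))

theorem H0_one (h0 : ∑ x ∈ S.H0, (S.t x ^ 2 - 1) = 0) : ∀ x ∈ S.H0, S.t x ^ 2 = 1 := fun x hx => by
  have := (Finset.sum_eq_zero_iff_of_nonneg fun y hy => by
    linarith [one_le_sq_of_odd ((S.odd_t y).mpr (S.mem_H0.mp hy))]).mp h0 x hx
  linarith

theorem H0_one_of_card (hl : S.l = 1) (hc : h + 2 ≤ Fintype.card ι) :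
    ∀ x ∈ S.H0, S.t x ^ 2 = 1 := by
  have he : S.extra.card = 0 := by have := S.card_extra.1; omega
  have := S.card_split
  have := S.budget
  obtain ⟨p1, p2, p3⟩ := S.parts_nonneg
  obtain ⟨q, hq⟩ := S.eight_dvd_H0
  exact S.H0_one (by omega)

/-- With three vectors and the smallest group some member lies off `H0` without second part. -/
theorem pure_nonempty (hl : S.l = 3) (h2 : h = 2) : 1 ≤ S.pureSet.card := by
  by_contra hlt
  have hp0 : S.pureSet.card = 0 := by omega
  have hb := S.budget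
  obtain ⟨p1, p2, p3⟩ := S.parts_nonneg
  obtain ⟨q, hq⟩ := S.eight_dvd_H0
  have h2' : (h : ℤ) = 2 := by exact_mod_cast h2
  rw [h2', Finset.card_eq_zero.mp hp0, Finset.sum_empty, Finset.card_empty] at hb
  push_cast at hb
  have hone := S.H0_one (by omega)
  have hX : ∑ x ∈ S.extra, S.t x ^ 2 = 4 := by omega
  obtain ⟨hu1, hv1, huv, hboth⟩ := S.card_extra.2.2 hl
  have hcard : S.extra.card = 2 := by have := S.card_extra.1; omega
  obtain ⟨a, b, hab, hEx⟩ := Finset.card_eq_two.mp hcard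
  rw [hEx, Finset.sum_pair hab] at hX
  obtain ⟨X, X', hne, hEx', hX2, hX'⟩ :
      ∃ X X', X ≠ X' ∧ S.extra = {X, X'} ∧ S.t X ^ 2 = 4 ∧ S.t X' = 0 := by
    have ea : (2 : ℤ) ∣ S.t a := S.t_even (S.mem_extra.mp (by simp [hEx])).1
    have eb : (2 : ℤ) ∣ S.t b := S.t_even (S.mem_extra.mp (by simp [hEx])).1
    by_cases ha : S.t a = 0
    · exact ⟨b, a, hab.symm, by rw [hEx, Finset.pair_comm], by rw [ha] at hX; linarith, ha⟩
    · have := four_le_sq ha ea
      have hb0 : S.t b = 0 := pow_eq_zero_iff two_ne_zero |>.mp (by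
        have := sq_nonneg (S.t b); linarith)
      exact ⟨a, b, hab, hEx, by rw [hb0] at hX; linarith, hb0⟩
  obtain ⟨-, hw, -, -, -⟩ := (S.shape.resolve_left fun h' => by omega).resolve_left
    fun h' => by omega
  have hXm : X ∈ S.extra := by rw [hEx']; simp
  have hXu := (hboth X hXm).1
  have hterm : ∀ y ∈ S.H0, 0 ≤ S.t y * S.u y * (S.t X * S.u X) := by
    intro y hy
    by_cases huy : S.u y = 0
    · simp [huy]
    · have hvy : S.v y = 0 := by_contra fun h0 => huy ((huv y hy).mpr h0)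
      obtain ⟨m, hm, he⟩ := S.val X y (S.mem_H0.mp hy)
      rw [hw, h2', hvy, mul_zero, add_zero] at he
      have hne0 : S.t X * S.t y + 2 * (S.u X * S.u y) ≠ 0 := by
        rw [he]
        exact mul_ne_zero (pow_ne_zero _ two_ne_zero) fun h0 => hm (h0 ▸ dvd_zero 2)
      obtain ⟨k, hk⟩ := S.t_even (S.mem_extra.mp hXm).1
      have hk1 : k = 1 ∨ k = -1 := mul_self_eq_one_iff.mp (by rw [hk] at hX2; nlinarith)
      rcases sq_eq_one_iff.mp (hone y hy) with a1 | a1 <;>
        rcases (hu1 y).resolve_left huy with a2 | a2 <;>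
        rcases (hu1 X).resolve_left hXu with a3 | a3 <;>
        rcases hk1 with a4 | a4 <;> rw [hk, a1, a2, a3, a4] at hne0 ⊢ <;> omega
  have hsum := S.t_u
  rw [← Finset.sum_add_sum_compl S.H0] at hsum
  have hc : ∑ x ∈ S.H0ᶜ, S.t x * S.u x = S.t X * S.u X := by
    refine Finset.sum_eq_single X (fun z hz hzX => ?_)
      (fun hn => absurd (Finset.mem_compl.mpr (S.mem_extra.mp hXm).1) hn)
    by_cases hu0 : S.u z = 0
    · rw [hu0, mul_zero]
    · have : z ∈ S.extra := S.mem_extra.mpr ⟨Finset.mem_compl.mp hz, fun h' => hu0 h'.1⟩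
      rw [hEx', Finset.mem_insert, Finset.mem_singleton] at this
      rw [this.resolve_left hzX, hX', zero_mul]
  have hs := Finset.sum_nonneg hterm
  rw [← Finset.sum_mul, show ∑ x ∈ S.H0, S.t x * S.u x = -(S.t X * S.u X) by linarith] at hs
  have : 0 < (S.t X * S.u X) ^ 2 := by
    refine sq_pos_of_ne_zero (mul_ne_zero (fun h0 => ?_) hXu)
    rw [h0] at hX2; norm_num at hX2
  nlinarith

theorem pure_card (hcase : S.l = 1 → h + 2 ≤ Fintype.card ι ∨ ∀ x ∈ S.H0, S.t x ^ 2 = 1) :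
    S.pureSet.card + 1 = h := by
  have := S.neZero
  have hb := S.budget
  obtain ⟨p1, p2, p3⟩ := S.parts_nonneg
  obtain ⟨e, he, hhe⟩ := S.pow
  have hup : S.pureSet.card + 1 ≤ h := by omega
  by_cases hl : S.l = 1
  · have hone : ∀ x ∈ S.H0, S.t x ^ 2 = 1 := (hcase hl).elim (S.H0_one_of_card hl) id
    rcases (by omega : e = 1 ∨ e = 2 ∨ 3 ≤ e) with rfl | rfl | h3
    iterate 2
      have hE : S.extra = ∅ := Finset.card_eq_zero.mp (by have := S.card_extra.1; omega)
      rw [Finset.sum_eq_zero (fun x hx => by rw [hone x hx, sub_self]), hE, Finset.sum_empty] at hb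
      by_cases hbig : ∃ x ∈ S.pureSet, S.t x ^ 2 ≠ 4
      · obtain ⟨x, hx, hx4⟩ := hbig
        obtain ⟨k, hk⟩ := S.t_even (S.mem_pure.mp hx).1
        have h16 : 16 ≤ S.t x ^ 2 := by
          have h4 := S.pure_t hx
          rw [hk] at hx4 h4 ⊢
          rcases (by omega : k ≤ -2 ∨ k = -1 ∨ k = 0 ∨ k = 1 ∨ 2 ≤ k) with c | c | c | c | c
          · nlinarith
          · simp [c] at hx4
          · simp [c] at h4
          · simp [c] at hx4
          · nlinarith
        have := Finset.single_le_sum (f := fun y => S.t y ^ 2 - 4)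
          (fun y hy => by linarith [S.pure_t hy]) hx
        try simp only at this
        have : 1 ≤ S.pureSet.card := Finset.card_pos.mpr ⟨x, hx⟩
        omega
      · push Not at hbig
        rw [Finset.sum_eq_zero (fun x hx => by rw [hbig x hx, sub_self])] at hb
        omega
    have : 2 ^ 3 ≤ 2 ^ e := Nat.pow_le_pow_right two_pos h3
    have h4 : 4 ≤ h := by omega
    obtain ⟨E, ε, hs⟩ := S.exists_split h4
    have := S.pure_ge h4 hs (Or.inr ⟨hone, by omega⟩)
    omega
  · rcases (by omega : e = 1 ∨ 2 ≤ e) with rfl | h3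
    · have hl3 : S.l = 3 := by
        rcases S.shape with h' | ⟨-, h', -⟩ | h'
        · exact absurd h'.1 hl
        · omega
        · exact h'.1
      have := S.pure_nonempty hl3 (by simpa using hhe)
      omega
    · have : 2 ^ 2 ≤ 2 ^ e := Nat.pow_le_pow_right two_pos h3
      have h4 : 4 ≤ h := by omega
      obtain ⟨E, ε, hs⟩ := S.exists_split h4
      have := S.pure_ge h4 hs (Or.inl hl)
      omega

/-- The numbers of members. -/
theorem numbers (hcase : S.l = 1 → h + 2 ≤ Fintype.card ι ∨ ∀ x ∈ S.H0, S.t x ^ 2 = 1) :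
    Fintype.card ι = h + 2 + S.l ∧ S.H0.card = 4 ∧ (∀ x ∈ S.H0, S.t x ^ 2 = 1) ∧
      (∀ e : ℕ, h = 2 ^ e → ∀ x, S.ht x = 0 ∨ S.ht x = 1 ∨ S.ht x = e) ∧
      (4 ≤ h → (Finset.univ.filter fun x => S.ht x = 1).card = h - 1) := by
  have hp := S.pure_card hcase
  have hb := S.budget
  obtain ⟨p1, p2, p3⟩ := S.parts_nonneg
  have hone := S.H0_one (by omega)
  have hX0 : ∀ x ∈ S.extra, S.t x = 0 := fun x hx => pow_eq_zero_iff two_ne_zero |>.mp
    ((Finset.sum_eq_zero_iff_of_nonneg fun y _ => sq_nonneg (S.t y)).mp (by omega) x hx)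
  have hP : ∀ x ∈ S.pureSet, S.t x ^ 2 = 4 := fun x hx => by
    have := (Finset.sum_eq_zero_iff_of_nonneg fun y hy => by linarith [S.pure_t hy]).mp
      (show ∑ x ∈ S.pureSet, (S.t x ^ 2 - 4) = 0 by omega) x hx
    linarith
  obtain ⟨y, hy⟩ := S.zero
  have hyH := S.mem_H0.mpr hy
  have hpht : ∀ x ∈ S.pureSet, S.ht x = 1 := by
    intro x hx
    obtain ⟨-, hu, hv⟩ := S.mem_pure.mp hx
    obtain ⟨m, hm, he⟩ := S.val x y hy
    rw [hu, hv, zero_mul, zero_mul, add_zero, mul_zero, add_zero] at he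
    obtain ⟨k, hk⟩ := S.t_even (S.mem_pure.mp hx).1
    have hk1 : k = 1 ∨ k = -1 := by
      have := hP x hx; rw [hk] at this
      exact mul_self_eq_one_iff.mp (by nlinarith)
    refine exp_unique hm (m' := k * S.t y) (unit_not_dvd ?_) (by rw [← he, hk, pow_one]; ring)
    rcases hk1 with a | a <;> rcases sq_eq_one_iff.mp (hone y hyH) with b | b <;> simp [a, b]
  have hxht : ∀ e : ℕ, h = 2 ^ e → ∀ x ∈ S.extra, S.ht x = e := by
    intro e hhe x hx
    obtain ⟨m, hm, he⟩ := S.val x y hy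
    have hhe' : (h : ℤ) = 2 ^ e := by exact_mod_cast hhe
    rw [hX0 x hx, zero_mul, zero_add] at he
    rcases S.shape with ⟨-, hu, hv⟩ | ⟨hl, -, hw, -, hv, -⟩ | ⟨hl, hw, -, -, -⟩
    · exact absurd ⟨hu x, hv x⟩ (S.mem_extra.mp hx).2
    · obtain ⟨hH, hE⟩ := S.card_extra.2.1 hl
      obtain ⟨k, hk⟩ : (2 : ℤ) ∣ S.u x := by
        have := hE x hx
        by_contra hd
        obtain ⟨q, hq⟩ := odd_sq_mod_eight hd
        omega
      rw [hv x, zero_mul, add_zero, hk] at he
      have hk1 : k = 1 ∨ k = -1 := by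
        have := hE x hx; rw [hk] at this
        exact mul_self_eq_one_iff.mp (by nlinarith)
      refine exp_unique hm (m' := k * S.u y) (unit_not_dvd ?_) ?_
      · rcases hk1 with a | a <;> rcases sq_eq_one_iff.mp (hH y hyH).2 with b | b <;> simp [a, b]
      · rw [← he, show ((2 : ℤ) ^ e) = 2 * S.wt by rw [hw, hhe']]; ring
    · obtain ⟨hu1, hv1, huv, hboth⟩ := S.card_extra.2.2 hl
      refine exp_unique hm (m' := S.u x * S.u y + S.v x * S.v y) (unit_not_dvd ?_) ?_
      · have := huv y hyH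
        rcases (hu1 x).resolve_left (hboth x hx).1 with a | a <;>
          rcases (hv1 x).resolve_left (hboth x hx).2 with a' | a' <;>
          rcases hu1 y with b | b | b <;> rcases hv1 y with b' | b' | b' <;>
          simp [a, a', b, b'] at this ⊢
      · rw [← he, hw, hhe']
  have htri : ∀ x, x ∈ S.H0 ∨ x ∈ S.extra ∨ x ∈ S.pureSet := fun x => by
    simp only [mem_extra, mem_pure]; tauto
  refine ⟨?_, S.four.1, hone, fun e hhe x => ?_, fun h4 => ?_⟩
  · have := S.card_split; have := S.card_extra.1; omega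
  · rcases htri x with h0 | h0 | h0
    exacts [Or.inl (S.mem_H0.mp h0), Or.inr (Or.inr (hxht e hhe x h0)), Or.inr (Or.inl (hpht x h0))]
  · obtain ⟨e, -, hhe⟩ := S.pow
    have heq : (Finset.univ.filter fun x => S.ht x = 1) = S.pureSet := by
      ext x
      simp only [Finset.mem_filter, Finset.mem_univ, true_and]
      refine ⟨fun hx => ?_, hpht x⟩
      rcases htri x with h0 | h0 | h0
      · have := S.mem_H0.mp h0; omega
      · have := hxht e hhe x h0
        rw [show e = 1 by omega] at hhe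
        omega
      · exact h0
    rw [heq]; omega

end Data

end Cfsg.Agent.BC84.Tame
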