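import Cfsg.Agent.BC84.Tame.Lattice
import Cfsg.Agent.BC84.Tame.Points
import Cfsg.Agent.BC84.Tame.Frame

/-!
# Integral coordinates at a subsection
-/

set_option autoImplicit false
set_option linter.unusedSectionVars false

namespace Cfsg.Agent.BC84.Tame

open BlocksCore BlocksDefect BC85 BC85.Star BC84.Dihedral
open scoped Classical ComplexConjugate Matrix

universe u

variable {G : Type u} [Group G] [Fintype G] {p : ℕ} [Fact p.Prime] {M : Ideal AlgInt}
  [hP : M.IsPrime] (hM : IsPModular p M) {B : Set (IrrCharacter G)} {P : Subgroup G}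
  {e : Set (IrrCharacter (Subgroup.centralizer (P : Set G)))}
  (hmax : IsMaximalBrauerPair p M B P e)

include hM hmax

/-- Integral coordinates of the members at a subsection, as many as its rank. -/
structure ZCoord (v : P) {l : ℕ} (φ : Fin l → G → ℂ) (d : IrrCharacter G → Fin l → ℤ) : Prop where
  proj_eq : ∀ χ ∈ B, ∀ s ∈ sect p (v : G),
    proj (atBelow hM hmax v) (v : G) (χ : G → ℂ) s = ∑ a, (d χ a : ℂ) * φ a s
  rank : blockRank p (atBelow hM hmax v).2 = l

/-- The scalar products of the coordinates. -/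
noncomputable def intGram {l : ℕ} (B : Set (IrrCharacter G)) (d : IrrCharacter G → Fin l → ℤ) :
    Matrix (Fin l) (Fin l) ℤ :=
  Matrix.of fun a b => ∑ χ ∈ CharCore.SubContrib.mems B, d χ a * d χ b

omit hM hmax in
theorem colGram_eq {l : ℕ} (B : Set (IrrCharacter G)) (d : IrrCharacter G → Fin l → ℤ) :
    colGram B d = (intGram B d).map (fun x : ℤ => (x : ℂ)) := by
  ext a b
  simp only [colGram, intGram, Matrix.map_apply, Matrix.of_apply, Int.cast_sum, Int.cast_mul]

variable {hM hmax}

variable {v : P} {l : ℕ} {φ : Fin l → G → ℂ} {d : IrrCharacter G → Fin l → ℤ}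
  (Z : ZCoord hM hmax v φ d)
include Z

theorem ZCoord.inverse : sectGram p (v : G) φ * colGram B d = 1 :=
  sectGram_mul_colGram hM hmax v φ d Z.proj_eq Z.rank

/-- A scaled inverse of the scalar products gives the contributions. -/
theorem ZCoord.contrib {N : ℤ} {Y : Matrix (Fin l) (Fin l) ℤ}
    (hY : Y * intGram B d = N • (1 : Matrix (Fin l) (Fin l) ℤ)) {χ ψ : IrrCharacter G}
    (hχ : χ ∈ B) (hψ : ψ ∈ B) :
    (N : ℂ) * contribAt p (atBelow hM hmax v) (v : G) (χ : G → ℂ) (ψ : G → ℂ) =
      (Nat.card (Subgroup.centralizer ({(v : G)} : Set G)) : ℂ) *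
        ((∑ a, ∑ b, d χ a * Y a b * d ψ b : ℤ) : ℂ) := by
  set C : ℂ := (Nat.card (Subgroup.centralizer ({(v : G)} : Set G)) : ℂ) with hC
  have hC0 : C ≠ 0 := Nat.cast_ne_zero.mpr Nat.card_pos.ne'
  have hinv : colGram B d * sectGram p (v : G) φ = 1 := mul_eq_one_comm.mp Z.inverse
  have hYc : Y.map (fun x : ℤ => (x : ℂ)) * colGram B d = (N : ℂ) • (1 : Matrix (Fin l) (Fin l) ℂ) := by
    ext a b
    have h := congrArg (fun Z : Matrix (Fin l) (Fin l) ℤ => ((Z a b : ℤ) : ℂ)) hY
    simp only [Matrix.mul_apply, intGram, Matrix.of_apply, Matrix.smul_apply, Matrix.one_apply,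
      smul_eq_mul, Int.cast_sum, Int.cast_mul, Int.cast_ite, Int.cast_one, Int.cast_zero] at h
    simp only [Matrix.mul_apply, Matrix.map_apply, colGram, Matrix.of_apply, Matrix.smul_apply,
      Matrix.one_apply, smul_eq_mul]
    exact h
  have hYX : Y.map (fun x : ℤ => (x : ℂ)) = (N : ℂ) • sectGram p (v : G) φ := by
    rw [← Matrix.mul_one (Y.map _), ← hinv, ← Matrix.mul_assoc, hYc, Matrix.smul_mul, Matrix.one_mul]
  rw [contribAt_eq_sum hM (orderOf_pow_of_mem hmax.1.1.1 v.2) (atBelow_mem hM hmax v)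
      (irr_class χ) (irr_class ψ), Finset.sum_congr rfl fun s hs => by
        rw [Z.proj_eq χ hχ s hs, Z.proj_eq ψ hψ s hs, map_sum, Finset.sum_mul_sum],
    Finset.sum_comm, Int.cast_sum, Finset.mul_sum, Finset.mul_sum]
  refine Finset.sum_congr rfl fun a _ => ?_
  rw [Finset.sum_comm, Int.cast_sum, Finset.mul_sum, Finset.mul_sum]
  refine Finset.sum_congr rfl fun b _ => ?_
  have h := congrFun (congrFun hYX a) b
  simp only [Matrix.map_apply, Matrix.smul_apply, sectGram, Matrix.of_apply, smul_eq_mul] at h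
  push_cast
  rw [h, Finset.mul_sum, Finset.mul_sum, Finset.mul_sum, Finset.mul_sum, Finset.sum_mul, Finset.mul_sum]
  refine Finset.sum_congr rfl fun s _ => ?_
  rw [map_mul, map_intCast, ← hC]
  field_simp

/-- A combination of the coordinates that vanishes is trivial. -/
theorem ZCoord.indep {w : Fin l → ℂ} (h : ∀ s ∈ sect p (v : G), ∑ a, w a * φ a s = 0) : w = 0 := by
  have h1 : ∀ b, ∑ a, w a * sectGram p (v : G) φ a b = 0 := by
    intro b
    simp only [sectGram, Matrix.of_apply]
    rw [Finset.sum_congr rfl fun a _ => by rw [← mul_assoc, mul_comm (w a), mul_assoc, Finset.mul_sum],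
      ← Finset.mul_sum, Finset.sum_comm, Finset.sum_eq_zero fun s hs => ?_, mul_zero]
    rw [Finset.sum_congr rfl (g := fun a => (w a * φ a s) * conj (φ b s)) fun a _ => by ring,
      ← Finset.sum_mul, h s hs, zero_mul]
  have hw : w ᵥ* sectGram p (v : G) φ = 0 := funext h1
  rw [← Matrix.vecMul_one w, ← Z.inverse, ← Matrix.vecMul_vecMul, hw, Matrix.zero_vecMul]

/-- The coordinates are orthogonal to the columns of the other subsections. -/
theorem ZCoord.orth_column {w : P} {T : IrrCharacter G → ℂ} {Q : G → ℂ} {m : ℕ}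
    (hcol : IsColumn hM hmax w T Q m) (hne : ¬ Fused hM hmax w v) (a : Fin l) :
    ∑ ψ ∈ CharCore.SubContrib.mems B, conj (T ψ) * (d ψ a : ℂ) = 0 := by
  refine congrFun (Z.indep (w := fun a => ∑ ψ ∈ CharCore.SubContrib.mems B, conj (T ψ) * (d ψ a : ℂ))
    fun s hs => ?_) a
  obtain ⟨χ, hχ, hT⟩ := hcol.exists_T
  have hst := isPairStable_classOf hM hmax w
  have h1 := proj_starMul hM hmax hst (irr_class χ) (orderOf_pow_of_mem hmax.1.1.1 v.2)
    (atBelow_mem hM hmax v) (mem_sect.mp hs).1 (mem_sect.mp hs).2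
  rw [etaOf_atBelow hM hmax hst, classOf_eq, if_neg hne, zero_mul,
    show starMul p M P e (classOf hM hmax w) (χ : G → ℂ) = fun g =>
      ∑ ψ ∈ CharCore.SubContrib.mems B, (T χ / (m : ℂ) * conj (T ψ)) * (ψ : G → ℂ) g from
      funext fun g => by
        rw [hcol.starMul_eq hχ, Finset.mul_sum]
        exact Finset.sum_congr rfl fun ψ _ => by ring,
    proj_sum, Finset.sum_congr rfl fun ψ hψ => by
      rw [Z.proj_eq ψ (CharCore.SubContrib.mem_mems.mp hψ) s hs, Finset.mul_sum], Finset.sum_comm] at h1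
  refine (mul_eq_zero.mp (show (T χ / (m : ℂ)) * _ = 0 from ?_)).resolve_left
    (div_ne_zero hT hcol.m_ne_zero)
  rw [Finset.mul_sum]
  refine Eq.trans (Finset.sum_congr rfl fun b _ => ?_) h1
  rw [Finset.sum_mul, Finset.mul_sum]
  exact Finset.sum_congr rfl fun ψ _ => by ring

/-- The coordinates are orthogonal to the members at the regular elements. -/
theorem ZCoord.sum_regular (hv : v ≠ 1) {s : G} (hs : ¬ p ∣ orderOf s) (a : Fin l) :
    ∑ ψ ∈ CharCore.SubContrib.mems B, (d ψ a : ℂ) * (ψ : G → ℂ) s = 0 := by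
  set X := sectGram p (v : G) φ with hX
  set C : ℂ := (Nat.card (Subgroup.centralizer ({(v : G)} : Set G)) : ℂ) with hC
  have hC0 : C ≠ 0 := Nat.cast_ne_zero.mpr Nat.card_pos.ne'
  have hG : (Nat.card G : ℂ) ≠ 0 := Nat.cast_ne_zero.mpr Nat.card_pos.ne'
  set W : Fin l → ℂ := fun b => ∑ ψ ∈ CharCore.SubContrib.mems B, (d ψ b : ℂ) * (ψ : G → ℂ) s with hW
  show W a = 0
  have hexp : ∀ χ ∈ B, ∑ a, (d χ a : ℂ) * ∑ b, X a b * W b = 0 := by
    intro χ hχ
    have hst := isPairStable_classOf hM hmax v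
    have h := starMul_regular hM hmax hst hχ hs
    rw [classOf_one hM hmax hv, zero_mul,
      CharCore.eq_sum_classInner (starMul_isClassFunction hM hmax hst (irr_class χ)),
      Finset.sum_apply, ← Finset.sum_subset (Finset.subset_univ (CharCore.SubContrib.mems B))
        fun ψ _ hψ => by
          rw [classInner_starMul_of_notMem hM hmax fun q => hψ (CharCore.SubContrib.mem_mems.mpr q),
            zero_smul]; rfl] at h
    refine Eq.trans ?_ h
    simp only [Pi.smul_apply, smul_eq_mul]
    have hQ : ∀ ψ ∈ B, classInner (starMul p M P e (classOf hM hmax v) (χ : G → ℂ)) (ψ : G → ℂ) =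
        ∑ a, ∑ b, (d χ a : ℂ) * X a b * (d ψ b : ℂ) := by
      intro ψ hψ
      rw [starMul, classInner_starFun_eq hM,
        sum_classOf hM hmax v (fun a u => contribAt p a u (χ : G → ℂ) (ψ : G → ℂ))
          fun t => contribAt_conjPair (irr_class χ) (irr_class ψ) _ t _,
        contribAt_eq_sum hM (orderOf_pow_of_mem hmax.1.1.1 v.2) (atBelow_mem hM hmax v)
          (irr_class χ) (irr_class ψ), Finset.sum_congr rfl fun t ht => by
            rw [Z.proj_eq χ hχ t ht, Z.proj_eq ψ hψ t ht, map_sum, Finset.sum_mul_sum],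
        Finset.sum_comm, show (classCount hM hmax v) = (Nat.card G : ℂ) / C by
          rw [eq_div_iff hC0]; exact classCount_mul hM hmax v,
        ← mul_assoc, div_eq_mul_inv, inv_mul_cancel_left₀ hG, Finset.mul_sum]
      refine Finset.sum_congr rfl fun i _ => ?_
      rw [Finset.sum_comm, Finset.mul_sum]
      refine Finset.sum_congr rfl fun b _ => ?_
      simp only [hX, sectGram, Matrix.of_apply, Finset.mul_sum, Finset.sum_mul, map_mul, map_intCast]
      exact Finset.sum_congr rfl fun t _ => by rw [hC]; ring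
    refine Eq.trans (Eq.trans ?_ Finset.sum_comm) (Finset.sum_congr rfl fun (ψ : IrrCharacter G)
      (hψ : ψ ∈ CharCore.SubContrib.mems B) => by
        rw [hQ ψ (CharCore.SubContrib.mem_mems.mp hψ), Finset.sum_mul]).symm
    refine Finset.sum_congr rfl fun i _ => ?_
    simp only [hW, Finset.mul_sum, Finset.sum_mul]
    rw [Finset.sum_comm]
    exact Finset.sum_congr rfl fun ψ _ => Finset.sum_congr rfl fun b _ => by ring
  have h2 : colGram B d *ᵥ (X *ᵥ W) = 0 := funext fun c => by
    simp only [Matrix.mulVec, dotProduct, colGram, Matrix.of_apply, Pi.zero_apply, Finset.sum_mul]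
    rw [Finset.sum_comm]
    refine Finset.sum_eq_zero fun χ hχ => ?_
    rw [Finset.sum_congr rfl (g := fun i => (d χ c : ℂ) * ((d χ i : ℂ) * ∑ b, X i b * W b))
      fun i _ => by ring, ← Finset.mul_sum, hexp χ (CharCore.SubContrib.mem_mems.mp hχ), mul_zero]
  rw [Matrix.mulVec_mulVec, mul_eq_one_comm.mp Z.inverse, Matrix.one_mulVec] at h2
  exact congrFun h2 a

omit Z

/-- The projection at a central element of the group. -/
theorem proj_atBelow_central (hvc : (v : G) ∈ Subgroup.center G) {χ : IrrCharacter G} (hχ : χ ∈ B)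
    {s : G} (hs : ¬ p ∣ orderOf s) :
    proj (atBelow hM hmax v) (v : G) (χ : G → ℂ) s = (χ : G → ℂ) ((v : G) * s) := by
  have h1 := sum_proj (M := M) hM (v : G) (χ : G → ℂ) s
  refine Eq.trans ?_ h1
  refine Eq.symm (Finset.sum_eq_single (atBelow hM hmax v) (fun a ha hne => ?_)
    (fun hn => absurd (atBelow_mem hM hmax v) hn))
  by_cases hB : IsBrauerPairOf p M B a.1 a.2
  · exfalso
    obtain ⟨x, hx, hxu⟩ := exists_conj_mem hM hmax (mem_pairsAt.mp ha).1 hB
    have hxv : x * (v : G) * x⁻¹ = v := by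
      rw [Subgroup.mem_center_iff.mp hvc x, mul_inv_cancel_right]
    have hxa : conjPair x a = atBelow hM hmax v :=
      below_ext hM hmax hx (atBelow_le hM hmax _) (by
        rw [conjPair_fst, (mem_pairsAt.mp ha).1, map_conj_zpowers, hxv]; rfl)
    refine hne (Eq.trans ?_ hxa)
    exact (conjPair_fixed_of_centralizer (mem_pairsAt.mp ha).1
      (Subgroup.mem_centralizer_singleton_iff.mpr (Subgroup.mem_center_iff.mp hvc x))).symm
  · exact proj_eq_zero_of_not_pairOf hM hmax.1.2.1 hχ (orderOf_pow_of_mem hmax.1.1.1 v.2) ha hB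
      (s := ⟨s, Subgroup.mem_centralizer_singleton_iff.mpr (Subgroup.mem_center_iff.mp hvc s)⟩)
      (by rwa [← Subgroup.orderOf_coe])

/-- The rank at a central element of the group. -/
theorem blockRank_atBelow_central (hvc : (v : G) ∈ Subgroup.center G) :
    blockRank p (atBelow hM hmax v).2 = blockRank p B := by
  have hv := orderOf_pow_of_mem hmax.1.1.1 v.2
  have hcent : Subgroup.centralizer ({(v : G)} : Set G) = ⊤ := eq_top_iff.mpr fun c _ =>
    Subgroup.mem_centralizer_singleton_iff.mpr (Subgroup.mem_center_iff.mp hvc c)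
  have h1 := trace_contribAt hM hmax.1.2.1 hv (atBelow_mem hM hmax v) (atBelow_pairOf hM hmax v)
  rw [show Nat.card (Subgroup.centralizer ({(v : G)} : Set G)) = Nat.card G by
    rw [hcent, Subgroup.card_top]] at h1
  haveI := Fintype.ofFinite B
  have h2 := blockRank_eq_sum hM hmax.1.2.1 (p := p)
  refine Nat.cast_injective (R := ℂ) (mul_left_cancel₀
    (Nat.cast_ne_zero.mpr Nat.card_pos.ne' : (Nat.card G : ℂ) ≠ 0) ?_)
  rw [← h1, h2, Finset.mul_sum, ← Finset.sum_subtype (CharCore.SubContrib.mems B)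
    (fun _ => CharCore.SubContrib.mem_mems) (fun χ : IrrCharacter G => (Nat.card G : ℂ) * prj p χ χ)]
  refine Finset.sum_congr rfl fun χ hχ => ?_
  rw [contribAt_eq_sum hM hv (atBelow_mem hM hmax v) (irr_class χ) (irr_class χ), prj_def,
    classInner, ← mul_assoc, mul_inv_cancel₀ (Nat.cast_ne_zero.mpr Nat.card_pos.ne'), one_mul,
    sect, Finset.sum_filter]
  refine Finset.sum_congr rfl fun s _ => ?_
  by_cases hs : p ∣ orderOf s
  · rw [if_neg fun h => h.2 hs, BC85.pRegularPart_neg hs, zero_mul]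
  · rw [if_pos ⟨by rw [hcent]; trivial, hs⟩, BC85.pRegularPart_pos hs,
      proj_atBelow_central hvc (CharCore.SubContrib.mem_mems.mp hχ) hs]
    rw [show (v : G) * s = s * v from (Subgroup.mem_center_iff.mp hvc s).symm,
      apply_mul_of_center χ hvc, map_mul]
    have hn : cval χ (v : G) * conj (cval χ (v : G)) = 1 := by
      rw [cval, map_div₀, ← CharCore.IsCharacter.apply_inv (CharCore.irr_isCharacter χ),
        ← CharCore.IsCharacter.apply_inv (CharCore.irr_isCharacter χ), inv_one]
      exact cval_mul_inv χ hvc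
    linear_combination ((χ : G → ℂ) s * conj ((χ : G → ℂ) s)) * hn

end Cfsg.Agent.BC84.Tame
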