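import Cfsg.Agent.BC84.Tame.ZLift
import Cfsg.Agent.BC84.Tame.RotColumns
import Cfsg.Agent.BC84.Tame.Totals

/-!
# The counting data of a block with semidihedral or quaternion defect group
-/

set_option autoImplicit false
set_option linter.unusedSectionVars false
set_option linter.style.haveILetI false

namespace Cfsg.Agent.BC84.Tame

open BlocksCore BlocksDefect BC85 BC85.Star BC84.Dihedral
open scoped Classical ComplexConjugate Matrix
open ZMod (stdAddChar)

universe u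

variable {G : Type u} [Group G] [Fintype G] [Fact (Nat.Prime 2)] {M : Ideal AlgInt} [hP : M.IsPrime]

/-- An integral contribution has the heights as two-adic values. -/
theorem val_of_Mc (hM : IsPModular 2 M) {u : G} {k : ℕ} (hu : orderOf u = 2 ^ k)
    {B : Set (IrrCharacter G)} {b : Set (IrrCharacter (Subgroup.centralizer ({u} : Set G)))}
    (hind : IsInducedBlock M (Subgroup.centralizer ({u} : Set G)) b B)
    (hdb : blockDefect 2 b = blockDefect 2 B) {χ ψ : IrrCharacter G} (hχ : χ ∈ B) (hψ : ψ ∈ B)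
    (hψ0 : blockHeight 2 B (ψ : G → ℂ) = 0) {F : ℤ} (hF : Mc b χ ψ = (F : ℂ)) :
    ∃ m : ℤ, ¬ (2 : ℤ) ∣ m ∧ F = 2 ^ blockHeight 2 B (χ : G → ℂ) * m := by
  obtain ⟨hloc, hnot⟩ := Mc_val_zero hM hu hind hdb hχ hψ hψ0
  rw [hF] at hloc hnot
  set j := blockHeight 2 B (χ : G → ℂ)
  have hdvd : (2 : ℤ) ^ j ∣ F := by
    suffices ∀ i ≤ j, (2 : ℤ) ^ i ∣ F from this j le_rfl
    intro i hi
    induction i with
    | zero => simp
    | succ i ih =>
      obtain ⟨q, hq⟩ := ih (Nat.le_of_succ_le hi)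
      obtain ⟨w, hw⟩ : ∃ w, j = i + (w + 1) := ⟨j - i - 1, by omega⟩
      have h2I : MemLocalIdeal M ((2 : ℂ) ^ (w + 1)) := by
        have h3 := (memLocalIdeal_natCast_iff hM (2 ^ (w + 1))).mpr (dvd_pow_self 2 (Nat.succ_ne_zero w))
        push_cast at h3
        exact h3
      have h4 := memLocalIdeal_mul_right h2I hloc
      rw [hq, hw, show (2 : ℂ) ^ (w + 1) * (((2 ^ i * q : ℤ) : ℂ) / 2 ^ (i + (w + 1))) = (q : ℂ) by
        push_cast; field_simp; ring] at h4
      rw [pow_succ, hq]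
      exact mul_dvd_mul_left _ ((memLocalIdeal_intCast_iff hM _).mp h4)
  obtain ⟨m, hm⟩ := hdvd
  refine ⟨m, fun hd => hnot ?_, hm⟩
  rw [hm, show (((2 ^ j * m : ℤ) : ℤ) : ℂ) / 2 ^ j = (m : ℂ) by push_cast; field_simp]
  exact (memLocalIdeal_intCast_iff hM _).mpr (by exact_mod_cast hd)

variable (hM : IsPModular 2 M) {B : Set (IrrCharacter G)} {D : Subgroup G}
  {e : Set (IrrCharacter (Subgroup.centralizer (D : Set G)))}
  (hmax : IsMaximalBrauerPair 2 M B D e) {r : G} {h : ℕ} {κ : ZMod (2 * h)} (S : TameData D r h κ)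

include hM hmax S

theorem fullyCentralized_one :
    (blockFusion hM hmax.1.1).IsFullyCentralized (Subgroup.zpowers (S.rot 1 : G)) := by
  haveI := S.neZero
  have h10 : (1 : ZMod (2 * h)) ≠ 0 ∧ (1 : ZMod (2 * h)) ≠ ((h : ℕ) : ZMod (2 * h)) := by
    have := S.two_le
    constructor <;> intro he <;> have hz := congrArg ZMod.val he
    · rw [← Nat.cast_one, ZMod.val_natCast_of_lt (by omega), ZMod.val_zero] at hz; omega
    · rw [← Nat.cast_one, ZMod.val_natCast_of_lt (by omega), ZMod.val_natCast_of_lt (by omega)] at hz; omega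
  refine fullyCentralized_of_fused hM hmax _ fun w hw => ?_
  have ho : orderOf (w : G) = 2 * h := by rw [hw.orderOf_eq hM hmax, S.rot_one, S.order]
  have hww : (w : G) * w ≠ 1 := fun q => by
    have h2 := Nat.le_of_dvd two_pos (orderOf_dvd_of_pow_eq_one (show (w : G) ^ 2 = 1 by rw [pow_two]; exact q))
    have := S.two_le
    omega
  have h1 := S.centralizer_lt w.2 hww
  rw [S.centralizer_inf h10.1 h10.2, S.card_rot]
  have := S.card
  omega

variable [NeZero (2 * h)] {Θ : IrrCharacter G → ZMod (2 * h) → ℂ}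
  {A : IrrCharacter G → ZMod (2 * h) → ℕ}

/-- At height zero the difference of the two real coefficients is odd. -/
theorem odd_of_height_zero (R : RotCols hM hmax S Θ A) {χ : IrrCharacter G} (hχ : χ ∈ B)
    (h0 : blockHeight 2 B (χ : G → ℂ) = 0) :
    ¬ (2 : ℤ) ∣ (A χ 0 : ℤ) - A χ ((h : ℕ) : ZMod (2 * h)) := by
  intro hd
  have h10 : (1 : ZMod (2 * h)) ≠ 0 ∧ (1 : ZMod (2 * h)) ≠ ((h : ℕ) : ZMod (2 * h)) := by
    have := S.two_le
    constructor <;> intro he <;> have hz := congrArg ZMod.val he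
    · rw [← Nat.cast_one, ZMod.val_natCast_of_lt (by omega), ZMod.val_zero] at hz; omega
    · rw [← Nat.cast_one, ZMod.val_natCast_of_lt (by omega), ZMod.val_natCast_of_lt (by omega)] at hz; omega
  obtain ⟨Q, hcol⟩ := R.col 1 h10.1 h10.2
  set v := S.rot (1 : ZMod (2 * h)) with hv
  obtain ⟨e', hmax', -⟩ := exists_local_max hM hmax v (fullyCentralized_one hM hmax S)
  obtain ⟨b, hind, hdef, hcon⟩ := exists_local_block hM hmax v
  have hm2 : 2 ^ blockDefect 2 b = 2 * h := by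
    rw [hdef, ← defectGroup_natCard hM hmax'.1.2.1 (isDefectGroup_of_maximal hM hmax'), locD,
      Nat.card_congr (Subgroup.subgroupOfEquivOfLe inf_le_right).toEquiv,
      BlocksCore.centralizer_zpowers, hv, S.centralizer_inf h10.1 h10.2, S.card_rot]
  obtain ⟨a, -, hha⟩ := S.pow
  have hord : orderOf (v : G) = 2 ^ (a + 1) := by rw [hv, S.rot_one, S.order, hha, pow_succ']
  refine Mc_unit hM hord hind hχ hχ h0 h0 ?_
  have hMc : Mc b χ χ = Θ χ 1 * conj (Θ χ 1) := by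
    have h1 := hcol.contribAt_eq hχ hχ
    rw [← hcon] at h1
    rw [Mc, show (2 : ℂ) ^ blockDefect 2 b = ((2 * h : ℕ) : ℂ) by rw [← hm2]; push_cast; rfl]
    refine mul_left_cancel₀ (Nat.cast_ne_zero.mpr Nat.card_pos.ne' :
      (Nat.card (Subgroup.centralizer ({(v : G)} : Set G)) : ℂ) ≠ 0) ?_
    linear_combination h1
  have hN : 2 * h = 2 ^ (a + 1) := by rw [hha, pow_succ']
  have hroot : ∀ j : ZMod (2 * h), (stdAddChar j : ℂ) ^ 2 ^ (a + 1) = 1 := fun j => by
    rw [← AddChar.map_nsmul_eq_pow, ← hN, nsmul_eq_mul, ZMod.natCast_self, zero_mul, AddChar.map_zero_eq_one]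
  have hint : IsIntegral ℤ (Θ χ 1) := by
    rw [coeff_inversion (R.coeff χ)]
    exact IsIntegral.sum _ fun j _ => (isIntegral_natCast _).mul
      (IsIntegral.of_pow (pow_pos two_pos (a + 1)) (hroot _ ▸ isIntegral_one))
  rw [hMc]
  refine memLocalIdeal_mul_right ?_ (memLocalRing_of_isIntegral
    (hint.map (RingHom.toIntAlgHom (starRingEnd ℂ))))
  have hsplit : Θ χ 1 = ∑ j : ZMod (2 * h), (A χ j : ℂ) * ((stdAddChar (j * 1) : ℂ) - 1) +
      ((∑ j : ZMod (2 * h), (A χ j : ℤ) : ℤ) : ℂ) := by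
    rw [coeff_inversion (R.coeff χ)]
    push_cast
    rw [← Finset.sum_add_distrib]
    exact Finset.sum_congr rfl fun j _ => by ring
  rw [hsplit]
  refine memLocalIdeal_add (memLocalIdeal_sum fun j _ => memLocalIdeal_mul_left (memLocalRing_natCast _)
    (memLocalIdeal_sub_one_of_pow hM (hroot _))) ((memLocalIdeal_intCast_iff hM _).mpr ?_)
  refine (ZMod.intCast_zmod_eq_zero_iff_dvd _ 2).mp ?_
  have h2 := (ZMod.intCast_zmod_eq_zero_iff_dvd _ 2).mpr hd
  push_cast at h2 ⊢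
  rw [sub_eq_add_neg, ZMod.neg_eq_self_mod_two] at h2
  have hne : (0 : ZMod (2 * h)) ≠ ((h : ℕ) : ZMod (2 * h)) := fun q => S.half_ne_zero q.symm
  rw [← Finset.sum_sdiff (Finset.subset_univ {(0 : ZMod (2 * h)), ((h : ℕ) : ZMod (2 * h))}),
    Finset.sum_pair hne, h2, add_zero]
  refine Finset.sum_involution (fun j _ => κ * j) (fun j _ => ?_) (fun j hj _ hjj => ?_)
    (fun j hj => ?_) fun j _ => S.kappa_kappa j
  · rw [R.coeff_kappa hχ]; exact CharTwo.add_self_eq_zero _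
  · rcases S.kappa_fix hjj with q | q <;> simp [q] at hj
  · simp only [Finset.mem_sdiff, Finset.mem_univ, true_and, Finset.mem_insert, Finset.mem_singleton,
      not_or] at hj ⊢
    exact ⟨fun q => hj.1 (by rw [← S.kappa_kappa j, q, mul_zero]),
      fun q => hj.2 (by rw [← S.kappa_kappa j, q, S.kappa_half])⟩

end Cfsg.Agent.BC84.Tame

namespace Cfsg.Agent.BC84.Tame

open BlocksCore BlocksDefect BC85 BC85.Star BC84.Dihedral
open scoped Classical ComplexConjugate Matrix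

universe u

variable {G : Type u} [Group G] [Fintype G] [Fact (Nat.Prime 2)] {M : Ideal AlgInt} [hP : M.IsPrime]

/-- Orthogonal columns at the central involution. -/
structure ZTriple (hM : IsPModular 2 M) {B : Set (IrrCharacter G)} {D : Subgroup G}
    {e : Set (IrrCharacter (Subgroup.centralizer (D : Set G)))}
    (hmax : IsMaximalBrauerPair 2 M B D e) (z : D) (h : ℕ) (t u v : IrrCharacter G → ℤ)
    (l : ℕ) (wt : ℤ) : Prop where
  rank : blockRank 2 (atBelow hM hmax z).2 = l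
  orth : ∀ (w : D) (T : IrrCharacter G → ℂ) (Q : G → ℂ) (m : ℕ), IsColumn hM hmax w T Q m →
    ¬ Fused hM hmax w z → ∀ f ∈ [t, u, v], ∑ ψ ∈ CharCore.SubContrib.mems B, conj (T ψ) * (f ψ : ℂ) = 0
  regular : ∀ s : G, ¬ 2 ∣ orderOf s → ∀ f ∈ [t, u, v],
    ∑ ψ ∈ CharCore.SubContrib.mems B, (f ψ : ℂ) * (ψ : G → ℂ) s = 0
  tu : ∑ ψ ∈ CharCore.SubContrib.mems B, t ψ * u ψ = 0
  tv : ∑ ψ ∈ CharCore.SubContrib.mems B, t ψ * v ψ = 0
  uv : ∑ ψ ∈ CharCore.SubContrib.mems B, u ψ * v ψ = 0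
  norm : ∑ ψ ∈ CharCore.SubContrib.mems B, t ψ ^ 2 = 4 * (h : ℤ)
  contrib : ∀ χ ∈ B, ∀ ψ ∈ B,
    (4 * (h : ℂ)) * contribAt 2 (atBelow hM hmax z) (z : G) (χ : G → ℂ) (ψ : G → ℂ) =
      (Nat.card (Subgroup.centralizer ({(z : G)} : Set G)) : ℂ) *
        ((t χ * t ψ + wt * (u χ * u ψ + v χ * v ψ) : ℤ) : ℂ)
  shape : (l = 1 ∧ (∀ x, u x = 0) ∧ ∀ x, v x = 0) ∨
    (l = 2 ∧ 4 ≤ h ∧ 2 * wt = (h : ℤ) ∧ ∑ ψ ∈ CharCore.SubContrib.mems B, u ψ ^ 2 = 8 ∧ (∀ x, v x = 0) ∧
      ∀ x, (2 : ℤ) ∣ t x - u x) ∨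
    (l = 3 ∧ wt = (h : ℤ) ∧ ∑ ψ ∈ CharCore.SubContrib.mems B, u ψ ^ 2 = 4 ∧
      ∑ ψ ∈ CharCore.SubContrib.mems B, v ψ ^ 2 = 4 ∧ ∀ x, (2 : ℤ) ∣ t x - u x - v x)

variable {hM : IsPModular 2 M} {B : Set (IrrCharacter G)} {D : Subgroup G}
  {e : Set (IrrCharacter (Subgroup.centralizer (D : Set G)))}
  {hmax : IsMaximalBrauerPair 2 M B D e} {z : D}

/-- A combination of the coordinates is orthogonal to the other columns and to the regular values. -/
theorem ZCoord.combination {l : ℕ} {φ : Fin l → G → ℂ} {d : IrrCharacter G → Fin l → ℤ}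
    (Z : ZCoord hM hmax z φ d) (c : Fin l → ℤ) {f : IrrCharacter G → ℤ} (hf : ∀ ψ, f ψ = ∑ a, c a * d ψ a) :
    (∀ (w : D) (T : IrrCharacter G → ℂ) (Q : G → ℂ) (m : ℕ), IsColumn hM hmax w T Q m →
      ¬ Fused hM hmax w z → ∑ ψ ∈ CharCore.SubContrib.mems B, conj (T ψ) * (f ψ : ℂ) = 0) ∧
    (z ≠ 1 → ∀ s : G, ¬ 2 ∣ orderOf s →
      ∑ ψ ∈ CharCore.SubContrib.mems B, (f ψ : ℂ) * (ψ : G → ℂ) s = 0) := by
  constructor
  · intro w T Q m hcol hne
    rw [Finset.sum_congr rfl (g := fun ψ => ∑ a, (c a : ℂ) * (conj (T ψ) * (d ψ a : ℂ))) fun ψ _ => by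
      rw [hf, Int.cast_sum, Finset.mul_sum]
      exact Finset.sum_congr rfl fun a _ => by push_cast; ring, Finset.sum_comm]
    refine Finset.sum_eq_zero fun a _ => ?_
    rw [← Finset.mul_sum, Z.orth_column hcol hne a, mul_zero]
  · intro hz s hs
    rw [Finset.sum_congr rfl (g := fun ψ => ∑ a, (c a : ℂ) * ((d ψ a : ℂ) * (ψ : G → ℂ) s)) fun ψ _ => by
      rw [hf, Int.cast_sum, Finset.sum_mul]
      exact Finset.sum_congr rfl fun a _ => by push_cast; ring, Finset.sum_comm]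
    refine Finset.sum_eq_zero fun a _ => ?_
    rw [← Finset.mul_sum, Z.sum_regular hz hs a, mul_zero]

variable {r : G} {h : ℕ} {κ : ZMod (2 * h)} (S : TameData D r h κ)
include S

/-- The columns at the central involution of `D`. -/
theorem exists_triple : ∃ t u v l wt,
    ZTriple hM hmax (S.rot ((h : ℕ) : ZMod (2 * h))) h t u v l wt := by
  have hz1 : S.rot ((h : ℕ) : ZMod (2 * h)) ≠ 1 := S.rot_ne_one S.half_ne_zero
  obtain ⟨a, ha, hha⟩ := S.pow
  have h2 : 2 ∣ h := hha ▸ dvd_pow_self 2 (show a ≠ 0 by omega)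
  rcases zshape hM hmax S with ⟨φ, d, Z, g⟩ | ⟨h4, φ, d, Z, g0, g1, g01⟩ |
    ⟨φ, d, Z, g0, g1, g2, g01, g02, g12⟩
  · simp only [intGram, Matrix.of_apply] at g
    have c1 := Z.combination (fun _ => 1) (f := fun ψ => d ψ 0) fun ψ => by simp
    have c0 := Z.combination (fun _ => 0) (f := fun _ => 0) fun ψ => by simp
    refine ⟨fun ψ => d ψ 0, fun _ => 0, fun _ => 0, 1, 0, Z.rank, fun w T Q m hcol hne f hf => ?_,
      fun s hs f hf => ?_, by simp, by simp, by simp, ?_, fun χ hχ ψ hψ => ?_, Or.inl ⟨rfl, fun _ => rfl, fun _ => rfl⟩⟩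
    · simp only [List.mem_cons, List.not_mem_nil, or_false] at hf
      rcases hf with rfl | rfl | rfl
      exacts [c1.1 w T Q m hcol hne, c0.1 w T Q m hcol hne, c0.1 w T Q m hcol hne]
    · simp only [List.mem_cons, List.not_mem_nil, or_false] at hf
      rcases hf with rfl | rfl | rfl
      exacts [c1.2 hz1 s hs, c0.2 hz1 s hs, c0.2 hz1 s hs]
    · simp only [pow_two]; exact g
    · have hY : (1 : Matrix (Fin 1) (Fin 1) ℤ) * intGram B d = (4 * (h : ℤ)) • (1 : Matrix (Fin 1) (Fin 1) ℤ) := by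
        ext i j
        rw [Subsingleton.elim i 0, Subsingleton.elim j 0, Matrix.one_mul]
        simp only [intGram, Matrix.of_apply, g]
        simp
      have h3 := Z.contrib hY hχ hψ
      simp only [Fin.sum_univ_one, Matrix.one_apply_eq, mul_one] at h3
      push_cast at h3 ⊢
      linear_combination h3
  · simp only [intGram, Matrix.of_apply] at g0 g1 g01
    have g10 : ∑ ψ ∈ CharCore.SubContrib.mems B, d ψ 1 * d ψ 0 = (h : ℤ) - 2 := by
      rw [← g01]; exact Finset.sum_congr rfl fun ψ _ => mul_comm _ _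
    have c1 := Z.combination ![1, 1] (f := fun ψ => d ψ 0 + d ψ 1) fun ψ => by simp [Fin.sum_univ_two]
    have c2 := Z.combination ![1, -1] (f := fun ψ => d ψ 0 - d ψ 1) fun ψ => by
      simp [Fin.sum_univ_two]; ring
    have c0 := Z.combination ![0, 0] (f := fun _ => 0) fun ψ => by simp [Fin.sum_univ_two]
    obtain ⟨hb, hh⟩ : ∃ hb : ℤ, hb * 2 = h :=
      ⟨((h / 2 : ℕ) : ℤ), by exact_mod_cast Nat.div_mul_cancel h2⟩
    refine ⟨fun ψ => d ψ 0 + d ψ 1, fun ψ => d ψ 0 - d ψ 1, fun _ => 0, 2, hb, Z.rank,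
      fun w T Q m hcol hne f hf => ?_, fun s hs f hf => ?_, ?_, by simp, by simp, ?_, fun χ hχ ψ hψ => ?_,
      Or.inr (Or.inl ⟨rfl, h4, by linear_combination hh, ?_, fun _ => rfl, fun x => ⟨d x 1, by ring⟩⟩)⟩
    · simp only [List.mem_cons, List.not_mem_nil, or_false] at hf
      rcases hf with rfl | rfl | rfl
      exacts [c1.1 w T Q m hcol hne, c2.1 w T Q m hcol hne, c0.1 w T Q m hcol hne]
    · simp only [List.mem_cons, List.not_mem_nil, or_false] at hf
      rcases hf with rfl | rfl | rfl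
      exacts [c1.2 hz1 s hs, c2.2 hz1 s hs, c0.2 hz1 s hs]
    · simp only [add_mul, mul_sub, Finset.sum_add_distrib, Finset.sum_sub_distrib, g0, g1, g01, g10]; ring
    · simp only [pow_two, add_mul, mul_add, Finset.sum_add_distrib, g0, g1, g01, g10]; ring
    · have hY : (!![1 + hb, 1 - hb; 1 - hb, 1 + hb]) *
          intGram B d = (4 * (h : ℤ)) • (1 : Matrix (Fin 2) (Fin 2) ℤ) := by
        ext i j
        fin_cases i <;> fin_cases j <;>
          simp [Matrix.mul_apply, Fin.sum_univ_two, intGram, g0, g1, g01, g10] <;>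
          first
            | linear_combination (2 : ℤ) * hh
            | linear_combination -(2 : ℤ) * hh
            | ring
      have h3 := Z.contrib hY hχ hψ
      rw [show ∑ a, ∑ b, d χ a * (!![1 + hb, 1 - hb; 1 - hb, 1 + hb]) a b * d ψ b = (d χ 0 + d χ 1) * (d ψ 0 + d ψ 1) + hb * ((d χ 0 - d χ 1) * (d ψ 0 - d ψ 1) + 0 * 0) by
        simp [Fin.sum_univ_two]; ring] at h3
      rw [Int.cast_mul, Int.cast_ofNat, Int.cast_natCast] at h3
      exact h3
    · simp only [pow_two, sub_mul, mul_sub, Finset.sum_sub_distrib, g0, g1, g01, g10]; ring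
  · simp only [intGram, Matrix.of_apply] at g0 g1 g2 g01 g02 g12
    have g10 : ∑ ψ ∈ CharCore.SubContrib.mems B, d ψ 1 * d ψ 0 = (h : ℤ) := by
      rw [← g01]; exact Finset.sum_congr rfl fun ψ _ => mul_comm _ _
    have g20 : ∑ ψ ∈ CharCore.SubContrib.mems B, d ψ 2 * d ψ 0 = 2 := by
      rw [← g02]; exact Finset.sum_congr rfl fun ψ _ => mul_comm _ _
    have g21 : ∑ ψ ∈ CharCore.SubContrib.mems B, d ψ 2 * d ψ 1 = 2 := by
      rw [← g12]; exact Finset.sum_congr rfl fun ψ _ => mul_comm _ _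
    have c1 := Z.combination ![1, 1, -1] (f := fun ψ => d ψ 0 + d ψ 1 - d ψ 2) fun ψ => by
      simp [Fin.sum_univ_three]; ring
    have c2 := Z.combination ![1, -1, 0] (f := fun ψ => d ψ 0 - d ψ 1) fun ψ => by
      simp [Fin.sum_univ_three]; ring
    have c3 := Z.combination ![0, 0, 1] (f := fun ψ => d ψ 2) fun ψ => by simp [Fin.sum_univ_three]
    refine ⟨fun ψ => d ψ 0 + d ψ 1 - d ψ 2, fun ψ => d ψ 0 - d ψ 1, fun ψ => d ψ 2, 3, (h : ℤ), Z.rank,
      fun w T Q m hcol hne f hf => ?_, fun s hs f hf => ?_, ?_, ?_, ?_, ?_, fun χ hχ ψ hψ => ?_,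
      Or.inr (Or.inr ⟨rfl, rfl, ?_, ?_, fun x => ⟨d x 1 - d x 2, by ring⟩⟩)⟩
    · simp only [List.mem_cons, List.not_mem_nil, or_false] at hf
      rcases hf with rfl | rfl | rfl
      exacts [c1.1 w T Q m hcol hne, c2.1 w T Q m hcol hne, c3.1 w T Q m hcol hne]
    · simp only [List.mem_cons, List.not_mem_nil, or_false] at hf
      rcases hf with rfl | rfl | rfl
      exacts [c1.2 hz1 s hs, c2.2 hz1 s hs, c3.2 hz1 s hs]
    · simp only [add_mul, mul_sub, sub_mul, mul_add, Finset.sum_add_distrib, Finset.sum_sub_distrib, g0, g1,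
        g2, g01, g02, g12, g10, g20, g21]; ring
    · simp only [add_mul, sub_mul, Finset.sum_add_distrib, Finset.sum_sub_distrib, g2, g02, g12]; ring
    · simp only [sub_mul, Finset.sum_sub_distrib, g02, g12]; ring
    · simp only [pow_two, add_mul, mul_sub, sub_mul, mul_add, Finset.sum_add_distrib, Finset.sum_sub_distrib,
        g0, g1, g2, g01, g02, g12, g10, g20, g21]; ring
    · have hY : (!![1 + (h : ℤ), 1 - (h : ℤ), -1; 1 - (h : ℤ), 1 + (h : ℤ), -1; -1, -1, 1 + (h : ℤ)]) *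
          intGram B d = (4 * (h : ℤ)) • (1 : Matrix (Fin 3) (Fin 3) ℤ) := by
        ext i j
        fin_cases i <;> fin_cases j <;>
          simp [Matrix.mul_apply, Fin.sum_univ_three, intGram, g0, g1, g2, g01, g02, g12, g10, g20, g21] <;>
          ring
      have h3 := Z.contrib hY hχ hψ
      rw [show ∑ a, ∑ b, d χ a * (!![1 + (h : ℤ), 1 - (h : ℤ), -1; 1 - (h : ℤ), 1 + (h : ℤ), -1; -1, -1, 1 + (h : ℤ)]) a b * d ψ b = (d χ 0 + d χ 1 - d χ 2) * (d ψ 0 + d ψ 1 - d ψ 2) + (h : ℤ) * ((d χ 0 - d χ 1) * (d ψ 0 - d ψ 1) + d χ 2 * d ψ 2) by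
        simp [Fin.sum_univ_three]; ring] at h3
      rw [Int.cast_mul, Int.cast_ofNat, Int.cast_natCast] at h3
      exact h3
    · simp only [pow_two, sub_mul, mul_sub, Finset.sum_sub_distrib, g0, g1, g01, g10]; ring
    · simp only [pow_two]; exact g2

/-- The counting data. -/
theorem exists_data [Fintype B] : ∃ C : Data B h,
    (∀ x : B, C.ht x = blockHeight 2 B ((x : IrrCharacter G) : G → ℂ)) ∧
    C.l = blockRank 2 (atBelow hM hmax (S.rot ((h : ℕ) : ZMod (2 * h)))).2 ∧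
    (∀ x : B, C.l = 1 →
      (4 * (h : ℂ)) * contribAt 2 (atBelow hM hmax (S.rot ((h : ℕ) : ZMod (2 * h))))
        ((S.rot ((h : ℕ) : ZMod (2 * h)) : D) : G) ((x : IrrCharacter G) : G → ℂ) ((x : IrrCharacter G) : G → ℂ) =
      (Nat.card (Subgroup.centralizer ({((S.rot ((h : ℕ) : ZMod (2 * h)) : D) : G)} : Set G)) : ℂ) *
        ((C.t x ^ 2 : ℤ) : ℂ)) := by
  haveI := S.neZero
  obtain ⟨Θ, A, R⟩ := exists_rotCols hM hmax S
  obtain ⟨t, u, v, l, wt, Z⟩ := exists_triple (hM := hM) (hmax := hmax) S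
  set z := S.rot ((h : ℕ) : ZMod (2 * h)) with hz
  have hzG : (z : G) = r ^ h := S.rot_half
  have hord : orderOf (z : G) = 2 ^ 1 := by
    rw [hzG, pow_one]
    exact orderOf_eq_prime (by rw [pow_two]; exact S.pow_mul_self) S.pow_half_ne_one
  obtain ⟨b, hind, hdef, hcon⟩ := exists_local_block hM hmax z
  obtain ⟨e', hmax', -⟩ := exists_local_max hM hmax z (fullyCentralized_half hM hmax S)
  have hle : D ≤ Subgroup.centralizer ((Subgroup.zpowers (z : G) : Subgroup G) : Set G) := by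
    rw [hzG]; exact S.le_centralizer
  have hd4 : 2 ^ blockDefect 2 B = 4 * h := by
    rw [← defectGroup_natCard hM hmax.1.2.1 (isDefectGroup_of_maximal hM hmax), S.card]
  have hdb : blockDefect 2 b = blockDefect 2 B := by
    rw [hdef]
    apply Nat.pow_right_injective (le_refl 2)
    show 2 ^ blockDefect 2 (locB hM hmax z) = 2 ^ blockDefect 2 B
    rw [hd4, ← defectGroup_natCard hM hmax'.1.2.1 (isDefectGroup_of_maximal hM hmax'), ← S.card, locD,
      inf_eq_left.mpr hle, card_subgroupOf hle]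
  have hMc : ∀ χ ∈ B, ∀ ψ ∈ B,
      Mc b χ ψ = ((t χ * t ψ + wt * (u χ * u ψ + v χ * v ψ) : ℤ) : ℂ) := by
    intro χ hχ ψ hψ
    have h1 := Z.contrib χ hχ ψ hψ
    rw [← hcon] at h1
    rw [Mc, hdb, show (2 : ℂ) ^ blockDefect 2 B = 4 * (h : ℂ) by
      have := congrArg (fun n : ℕ => (n : ℂ)) hd4; push_cast at this; exact this]
    refine mul_left_cancel₀ (Nat.cast_ne_zero.mpr Nat.card_pos.ne' :
      (Nat.card (Subgroup.centralizer ({(z : G)} : Set G)) : ℂ) ≠ 0) ?_
    linear_combination h1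
  have hval : ∀ (x y : B), blockHeight 2 B ((y : IrrCharacter G) : G → ℂ) = 0 →
      ∃ m : ℤ, ¬ (2 : ℤ) ∣ m ∧ t x * t y + wt * (u x * u y + v x * v y) =
        2 ^ blockHeight 2 B ((x : IrrCharacter G) : G → ℂ) * m :=
    fun x y hy => val_of_Mc hM hord hind hdb x.2 y.2 hy (hMc _ x.2 _ y.2)
  have hwt : ∀ x y : IrrCharacter G, (2 : ℤ) ∣ wt * (u x * u y + v x * v y) := by
    intro x y
    obtain ⟨a, ha, hha⟩ := S.pow
    rcases Z.shape with ⟨-, hu, hv⟩ | ⟨-, h4, hw, -⟩ | ⟨-, hw, -⟩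
    · simp [hu, hv]
    · refine Dvd.dvd.mul_right ?_ _
      obtain ⟨q, hq⟩ : 4 ∣ h := hha ▸ (show 2 ^ 2 ∣ 2 ^ a from pow_dvd_pow 2 (by
        by_contra hlt; interval_cases a; omega))
      exact ⟨q, by rw [hq] at hw; push_cast at hw; linarith⟩
    · refine Dvd.dvd.mul_right ?_ _
      rw [hw, hha]; push_cast
      exact dvd_pow_self 2 (by omega)
  obtain ⟨χ₀, hχ₀, h00⟩ := exists_height_zero hM hmax.1.2.1
  have hodd : ∀ x : B, ¬ (2 : ℤ) ∣ t x ↔ blockHeight 2 B ((x : IrrCharacter G) : G → ℂ) = 0 := by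
    have ht0 : ¬ (2 : ℤ) ∣ t χ₀ := by
      intro hd
      obtain ⟨m, hm, he⟩ := hval ⟨χ₀, hχ₀⟩ ⟨χ₀, hχ₀⟩ h00
      simp only [h00, pow_zero, one_mul] at he
      exact hm (he ▸ dvd_add (hd.mul_right _) (hwt _ _))
    intro x
    obtain ⟨m, hm, he⟩ := hval x ⟨χ₀, hχ₀⟩ h00
    constructor
    · intro hx
      by_contra hne
      have h2 : (2 : ℤ) ∣ t x * t χ₀ := (dvd_add_left (hwt _ _)).mp (he ▸ dvd_mul_of_dvd_left (dvd_pow_self 2 hne) m)
      rcases Int.prime_two.dvd_or_dvd h2 with q | q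
      · exact hx q
      · exact ht0 q
    · intro hx hd
      rw [hx, pow_zero, one_mul] at he
      exact hm (he ▸ dvd_add (hd.mul_right _) (hwt _ _))
  have hF : ∀ x : B, ∀ j, ((2 * h : ℕ) : ℂ) * (A (x : IrrCharacter G) j : ℂ) =
      ∑ c : ZMod (2 * h), Θ (x : IrrCharacter G) c * ZMod.stdAddChar (-(c * j)) := fun x => R.coeff _
  have horth : ∀ f ∈ [t, u, v], ∀ i j : ZMod (2 * h), i.val % 2 = j.val % 2 →
      ∑ x : B, ((A (x : IrrCharacter G) i : ℤ) - A (x : IrrCharacter G) j) * f x = 0 := by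
    intro f hf i j hij
    refine orth_of_orth (δ := fun x : B => f x) hF (fun c hc hch => ?_) i j hij
    obtain ⟨Q, hQ⟩ := R.col c hc hch
    have h1 := Z.orth (S.rot c) _ Q _ hQ
      (not_fused_rot hM hmax S hc (fun q => hch q.symm) fun q => hch (by
        rw [← S.kappa_kappa c, ← q, S.kappa_half])) f hf
    rwa [sum_mems (fun ψ : IrrCharacter G => conj (Θ ψ c) * (f ψ : ℂ))] at h1
  have hdeg : ∀ f ∈ [t, u, v], ∑ x : B, f x * (charDegree ((x : IrrCharacter G) : G → ℂ) : ℤ) = 0 := by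
    intro f hf
    refine Int.cast_injective (α := ℂ) ?_
    have h1 := Z.regular 1 (by simp) f hf
    rw [sum_mems (fun ψ : IrrCharacter G => (f ψ : ℂ) * (ψ : G → ℂ) 1)] at h1
    rw [Int.cast_zero, ← h1, Int.cast_sum]
    exact Finset.sum_congr rfl fun x _ => by rw [irr_one_eq]; push_cast; rfl
  refine ⟨{
    κ := κ
    a := fun x j => A (x : IrrCharacter G) j
    ht := fun x => blockHeight 2 B ((x : IrrCharacter G) : G → ℂ)
    deg := fun x => charDegree ((x : IrrCharacter G) : G → ℂ)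
    t := fun x => t x
    u := fun x => u x
    v := fun x => v x
    l := l
    wt := wt
    pow := S.pow
    kappa_sq := S.kappa_sq
    kappa_fix := fun c hc => S.kappa_fix hc
    kappa_half := S.kappa_half
    kappa_par := S.kappa_par
    gram := gram_of_orth hF S.kappa_sq fun c c' hc hch hc' hch' => by
      rw [← sum_mems (fun χ : IrrCharacter G => conj (Θ χ c) * Θ χ c')]
      exact R.orth hc hch hc' hch'
    g_ne := fun x hx h0 => odd_of_height_zero hM hmax S R x.2 hx (by rw [h0]; exact dvd_zero 2)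
    orth_t := horth t (by simp)
    orth_u := horth u (by simp)
    orth_v := horth v (by simp)
    orth_deg := fun i j hij => by
      refine orth_of_orth (δ := fun x : B => (charDegree ((x : IrrCharacter G) : G → ℂ) : ℤ)) hF
        (fun c hc hch => ?_) i j hij
      have h1 := R.orth_regular hc hch (s := 1) (by simp)
      rw [sum_mems (fun χ : IrrCharacter G => conj (Θ χ c) * (χ : G → ℂ) 1)] at h1
      rw [← h1]
      exact Finset.sum_congr rfl fun x _ => by rw [irr_one_eq]; push_cast; rfl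
    deg_pos := fun x => by exact_mod_cast charDegree_pos (x : IrrCharacter G)
    t_deg := hdeg t (by simp)
    u_deg := hdeg u (by simp)
    v_deg := hdeg v (by simp)
    t_u := by rw [← sum_mems (fun ψ : IrrCharacter G => t ψ * u ψ)]; exact Z.tu
    t_v := by rw [← sum_mems (fun ψ : IrrCharacter G => t ψ * v ψ)]; exact Z.tv
    u_v := by rw [← sum_mems (fun ψ : IrrCharacter G => u ψ * v ψ)]; exact Z.uv
    norm_t := by rw [← sum_mems (fun ψ : IrrCharacter G => t ψ ^ 2)]; exact Z.norm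
    odd_t := hodd
    zero := ⟨⟨χ₀, hχ₀⟩, h00⟩
    val := hval
    shape := ?_ }, fun _ => rfl, Z.rank.symm, fun x hl => ?_⟩
  · rcases Z.shape with ⟨h1, h2, h3⟩ | ⟨h1, h4, h2, h3, h5, h6⟩ | ⟨h1, h2, h3, h4, h5⟩
    · exact Or.inl ⟨h1, fun x => h2 _, fun x => h3 _⟩
    · refine Or.inr (Or.inl ⟨h1, h4, h2, ?_, fun x => h5 _, fun x => h6 _⟩)
      rw [← sum_mems (fun ψ : IrrCharacter G => u ψ ^ 2)]; exact h3
    · refine Or.inr (Or.inr ⟨h1, h2, ?_, ?_, fun x => h5 _⟩)
      · rw [← sum_mems (fun ψ : IrrCharacter G => u ψ ^ 2)]; exact h3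
      · rw [← sum_mems (fun ψ : IrrCharacter G => v ψ ^ 2)]; exact h4
  · rw [Z.contrib _ x.2 _ x.2]
    rcases Z.shape with ⟨-, hu, hv⟩ | ⟨h1, -⟩ | ⟨h1, -⟩
    · simp only [hu, hv, mul_zero, add_zero, pow_two]
    · exact absurd (h1.symm.trans hl) (by norm_num)
    · exact absurd (h1.symm.trans hl) (by norm_num)

end Cfsg.Agent.BC84.Tame
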