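import Cfsg.Agent.BC84.Tame.ZShape

/-!
# The coordinates at the central involution, in the whole group
-/

set_option autoImplicit false
set_option linter.unusedSectionVars false
set_option linter.style.haveILetI false

namespace Cfsg.Agent.BC84.Tame

open BlocksCore BlocksDefect BC85 BC85.Star BC84.Dihedral
open scoped Classical ComplexConjugate Matrix

universe u

variable {G : Type u} [Group G] [Fintype G] [Fact (Nat.Prime 2)] {M : Ideal AlgInt} [hP : M.IsPrime]
  (hM : IsPModular 2 M) {B : Set (IrrCharacter G)} {D : Subgroup G}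
  {e : Set (IrrCharacter (Subgroup.centralizer (D : Set G)))}
  (hmax : IsMaximalBrauerPair 2 M B D e)

include hM hmax

theorem zcoord_lift (u : D)
    {e' : Set (IrrCharacter (Subgroup.centralizer ((locD D (u : G)) : Set
        (Subgroup.centralizer ((Subgroup.zpowers (u : G) : Subgroup G) : Set G)))))}
    (hmax' : IsMaximalBrauerPair 2 M (locB hM hmax u) (locD D (u : G)) e')
    (x : locD D (u : G)) (hx : toD x = u)
    (hl : IsExactLift (atBelow hM hmax' x) (atBelow hM hmax (toD x))) {l : ℕ} :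
    ∀ {φ : Fin l → Subgroup.centralizer ((Subgroup.zpowers (u : G) : Subgroup G) : Set G) → ℂ}
    {d : IrrCharacter (Subgroup.centralizer ((Subgroup.zpowers (u : G) : Subgroup G) : Set G)) → Fin l → ℤ}
    (_ : ZCoord hM hmax' x φ d),
    ∃ (φG : Fin l → G → ℂ) (dG : IrrCharacter G → Fin l → ℤ), ZCoord hM hmax u φG dG ∧
      intGram B dG = intGram (locB hM hmax u) d := by
  set K := Subgroup.centralizer ((Subgroup.zpowers (u : G) : Subgroup G) : Set G) with hK
  intro φ d Z
  have hxu : ((x : K) : G) = u := congrArg Subtype.val hx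
  have hres : ∀ χ : IrrCharacter G, IsCharacter K (fun k : K => (χ : G → ℂ) k) :=
    fun χ => CharCore.isCharacter_restrict (CharCore.irr_isCharacter χ) K
  choose n hn using fun (χ : IrrCharacter G) (η : IrrCharacter K) =>
    CharCore.IsCharacter.exists_classInner_irr_eq_natCast (hres χ) η
  let dG : IrrCharacter G → Fin l → ℤ := fun χ a =>
    ∑ η ∈ CharCore.SubContrib.mems (locB hM hmax u), (n χ η : ℤ) * d η a
  let φG : Fin l → G → ℂ := fun a g => if hg : g ∈ K then φ a ⟨g, hg⟩ else 0
  have hCx : Subgroup.centralizer ({((x : K) : G)} : Set G) = K := by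
    rw [hxu, hK, BlocksCore.centralizer_zpowers]
  have hxc : (x : K) ∈ Subgroup.center K := Subgroup.mem_center_iff.mpr fun k => Subtype.ext (by
    show (k : G) * (x : K) = (x : K) * k
    rw [hxu]; exact (Subgroup.mem_centralizer_iff.mp k.2 _ (Subgroup.mem_zpowers _)).symm)
  have hmemK : ∀ s : K, (s : G) ∈ sect 2 (u : G) ↔ s ∈ sect 2 (x : K) := fun s => by
    simp only [mem_sect, Subgroup.orderOf_coe, Subgroup.mem_centralizer_singleton_iff, ← hxu]
    exact and_congr_left fun _ => ⟨fun q => Subtype.ext q, fun q => congrArg Subtype.val q⟩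
  have hxord : ∃ k : ℕ, orderOf (x : K) = 2 ^ k := orderOf_pow_of_mem hmax'.1.1.1 x.2
  have hb : IsPBlock M (locB hM hmax u) := hmax'.1.2.1
  have hproj : ∀ χ ∈ B, ∀ s ∈ sect 2 (u : G),
      proj (atBelow hM hmax u) (u : G) (χ : G → ℂ) s = ∑ a, (dG χ a : ℂ) * φG a s := by
    intro χ hχ s hs
    have hsK : s ∈ K := hCx ▸ (by rw [hxu]; exact (mem_sect.mp hs).1)
    have hs' : (⟨s, hsK⟩ : K) ∈ sect 2 (x : K) := (hmemK _).mp hs
    have e1 : (fun k : K => (χ : G → ℂ) k) =
        fun k => ∑ η : IrrCharacter K, (n χ η : ℂ) * (η : K → ℂ) k := by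
      funext k
      have h1 := congrFun (CharCore.IsCharacter.eq_sum_classInner (hres χ)) k
      simp only [Finset.sum_apply, Pi.smul_apply, smul_eq_mul, hn] at h1
      exact h1
    have h0 : proj (atBelow hM hmax (toD x)) ((x : K) : G) (χ : G → ℂ) ((⟨s, hsK⟩ : K) : G) =
        proj (atBelow hM hmax' x) (x : K) (fun k : K => (χ : G → ℂ) k) ⟨s, hsK⟩ :=
      proj_restrict hl.1 _ _ _
    rw [hx] at h0
    rw [hxu] at h0
    rw [h0, e1, proj_sum, ← Finset.sum_subset (Finset.subset_univ (CharCore.SubContrib.mems (locB hM hmax u)))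
      fun η _ hη => by
        rw [proj_eq_zero_of_not_pairOf hM (isPBlock_blockOf η) (mem_blockOf_self η) hxord
          (atBelow_mem hM hmax' x) (fun hp => hη ?_)
          (s := ⟨⟨s, hsK⟩, (mem_sect.mp hs').1⟩) (by rw [← Subgroup.orderOf_coe]; exact (mem_sect.mp hs').2),
          mul_zero]
        refine CharCore.SubContrib.mem_mems.mpr ?_
        obtain ⟨B₀, -, huniq⟩ := existsUnique_block_of_pair hM hp.1
        rw [huniq (locB hM hmax u) (atBelow_pairOf hM hmax' x), ← huniq _ hp]
        exact mem_blockOf_self η,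
      Finset.sum_congr rfl fun η hη => by
        rw [Z.proj_eq η (CharCore.SubContrib.mem_mems.mp hη) _ hs', Finset.mul_sum], Finset.sum_comm]
    refine Finset.sum_congr rfl fun a _ => ?_
    simp only [dG, φG, dif_pos hsK]
    rw [Int.cast_sum, Finset.sum_mul]
    exact Finset.sum_congr rfl fun η _ => by rw [Int.cast_mul, Int.cast_natCast]; ring
  have hrank : blockRank 2 (atBelow hM hmax u).2 = l := by
    have h1 : blockRank 2 (atBelow hM hmax (toD x)).2 = blockRank 2 (atBelow hM hmax' x).2 := by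
      rw [hl.1.snd_eq]; exact BlkChar.SubsectionSum.blockRank_pullIrr _ _
    rw [hx] at h1
    exact h1.trans Z.rank
  have ZG : ZCoord hM hmax u φG dG := ⟨hproj, hrank⟩
  refine ⟨φG, dG, ZG, ?_⟩
  have hsX : sectGram 2 (u : G) φG = sectGram 2 (x : K) φ := by
    ext a b
    simp only [sectGram, Matrix.of_apply]
    congr 1
    · rw [show Nat.card (Subgroup.centralizer ({(x : K)} : Set K)) = Nat.card K by
        rw [show Subgroup.centralizer ({(x : K)} : Set K) = ⊤ from eq_top_iff.mpr fun g _ =>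
          Subgroup.mem_centralizer_singleton_iff.mpr (Subgroup.mem_center_iff.mp hxc g), Subgroup.card_top],
        show Nat.card K = Nat.card (Subgroup.centralizer ({(u : G)} : Set G)) by
          rw [hK, BlocksCore.centralizer_zpowers]]
    · refine (Finset.sum_bij (fun (s : K) _ => (s : G)) (fun s hs => (hmemK s).mpr hs)
        (fun _ _ _ _ q => Subtype.ext q)
        (fun s hs => ⟨⟨s, hCx ▸ (by rw [hxu]; exact (mem_sect.mp hs).1)⟩, (hmemK _).mp hs, rfl⟩)
        fun s _ => ?_).symm
      simp only [φG, dif_pos (show (s : G) ∈ K from s.2)]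
      rfl
  have h1 : colGram B dG = colGram (locB hM hmax u) d := by
    have hi := mul_eq_one_comm.mp ZG.inverse
    calc colGram B dG = colGram B dG * (sectGram 2 (x : K) φ * colGram (locB hM hmax u) d) := by
          rw [Z.inverse, Matrix.mul_one]
      _ = _ := by rw [← Matrix.mul_assoc, ← hsX, hi, Matrix.one_mul]
  ext a b
  have h2 := congrFun (congrFun h1 a) b
  rw [colGram_eq, colGram_eq, Matrix.map_apply, Matrix.map_apply] at h2
  exact_mod_cast h2

variable {r : G} {h : ℕ} {κ : ZMod (2 * h)} (S : TameData D r h κ)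
include S

theorem fullyCentralized_half :
    (blockFusion hM hmax.1.1).IsFullyCentralized
      (Subgroup.zpowers (S.rot ((h : ℕ) : ZMod (2 * h)) : G)) := by
  have hle : D ≤ Subgroup.centralizer ((Subgroup.zpowers (S.rot ((h : ℕ) : ZMod (2 * h)) : G) : Subgroup G) : Set G) := by
    rw [S.rot_half]; exact S.le_centralizer
  refine ⟨Subgroup.zpowers_le.mpr (S.rot _).2, fun Y _ => ?_⟩
  rw [FusionSystem.centralizerIn, FusionSystem.centralizerIn, inf_eq_left.mpr hle]
  exact Subgroup.card_le_of_le inf_le_left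

/-- The coordinates at the central involution. -/
theorem zshape : ZShape hM hmax (S.rot ((h : ℕ) : ZMod (2 * h))) h := by
  set u := S.rot ((h : ℕ) : ZMod (2 * h)) with hu
  obtain ⟨e', hmax', hlift⟩ := exists_local_max hM hmax u (fullyCentralized_half hM hmax S)
  have hle : D ≤ Subgroup.centralizer ((Subgroup.zpowers (u : G) : Subgroup G) : Set G) := by
    rw [hu, S.rot_half]; exact S.le_centralizer
  set K := Subgroup.centralizer ((Subgroup.zpowers (u : G) : Subgroup G) : Set G) with hK
  have hloc : locD D (u : G) = D.subgroupOf K := by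
    rw [locD, inf_eq_left.mpr hle]
  have hS' : TameData (locD D (u : G)) (⟨r, hle S.mem⟩ : K) h κ := hloc ▸ S.subgroupOf hle
  have hzc : (⟨r, hle S.mem⟩ : K) ^ h ∈ Subgroup.center K := Subgroup.mem_center_iff.mpr fun k => Subtype.ext (by
    simp only [Subgroup.coe_mul, Subgroup.coe_pow]
    have h1 := Subgroup.mem_centralizer_iff.mp k.2 _ (Subgroup.mem_zpowers (u : G))
    rw [hu, S.rot_half] at h1
    exact h1.symm)
  set x := hS'.rot ((h : ℕ) : ZMod (2 * h)) with hx
  have hxu : toD x = u := Subtype.ext (by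
    show ((x : K) : G) = (u : G)
    rw [hx, hS'.rot_half, Subgroup.coe_pow, hu, S.rot_half])
  have hl := hlift x (by rw [hxu]; exact Subgroup.mem_zpowers _)
  obtain ⟨hsh, -⟩ := zshape_central hM hmax' hS' hzc
  rcases hsh with ⟨φ, d, Z, g⟩ | ⟨h4, φ, d, Z, g0, g1, g01⟩ | ⟨φ, d, Z, g0, g1, g2, g01, g02, g12⟩
  · obtain ⟨φG, dG, ZG, hG⟩ := zcoord_lift hM hmax u hmax' x hxu hl Z
    exact Or.inl ⟨φG, dG, ZG, by rw [hG]; exact g⟩
  · obtain ⟨φG, dG, ZG, hG⟩ := zcoord_lift hM hmax u hmax' x hxu hl Z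
    exact Or.inr (Or.inl ⟨h4, φG, dG, ZG, by rw [hG]; exact g0, by rw [hG]; exact g1, by rw [hG]; exact g01⟩)
  · obtain ⟨φG, dG, ZG, hG⟩ := zcoord_lift hM hmax u hmax' x hxu hl Z
    exact Or.inr (Or.inr ⟨φG, dG, ZG, by rw [hG]; exact g0, by rw [hG]; exact g1, by rw [hG]; exact g2,
      by rw [hG]; exact g01, by rw [hG]; exact g02, by rw [hG]; exact g12⟩)

end Cfsg.Agent.BC84.Tame
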