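import Cfsg.Agent.BC84.Tame.ZCoord
import Cfsg.Agent.BC84.Tame.Domination
import Cfsg.Agent.BC84.Tame.Shape
import Cfsg.Agent.BC84.Tame.FrameKlein
import Cfsg.Agent.BC84.Tame.FrameDihedral

/-!
# The coordinates at a central involution of a semidihedral or quaternion defect group
-/

set_option autoImplicit false
set_option linter.unusedSectionVars false
set_option linter.style.haveILetI false

namespace Cfsg.Agent.BC84.Tame

open BlocksCore BlocksDefect BC85 BC85.Star BC84.Dihedral
open scoped Classical ComplexConjugate Matrix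

universe u

variable {K : Type u} [Group K] [Fintype K] [Fact (Nat.Prime 2)] {M : Ideal AlgInt} [hP : M.IsPrime]

/-- The three possibilities for the coordinates at the involution `v`. -/
def ZShape (hM : IsPModular 2 M) {B : Set (IrrCharacter K)} {D : Subgroup K}
    {e : Set (IrrCharacter (Subgroup.centralizer (D : Set K)))}
    (hmax : IsMaximalBrauerPair 2 M B D e) (v : D) (h : ℕ) : Prop :=
  (∃ (φ : Fin 1 → K → ℂ) (d : IrrCharacter K → Fin 1 → ℤ), ZCoord hM hmax v φ d ∧
    intGram B d 0 0 = 4 * (h : ℤ)) ∨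
  (4 ≤ h ∧ ∃ (φ : Fin 2 → K → ℂ) (d : IrrCharacter K → Fin 2 → ℤ), ZCoord hM hmax v φ d ∧
    intGram B d 0 0 = (h : ℤ) + 2 ∧ intGram B d 1 1 = (h : ℤ) + 2 ∧ intGram B d 0 1 = (h : ℤ) - 2) ∨
  (∃ (φ : Fin 3 → K → ℂ) (d : IrrCharacter K → Fin 3 → ℤ), ZCoord hM hmax v φ d ∧
    intGram B d 0 0 = (h : ℤ) + 2 ∧ intGram B d 1 1 = (h : ℤ) + 2 ∧ intGram B d 2 2 = 4 ∧
    intGram B d 0 1 = (h : ℤ) ∧ intGram B d 0 2 = 2 ∧ intGram B d 1 2 = 2)

theorem intGram_comm {l : ℕ} (B : Set (IrrCharacter K)) (d : IrrCharacter K → Fin l → ℤ) (a b : Fin l) :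
    intGram B d a b = intGram B d b a := by
  simp only [intGram, Matrix.of_apply, mul_comm (d _ a)]

variable (hM : IsPModular 2 M) {B : Set (IrrCharacter K)} {D : Subgroup K}
  {e : Set (IrrCharacter (Subgroup.centralizer (D : Set K)))}
  (hmax : IsMaximalBrauerPair 2 M B D e) {r : K} {h : ℕ} {κ : ZMod (2 * h)} (S : TameData D r h κ)

include hM hmax S

theorem dihData_map {Q : Subgroup K} [Q.Normal] (hQz : Q = Subgroup.zpowers (r ^ h)) (h4 : 4 ≤ h) :
    DihData (D.map (QuotientGroup.mk' Q)) (QuotientGroup.mk' Q r) (h / 2) := by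
  have hQ2 : Nat.card Q = 2 := by
    rw [hQz, Nat.card_zpowers]
    exact orderOf_eq_prime (by rw [pow_two]; exact S.pow_mul_self) S.pow_half_ne_one
  obtain ⟨a, ha, hha⟩ := S.pow
  have ha2 : 2 ≤ a := by
    by_contra hlt
    interval_cases a
    omega
  have hh2 : 2 * (h / 2) = h := by
    have : 2 ∣ h := hha ▸ dvd_pow_self 2 (show a ≠ 0 by omega)
    omega
  have hmemQ : ∀ x : K, x ∈ Q ↔ x = 1 ∨ x = r ^ h := fun x => by
    constructor
    · intro hx
      rw [hQz] at hx
      exact zpowers_eq_pair (orderOf_eq_prime (by rw [pow_two]; exact S.pow_mul_self) S.pow_half_ne_one) hx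
    · rintro (rfl | rfl)
      · exact one_mem _
      · rw [hQz]; exact Subgroup.mem_zpowers _
  have hz1 : QuotientGroup.mk' Q (r ^ h) = 1 :=
    (QuotientGroup.eq_one_iff _).mpr ((hmemQ _).mpr (Or.inr rfl))
  refine ⟨Subgroup.mem_map_of_mem _ S.mem, ?_, ⟨a - 1, by omega, ?_⟩, ?_, ?_⟩
  · rw [hh2, orderOf_eq_iff (by omega)]
    refine ⟨by rw [← map_pow, hz1], fun m hm hm0 he => ?_⟩
    rw [← map_pow] at he
    have hord := S.order
    rcases (hmemQ _).mp ((QuotientGroup.eq_one_iff _).mp he) with h1 | h1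
    · have := Nat.le_of_dvd hm0 (orderOf_dvd_of_pow_eq_one h1)
      omega
    · rw [pow_eq_pow_iff_modEq, hord, Nat.ModEq, Nat.mod_eq_of_lt (by omega),
        Nat.mod_eq_of_lt (by omega)] at h1
      omega
  · rw [hha, show a = a - 1 + 1 by omega, pow_succ, Nat.mul_div_cancel _ two_pos]; simp
  · rintro _ ⟨x, hx, rfl⟩ hxr
    obtain ⟨h1, h2⟩ := S.flip x hx fun hm => hxr (by
      obtain ⟨k, rfl⟩ := Subgroup.mem_zpowers_iff.mp hm
      rw [map_zpow]; exact Subgroup.zpow_mem _ (Subgroup.mem_zpowers _) k)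
    refine ⟨?_, ?_⟩
    · rcases h2 with h2 | h2
      · rw [← map_mul, h2, map_one]
      · rw [← map_mul, h2, hz1]
    · have hprod : QuotientGroup.mk' Q (r ^ κ.val * r) = 1 := by
        haveI := S.neZero
        have h3 : 2 * (κ + 1) = 0 := by
          obtain ⟨w, hw⟩ := S.kappa_two
          linear_combination (-(κ + 1)) * hw + w * S.kappa_sq
        have h4' : r ^ κ.val * r = (S.rot (κ + 1) : K) := by
          rw [S.rot_add, Subgroup.coe_mul, S.rot_one]; rfl
        rw [h4']
        rcases S.two_mul_eq_zero h3 with q | q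
        · rw [q, S.rot_zero]; exact map_one _
        · rw [q, S.rot_half]; exact hz1
      rw [← map_inv, ← map_mul, ← map_mul, h1]
      rw [map_mul] at hprod
      exact eq_inv_of_mul_eq_one_left hprod
  · have hQD : Q ≤ D := hQz ▸ Subgroup.zpowers_le.mpr (D.pow_mem S.mem h)
    have hcard : Nat.card D = Nat.card (D.map (QuotientGroup.mk' Q)) * 2 := by
      rw [← hQ2, ← Nat.card_congr (Subgroup.subgroupOfEquivOfLe hQD).toEquiv,
        ← Subgroup.index_mul_card (Q.subgroupOf D)]
      congr 1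
      have h1 : Q.subgroupOf D = ((QuotientGroup.mk' Q).comp D.subtype).ker := by
        ext x; simp [Subgroup.mem_subgroupOf]
      rw [h1, Subgroup.index_ker, MonoidHom.range_comp, Subgroup.range_subtype]
    rw [S.card] at hcard
    omega

/-- The shape of the block of the quotient. -/
theorem exists_bar_shape {Q : Subgroup K} [Q.Normal] (hQz : Q = Subgroup.zpowers (r ^ h))
    (hQc : Q ≤ Subgroup.center K) [Fintype (K ⧸ Q)] :
    ∃ (bb : Set (IrrCharacter (K ⧸ Q))) (_ : Fintype bb), IsPBlock M bb ∧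
      (∀ ψ, ψ ∈ bb ↔ BlocksDefect.inflate Q ψ ∈ B) ∧ blockRank 2 B = blockRank 2 bb ∧
      Shape bb (h / 2) ∧
      (∃ H : Finset bb, H.card = 4 ∧
        ∀ x ∈ H, blockHeight 2 B (BlocksDefect.inflate Q (x : IrrCharacter (K ⧸ Q)) : K → ℂ) = 0 ∧
          blockHeight 2 bb ((x : IrrCharacter (K ⧸ Q)) : K ⧸ Q → ℂ) = 0) ∧
      ∃ (Dbar : Subgroup (K ⧸ Q)) (eb : Set (IrrCharacter (Subgroup.centralizer (Dbar : Set (K ⧸ Q))))),
        IsMaximalBrauerPair 2 M bb Dbar eb := by
  have hQ2 : Nat.card Q = 2 := by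
    rw [hQz, Nat.card_zpowers]
    exact orderOf_eq_prime (by rw [pow_two]; exact S.pow_mul_self) S.pow_half_ne_one
  obtain ⟨bb, hbb, hmem, hdef, hrk, hhts⟩ :=
    exists_bar hM hmax.1.2.1 (isDefectGroup_of_maximal hM hmax) hQ2 hQc
  haveI := Fintype.ofFinite bb
  obtain ⟨eb, hmaxb⟩ := exists_maximal_of_defect hM hbb hdef
  have hfr : ∃ H g a b, Frame bb (h / 2) H g a b ∧ Extra bb (h / 2) H g := by
    rcases le_or_gt 4 h with h4 | h4
    · exact exists_frame_dihedral hM hmaxb (dihData_map hM hmax S hQz h4)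
    · obtain ⟨a, ha, hha⟩ := S.pow
      have h2 : h = 2 := by
        rcases a with _ | _ | a
        · omega
        · simpa using hha
        · have : 2 ^ 2 ≤ 2 ^ (a + 1 + 1) := Nat.pow_le_pow_right two_pos (by omega)
          omega
      rw [show h / 2 = 1 by omega]
      have hQD : Q ≤ D := hQz ▸ Subgroup.zpowers_le.mpr (D.pow_mem S.mem h)
      have hone : ∀ x : K, x = 1 ∨ x = r ^ h → QuotientGroup.mk' Q x = 1 := fun x hx =>
        (QuotientGroup.eq_one_iff _).mpr (hQz ▸ by
          rcases hx with rfl | rfl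
          · exact one_mem _
          · exact Subgroup.mem_zpowers _)
      refine exists_frame_klein hM hmaxb ?_ ?_
      · have hcard : Nat.card D = Nat.card (D.map (QuotientGroup.mk' Q)) * 2 := by
          rw [← hQ2, ← Nat.card_congr (Subgroup.subgroupOfEquivOfLe hQD).toEquiv,
            ← Subgroup.index_mul_card (Q.subgroupOf D)]
          congr 1
          have h1 : Q.subgroupOf D = ((QuotientGroup.mk' Q).comp D.subtype).ker := by
            ext x; simp [Subgroup.mem_subgroupOf]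
          rw [h1, Subgroup.index_ker, MonoidHom.range_comp, Subgroup.range_subtype]
        rw [S.card] at hcard
        omega
      · rintro _ ⟨x, hx, rfl⟩
        rw [← map_mul]
        by_cases hxr : x ∈ Subgroup.zpowers r
        · obtain ⟨k, rfl⟩ := Subgroup.mem_zpowers_iff.mp hxr
          rw [← zpow_add, ← two_mul, zpow_mul, show r ^ (2 : ℤ) = r ^ h by rw [h2]; exact zpow_ofNat r 2, map_zpow,
            hone _ (Or.inr rfl), one_zpow]
        · rcases (S.flip x hx hxr).2 with q | q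
          · exact hone _ (Or.inl q)
          · exact hone _ (Or.inr q)
  obtain ⟨H, g, a, b, F, hE⟩ := hfr
  refine ⟨bb, inferInstance, hbb, hmem, hrk, shape_of_frame F hE, ⟨H, F.four, fun x hx => ?_⟩, _, eb, hmaxb⟩
  have h0 := (F.height x).mp hx
  exact ⟨by rw [hhts _ x.2]; exact h0, h0⟩

end Cfsg.Agent.BC84.Tame

namespace Cfsg.Agent.BC84.Tame

open BlocksCore BlocksDefect BC85 BC85.Star BC84.Dihedral
open scoped Classical ComplexConjugate Matrix

universe u

variable {K : Type u} [Group K] [Fintype K] [Fact (Nat.Prime 2)] {M : Ideal AlgInt} [hP : M.IsPrime]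
  (hM : IsPModular 2 M) {B : Set (IrrCharacter K)} {D : Subgroup K}
  {e : Set (IrrCharacter (Subgroup.centralizer (D : Set K)))}
  (hmax : IsMaximalBrauerPair 2 M B D e) {r : K} {h : ℕ} {κ : ZMod (2 * h)} (S : TameData D r h κ)

/-- Four members of height zero whose contributions at `v` are the least possible. -/
def UnitFour (hM : IsPModular 2 M) {B : Set (IrrCharacter K)} {D : Subgroup K}
    {e : Set (IrrCharacter (Subgroup.centralizer (D : Set K)))}
    (hmax : IsMaximalBrauerPair 2 M B D e) (v : D) (h : ℕ) : Prop :=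
  ∃ H : Finset (IrrCharacter K), H.card = 4 ∧ ∀ χ ∈ H, χ ∈ B ∧ blockHeight 2 B (χ : K → ℂ) = 0 ∧
    (4 * (h : ℂ)) * contribAt 2 (atBelow hM hmax v) (v : K) (χ : K → ℂ) (χ : K → ℂ) =
      (Nat.card (Subgroup.centralizer ({(v : K)} : Set K)) : ℂ)

include hM hmax S

/-- The coordinates at a central involution. -/
theorem zshape_central (hzc : r ^ h ∈ Subgroup.center K) :
    ZShape hM hmax (S.rot ((h : ℕ) : ZMod (2 * h))) h ∧
      (blockRank 2 B = 1 → UnitFour hM hmax (S.rot ((h : ℕ) : ZMod (2 * h))) h) := by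
  set v := S.rot ((h : ℕ) : ZMod (2 * h)) with hv
  have hvG : (v : K) = r ^ h := S.rot_half
  have hvc : (v : K) ∈ Subgroup.center K := hvG ▸ hzc
  set Q := Subgroup.zpowers (r ^ h) with hQ
  have hQc : Q ≤ Subgroup.center K := Subgroup.zpowers_le.mpr hzc
  haveI hQn : Q.Normal := ⟨fun n hn g => by
    rw [(Subgroup.mem_center_iff.mp (hQc hn) g), mul_inv_cancel_right]; exact hn⟩
  haveI : Fintype (K ⧸ Q) := Fintype.ofFinite _
  obtain ⟨bb, _, hbb, hmem, hrk, hsh, ⟨H, hH4, hH⟩, Dbar, eb, hmaxb⟩ :=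
    exists_bar_shape hM hmax S (Q := Q) rfl hQc
  have hQ2 : Nat.card Q = 2 := by
    rw [hQ, Nat.card_zpowers]
    exact orderOf_eq_prime (by rw [pow_two]; exact S.pow_mul_self) S.pow_half_ne_one
  have hQp : IsPGroup 2 Q := IsPGroup.of_card (n := 1) (by rw [pow_one, hQ2])
  choose n hn using BlkChar.BrauerFeit.exists_int_comb hM hQp hQc hmax.1.2.1 hbb hmem
  -- the sign at the involution
  have hsgn : ∀ χ : IrrCharacter K, ∃ ε : ℤ, ∀ s : K, (χ : K → ℂ) ((v : K) * s) = (ε : ℂ) * (χ : K → ℂ) s := by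
    intro χ
    have h2 := cval_pow χ hvc 2
    rw [pow_two, pow_two, hvG, S.pow_mul_self, cval_one] at h2
    have happly : ∀ s : K, (χ : K → ℂ) ((v : K) * s) = cval χ (v : K) * (χ : K → ℂ) s := fun s => by
      rw [show (v : K) * s = s * v from (Subgroup.mem_center_iff.mp hvc s).symm, apply_mul_of_center χ hvc]
    rw [← hvG] at h2
    rcases mul_self_eq_one_iff.mp h2.symm with q | q
    · exact ⟨1, fun s => by rw [happly, q]; push_cast; rfl⟩
    · exact ⟨-1, fun s => by rw [happly, q]; push_cast; rfl⟩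
  choose ε hε using hsgn
  have hsect : ∀ s : K, s ∈ sect 2 (v : K) ↔ ¬ 2 ∣ orderOf s := fun s => by
    rw [mem_sect]
    exact ⟨fun q => q.2, fun q => ⟨Subgroup.mem_centralizer_singleton_iff.mpr
      (Subgroup.mem_center_iff.mp hvc s), q⟩⟩
  have hbar : ∀ {l : ℕ} (φb : Fin l → K ⧸ Q → ℂ) (c : bb → Fin l → ℤ), blockRank 2 bb = l →
      IsCoord bb φb c →
      ∃ (φ : Fin l → K → ℂ) (d : IrrCharacter K → Fin l → ℤ), ZCoord hM hmax v φ d ∧
        (∀ a b, intGram B d a b = 2 * ∑ x, c x a * c x b) ∧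
        (∀ (x : bb), ∀ s ∈ sect 2 (v : K), ∑ a, ((d (BlocksDefect.inflate Q (x : IrrCharacter (K ⧸ Q))) a : ℂ) - (c x a : ℂ)) * φ a s = 0) := by
    intro l φb c hl hc
    let φ : Fin l → K → ℂ := fun a s => φb a (s : K ⧸ Q)
    let d : IrrCharacter K → Fin l → ℤ := fun η a =>
      if hη : η ∈ B then ε η * ∑ x : bb, n ⟨η, hη⟩ x * c x a else 0
    have hproj : ∀ χ ∈ B, ∀ s ∈ sect 2 (v : K),
        proj (atBelow hM hmax v) (v : K) (χ : K → ℂ) s = ∑ a, (d χ a : ℂ) * φ a s := by
      intro χ hχ s hs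
      have hs' := (hsect s).mp hs
      rw [proj_atBelow_central hvc hχ hs', hε χ s, hn ⟨χ, hχ⟩ s hs', Finset.mul_sum]
      simp only [d, φ, dif_pos hχ]
      rw [Finset.sum_congr rfl fun x _ => by rw [hc x _ (regular_mk hs'), Finset.mul_sum, Finset.mul_sum],
        Finset.sum_comm]
      refine Finset.sum_congr rfl fun a _ => ?_
      push_cast
      rw [Finset.mul_sum, Finset.sum_mul]
      exact Finset.sum_congr rfl fun x _ => by ring
    have Z : ZCoord hM hmax v φ d := ⟨hproj, by rw [blockRank_atBelow_central hvc, hrk, hl]⟩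
    refine ⟨φ, d, Z, ?_, fun x s hs => ?_⟩
    · let cb : IrrCharacter (K ⧸ Q) → Fin l → ℤ := fun ψ a => if hψ : ψ ∈ bb then c ⟨ψ, hψ⟩ a else 0
      have hbarinv : sectGram 2 (1 : K ⧸ Q) φb * colGram bb cb = 1 := by
        refine sectGram_mul_colGram hM hmaxb 1 φb cb (fun ψ hψ s hs => ?_) ?_
        · show proj _ (1 : K ⧸ Q) _ s = _
          rw [proj_atBelow_one hM hmaxb hψ (mem_sect.mp hs).2, hc ⟨ψ, hψ⟩ s (mem_sect.mp hs).2]
          exact Finset.sum_congr rfl fun a _ => by simp only [cb, dif_pos hψ]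
        · rw [blockRank_atBelow_one hM hmaxb, hl]
      have hhalf : sectGram 2 (v : K) φ = (2 : ℂ)⁻¹ • sectGram 2 (1 : K ⧸ Q) φb := by
        ext a b
        have hset : sect 2 (v : K) = Finset.univ.filter fun g : K => ¬ 2 ∣ orderOf g := by
          ext g; rw [hsect g]; simp
        have hset1 : sect 2 (1 : K ⧸ Q) = Finset.univ.filter fun q : K ⧸ Q => ¬ 2 ∣ orderOf q := by
          ext q
          rw [mem_sect, Finset.mem_filter]
          exact ⟨fun q => ⟨Finset.mem_univ _, q.2⟩, fun q => ⟨Subgroup.mem_centralizer_singleton_iff.mpr (by simp), q.2⟩⟩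
        have hcK : Nat.card (Subgroup.centralizer ({(v : K)} : Set K)) = 2 * Nat.card (K ⧸ Q) := by
          rw [show Subgroup.centralizer ({(v : K)} : Set K) = ⊤ from eq_top_iff.mpr fun g _ =>
              Subgroup.mem_centralizer_singleton_iff.mpr (Subgroup.mem_center_iff.mp hvc g),
            Subgroup.card_top, Subgroup.card_eq_card_quotient_mul_card_subgroup Q, hQ2, mul_comm]
        have hc1 : Nat.card (Subgroup.centralizer ({(1 : K ⧸ Q)} : Set (K ⧸ Q))) = Nat.card (K ⧸ Q) := by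
          rw [show Subgroup.centralizer ({(1 : K ⧸ Q)} : Set (K ⧸ Q)) = ⊤ from eq_top_iff.mpr fun g _ =>
            Subgroup.mem_centralizer_singleton_iff.mpr (by simp), Subgroup.card_top]
        simp only [sectGram, Matrix.of_apply, Matrix.smul_apply, smul_eq_mul, hset, hset1, hcK, hc1, φ]
        rw [sum_regular_quot hQp hQc (fun q => φb a q * conj (φb b q))]
        push_cast
        rw [mul_inv]
        ring_nf
        congr!
      have h1 := Z.inverse
      have h2 : colGram B d = (2 : ℂ) • colGram bb cb := by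
        have hinv := mul_eq_one_comm.mp h1
        have h3 : sectGram 2 (v : K) φ * ((2 : ℂ) • colGram bb cb) = 1 := by
          rw [hhalf, Matrix.smul_mul, Matrix.mul_smul, hbarinv, smul_smul]
          simp
        calc colGram B d = colGram B d * (sectGram 2 (v : K) φ * ((2 : ℂ) • colGram bb cb)) := by
              rw [h3, Matrix.mul_one]
          _ = _ := by rw [← Matrix.mul_assoc, hinv, Matrix.one_mul]
      intro a b
      have h3 := congrFun (congrFun h2 a) b
      rw [colGram_eq, colGram_eq, Matrix.smul_apply, Matrix.map_apply, Matrix.map_apply, smul_eq_mul] at h3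
      have h4 : intGram B d a b = 2 * intGram bb cb a b := by exact_mod_cast h3
      rw [h4]
      congr 1
      simp only [intGram, Matrix.of_apply]
      rw [sum_mems (fun ψ : IrrCharacter (K ⧸ Q) => cb ψ a * cb ψ b)]
      exact Finset.sum_congr rfl fun x _ => by simp only [cb, dif_pos x.2]
    · have hs' := (hsect s).mp hs
      have hη := (hmem _).mp x.2
      have h1 := hproj _ hη s hs
      rw [proj_atBelow_central hvc hη hs', BlkChar.BrauerFeit.inflate_apply,
        show ((((v : K) * s : K)) : K ⧸ Q) = (s : K ⧸ Q) by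
          rw [QuotientGroup.mk_mul, (QuotientGroup.eq_one_iff (v : K)).mpr (hvG ▸ Subgroup.mem_zpowers _), one_mul],
        hc x _ (regular_mk hs')] at h1
      simp only [sub_mul, Finset.sum_sub_distrib]
      rw [← h1]
      simp [φ]
  obtain ⟨a, ha, hha⟩ := S.pow
  have hh2 : 2 ∣ h := hha ▸ dvd_pow_self 2 (show a ≠ 0 by omega)
  have hhb : (((h / 2 : ℕ) : ℤ)) * 2 = h := by exact_mod_cast Nat.div_mul_cancel hh2
  rcases hsh with ⟨hl, φb, c, hc, hg, hu⟩ | ⟨hl, hb2, φb, c, hc, g0, g1, g01⟩ |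
    ⟨hl, φb, c, hc, g0, g1, g2, g01, g02, g12⟩
  · obtain ⟨φ, d, Z, hgram, hinfl⟩ := hbar φb c hl hc
    have hG0 : intGram B d 0 0 = 4 * (h : ℤ) := by rw [hgram, hg]; linear_combination 4 * hhb
    refine ⟨Or.inl ⟨φ, d, Z, hG0⟩, fun _ => ?_⟩
    refine ⟨H.image fun x : bb => BlocksDefect.inflate Q (x : IrrCharacter (K ⧸ Q)), ?_, ?_⟩
    · rw [Finset.card_image_of_injective _ fun x y q => Subtype.ext (Subtype.ext (funext fun w => by
        obtain ⟨g, rfl⟩ := QuotientGroup.mk_surjective w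
        exact congrFun (congrArg Subtype.val q) g)), hH4]
    · intro χ hχ
      obtain ⟨x, hx, rfl⟩ := Finset.mem_image.mp hχ
      have hη := (hmem _).mp x.2
      refine ⟨hη, (hH x hx).1, ?_⟩
      have hd : d (BlocksDefect.inflate Q (x : IrrCharacter (K ⧸ Q))) 0 = c x 0 := by
        have h1 := Z.indep (w := fun i => (d (BlocksDefect.inflate Q (x : IrrCharacter (K ⧸ Q))) i : ℂ) - (c x i : ℂ))
          (hinfl x)
        have h2 := congrFun h1 0
        simp only [Pi.zero_apply, sub_eq_zero] at h2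
        exact_mod_cast h2
      have hY : (1 : Matrix (Fin 1) (Fin 1) ℤ) * intGram B d = (4 * (h : ℤ)) • (1 : Matrix (Fin 1) (Fin 1) ℤ) := by
        ext i j
        rw [Subsingleton.elim i 0, Subsingleton.elim j 0, Matrix.one_mul, hG0]
        simp
      have h3 := Z.contrib hY hη hη
      simp only [Fin.sum_univ_one, Matrix.one_apply_eq, mul_one, hd] at h3
      rw [show c x 0 * c x 0 = 1 by rw [← pow_two]; exact hu x (hH x hx).2] at h3
      push_cast at h3
      rw [mul_one] at h3
      exact h3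
  · obtain ⟨φ, d, Z, hgram, -⟩ := hbar φb c hl hc
    refine ⟨Or.inr (Or.inl ⟨by omega, φ, d, Z, ?_, ?_, ?_⟩), fun q => absurd (hrk.symm.trans q) (by omega)⟩
    · rw [hgram, g0]; linear_combination hhb
    · rw [hgram, g1]; linear_combination hhb
    · rw [hgram, g01]; linear_combination hhb
  · obtain ⟨φ, d, Z, hgram, -⟩ := hbar φb c hl hc
    refine ⟨Or.inr (Or.inr ⟨φ, d, Z, ?_, ?_, ?_, ?_, ?_, ?_⟩), fun q => absurd (hrk.symm.trans q) (by omega)⟩
    · rw [hgram, g0]; linear_combination hhb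
    · rw [hgram, g1]; linear_combination hhb
    · rw [hgram, g2]; rfl
    · rw [hgram, g01]; linear_combination hhb
    · rw [hgram, g02]; rfl
    · rw [hgram, g12]; rfl

end Cfsg.Agent.BC84.Tame
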